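import Mathlib.RingTheory.DiscreteValuationRing.TFAE
import Mathlib.RingTheory.Filtration

set_option autoImplicit false

namespace Groth.Agent.Lib.Helper7

open IsLocalRing

universe u

/-- In a Noetherian local ring whose maximal ideal is generated by `t`, every nonzero element is a
unit times a power of `t`. -/
theorem exists_unit_mul_pow_of_maximalIdeal_eq_span {R : Type u} [CommRing R] [IsNoetherianRing R]
    [IsLocalRing R] (t : R) (hm : maximalIdeal R = Ideal.span {t}) (x : R) (hx : x ≠ 0) :
    ∃ (u : R) (n : ℕ), IsUnit u ∧ x = u * t ^ n := by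
  have hK : ⨅ i, maximalIdeal R ^ i = ⊥ :=
    Ideal.iInf_pow_eq_bot_of_isLocalRing _ (Ideal.IsMaximal.ne_top inferInstance)
  have hex : ∃ n, x ∉ maximalIdeal R ^ n := by
    by_contra hcon
    push Not at hcon
    apply hx
    have : x ∈ ⨅ i, maximalIdeal R ^ i := by
      rw [Ideal.mem_iInf]
      exact hcon
    rw [hK] at this
    simpa using this
  classical
  have hn0 : Nat.find hex ≠ 0 := by
    intro h0
    have := Nat.find_spec hex
    rw [h0, pow_zero, Ideal.one_eq_top] at this
    exact this trivial
  obtain ⟨n, hn⟩ := Nat.exists_eq_succ_of_ne_zero hn0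
  have h1 : x ∈ maximalIdeal R ^ n := by
    by_contra hcon
    exact Nat.find_min hex (by omega : n < Nat.find hex) hcon
  have h2 : x ∉ maximalIdeal R ^ (n + 1) := by
    have := Nat.find_spec hex
    rwa [hn] at this
  rw [hm, Ideal.span_singleton_pow, Ideal.mem_span_singleton'] at h1
  obtain ⟨u, hu⟩ := h1
  refine ⟨u, n, ?_, hu.symm⟩
  by_contra hunit
  have hum : u ∈ maximalIdeal R := (mem_maximalIdeal u).mpr hunit
  apply h2
  rw [pow_succ, ← hu, mul_comm u]
  refine Ideal.mul_mem_mul ?_ hum
  rw [hm, Ideal.span_singleton_pow]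
  exact Ideal.mem_span_singleton_self _

/-- A Noetherian local ring whose maximal ideal is generated by a nonzerodivisor is a domain. -/
theorem isDomain_of_maximalIdeal_eq_span_nonZeroDivisor {R : Type u} [CommRing R]
    [IsNoetherianRing R] [IsLocalRing R] (t : R) (ht : t ∈ nonZeroDivisors R)
    (hm : maximalIdeal R = Ideal.span {t}) : IsDomain R := by
  have : NoZeroDivisors R := by
    constructor
    intro x y hxy
    by_contra hcon
    push Not at hcon
    obtain ⟨u, a, hu, rfl⟩ := exists_unit_mul_pow_of_maximalIdeal_eq_span t hm x hcon.1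
    obtain ⟨v, b, hv, rfl⟩ := exists_unit_mul_pow_of_maximalIdeal_eq_span t hm y hcon.2
    have h1 : (u * v) * t ^ (a + b) = 0 := by
      rw [← hxy, pow_add]; ring
    have h2 : t ^ (a + b) = 0 := by
      have := (hu.mul hv).mul_right_eq_zero.mp h1
      exact this
    have h3 : t ^ (a + b) ∈ nonZeroDivisors R := pow_mem ht _
    rw [h2] at h3
    exact zero_notMem_nonZeroDivisors h3
  exact NoZeroDivisors.to_isDomain R

/-- A Noetherian local ring whose maximal ideal is generated by a nonzerodivisor is a discrete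
valuation ring. -/
theorem isDiscreteValuationRing_of_maximalIdeal_eq_span_nonZeroDivisor {R : Type u} [CommRing R]
    [IsNoetherianRing R] [IsLocalRing R] (t : R) (ht : t ∈ nonZeroDivisors R)
    (hm : maximalIdeal R = Ideal.span {t}) :
    ∃ _ : IsDomain R, IsDiscreteValuationRing R := by
  have hdom := isDomain_of_maximalIdeal_eq_span_nonZeroDivisor t ht hm
  refine ⟨hdom, ?_⟩
  have hpr : (maximalIdeal R).IsPrincipal := ⟨⟨t, hm⟩⟩
  have hpid : IsPrincipalIdealRing R :=
    ((_root_.tfae_of_isNoetherianRing_of_isLocalRing_of_isDomain (R := R)).out 4 0).mp hpr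
  refine { not_a_field' := ?_ }
  rw [hm, ne_eq, Ideal.span_singleton_eq_bot]
  rintro rfl
  exact zero_notMem_nonZeroDivisors ht

end Groth.Agent.Lib.Helper7
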