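import Mathlib
import Groth.Agent.Lib.Helper3.EtaleQuotLift
import Groth.Agent.Lib.Helper3.EtaleSection2
import Groth.Agent.Lib.Helper3.EtaleLocalQuot

/-!
# Lifting sections of smooth algebras along Henselian pairs (helper7)

Let `B` be a smooth `A`-algebra, `I` an ideal of `A` and `σ : B → A/I` an `A`-algebra map.

* `exists_etale_factor`: `σ` factors through an étale `A`-algebra `A''` equipped with an `A`-algebra
  map `A'' → A/I` (no Henselian hypothesis).
* `exists_algHom_lift_of_smooth`: if `A` is Henselian at `I`, `σ` lifts to `B → A`.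

The proof is an explicit "Newton/tubular neighbourhood" construction avoiding symmetric algebras:
write `B = A[x₁..xₙ]/J`; formal smoothness gives `G₁..Gₙ ∈ J` with
`f ≡ ∑ ∂ᵢf Gᵢ mod J²` for all `f ∈ J`.  For a lift `a ∈ Aⁿ` of `σ(x)`, the square system
`Fᵢ = Gᵢ + (aᵢ - xᵢ) - ∑ⱼ ∂ⱼGᵢ (aⱼ - xⱼ)` has Jacobian `2Q - 1` (`Q = (∂ⱼGᵢ)` idempotent mod `J`)
along `x = a`, hence invertible there, and every solution `b` of `F = 0` satisfies
`J(b) ⊆ J(b)·(J(b) + (a - b))`, so that `J(b) = 0` by Nakayama.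
-/

set_option autoImplicit false

open MvPolynomial

namespace Groth.Agent.Lib.Helper7.SmoothPairLift

universe u

section Taylor

variable {A : Type*} [CommRing A] {ι : Type*}
  {C : Type*} [CommRing C] [Algebra A C]

theorem aeval_sub_aeval_mem (K : Ideal C) (u v : ι → C) (h : ∀ i, u i - v i ∈ K)
    (f : MvPolynomial ι A) : aeval u f - aeval v f ∈ K := by
  have : (Ideal.Quotient.mkₐ A K).comp (aeval u) = (Ideal.Quotient.mkₐ A K).comp (aeval v) := by
    apply MvPolynomial.algHom_ext
    intro i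
    simp only [AlgHom.comp_apply, aeval_X, Ideal.Quotient.mkₐ_eq_mk]
    exact Ideal.Quotient.eq.mpr (h i)
  have h2 := DFunLike.congr_fun this f
  simp only [AlgHom.comp_apply, Ideal.Quotient.mkₐ_eq_mk] at h2
  exact Ideal.Quotient.eq.mp h2

variable [Fintype ι] [DecidableEq ι]

/-- First order Taylor expansion of a multivariate polynomial. -/
theorem taylor_one (K : Ideal C) (u v : ι → C) (h : ∀ i, u i - v i ∈ K)
    (f : MvPolynomial ι A) :
    aeval u f - aeval v f - ∑ i, aeval v (pderiv i f) * (u i - v i) ∈ K ^ 2 := by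
  induction f using MvPolynomial.induction_on with
  | C a => simp
  | add p q hp hq =>
    have := Ideal.add_mem _ hp hq
    convert this using 1
    simp only [map_add, add_mul, Finset.sum_add_distrib]
    ring
  | mul_X p k hp =>
    have hΔ := aeval_sub_aeval_mem K u v h p
    have hsum : ∑ i, aeval v (pderiv i (p * X k)) * (u i - v i) =
        v k * ∑ i, aeval v (pderiv i p) * (u i - v i) + aeval v p * (u k - v k) := by
      have : ∀ i, aeval v (pderiv i (p * X k)) * (u i - v i) =
          v k * (aeval v (pderiv i p) * (u i - v i)) +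
            (if i = k then aeval v p * (u k - v k) else 0) := by
        intro i
        rw [Derivation.leibniz, pderiv_X]
        by_cases hik : i = k
        · subst hik
          simp only [Pi.single_eq_same, smul_eq_mul, map_add, map_mul, aeval_X, if_true, mul_one]
          ring
        · have : (Pi.single (M := fun _ => MvPolynomial ι A) i 1 k) = 0 :=
            Pi.single_eq_of_ne (Ne.symm hik) _
          rw [this]
          simp only [smul_eq_mul, map_mul, aeval_X, if_neg hik, mul_zero, add_zero, zero_add]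
          ring
      simp only [this, Finset.sum_add_distrib, Finset.mul_sum, Finset.sum_ite_eq', Finset.mem_univ,
        if_true]
    have key : aeval u (p * X k) - aeval v (p * X k) -
        ∑ i, aeval v (pderiv i (p * X k)) * (u i - v i) =
        v k * (aeval u p - aeval v p - ∑ i, aeval v (pderiv i p) * (u i - v i)) +
          (aeval u p - aeval v p) * (u k - v k) := by
      rw [hsum]
      simp only [map_mul, aeval_X]
      ring
    rw [key]
    refine Ideal.add_mem _ (Ideal.mul_mem_left _ _ hp) ?_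
    rw [pow_two]
    exact Ideal.mul_mem_mul hΔ (h k)

/-- Partial derivatives map `J²` into `J`. -/
theorem pderiv_mem_of_mem_sq (J : Ideal (MvPolynomial ι A)) {r : MvPolynomial ι A}
    (hr : r ∈ J ^ 2) (l : ι) : pderiv l r ∈ J := by
  rw [pow_two] at hr
  refine Submodule.mul_induction_on hr ?_ ?_
  · intro p hp q hq
    rw [Derivation.leibniz]
    exact Ideal.add_mem _ (Ideal.mul_mem_right _ _ hp) (Ideal.mul_mem_right _ _ hq)
  · intro p q hp hq
    rw [map_add]
    exact Ideal.add_mem _ hp hq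

end Taylor

section System

variable {A : Type u} [CommRing A] {n : ℕ}

/-- The Newton-type square system attached to `G` and a point `a`. -/
noncomputable def Fsys (G : Fin n → MvPolynomial (Fin n) A) (a : Fin n → A) (i : Fin n) :
    MvPolynomial (Fin n) A :=
  G i + (C (a i) - X i) - ∑ j, pderiv j (G i) * (C (a j) - X j)

variable (J : Ideal (MvPolynomial (Fin n) A)) (G : Fin n → MvPolynomial (Fin n) A)

/-- The first order retraction property of `G` with respect to `J`. -/
def Star : Prop := (∀ i, G i ∈ J) ∧ ∀ f ∈ J, f - ∑ i, pderiv i f * G i ∈ J ^ 2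

variable {J G}

theorem Star.deriv (h : Star J G) {f : MvPolynomial (Fin n) A} (hf : f ∈ J) (l : Fin n) :
    pderiv l f - ∑ i, pderiv i f * pderiv l (G i) ∈ J := by
  have h1 := pderiv_mem_of_mem_sq J (h.2 f hf) l
  have h2 : pderiv l (f - ∑ i, pderiv i f * G i) =
      (pderiv l f - ∑ i, pderiv i f * pderiv l (G i)) - ∑ i, G i * pderiv l (pderiv i f) := by
    rw [map_sub, map_sum]
    simp only [Derivation.leibniz, smul_eq_mul, Finset.sum_add_distrib]
    ring
  have h3 : ∑ i, G i * pderiv l (pderiv i f) ∈ J :=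
    Ideal.sum_mem _ fun i _ => Ideal.mul_mem_right _ _ (h.1 i)
  have h4 : pderiv l f - ∑ i, pderiv i f * pderiv l (G i) =
      pderiv l (f - ∑ i, pderiv i f * G i) + ∑ i, G i * pderiv l (pderiv i f) := by
    rw [h2]; ring
  rw [h4]
  exact Ideal.add_mem _ h1 h3

theorem map_le_mul (h : Star J G) (a : Fin n → A) {C' : Type*} [CommRing C'] [Algebra A C']
    (ψ : MvPolynomial (Fin n) A →ₐ[A] C') (hψ : ∀ i, ψ (Fsys G a i) = 0) :
    J.map ψ ≤ J.map ψ *
      (J.map ψ ⊔ Ideal.span (Set.range fun j => algebraMap A C' (a j) - ψ (X j))) := by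
  set d : Fin n → C' := fun j => algebraMap A C' (a j) - ψ (X j) with hd
  set 𝔞 := J.map ψ with h𝔞
  set 𝔡 := Ideal.span (Set.range d) with h𝔡
  have hJ𝔞 : ∀ f ∈ J, ψ f ∈ 𝔞 := fun f hf => Ideal.mem_map_of_mem _ hf
  have hsq : ∀ r ∈ J ^ 2, ψ r ∈ 𝔞 * (𝔞 ⊔ 𝔡) := by
    intro r hr
    have h1 : ψ r ∈ (J ^ 2).map ψ := Ideal.mem_map_of_mem _ hr
    rw [Ideal.map_pow, pow_two] at h1
    exact Ideal.mul_mono_right le_sup_left h1
  have hd𝔡 : ∀ j, d j ∈ 𝔡 := fun j => Ideal.subset_span ⟨j, rfl⟩
  have hψd : ∀ j, ψ (C (a j) - X j) = d j := by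
    intro j
    rw [map_sub, ← MvPolynomial.algebraMap_eq, AlgHom.commutes]
  -- the value of `ψ (G i)` from the equations
  have eq2 : ∀ i, ψ (G i) = - d i + ∑ j, ψ (pderiv j (G i)) * d j := by
    intro i
    have := hψ i
    rw [Fsys, map_sub, map_add, map_sum, hψd] at this
    simp only [map_mul, hψd] at this
    linear_combination this
  have step1 : ∀ k, ψ (G k) ∈ 𝔞 * (𝔞 ⊔ 𝔡) := by
    intro k
    have hr := hsq _ (h.2 (G k) (h.1 k))
    have he : ∀ j, ψ (pderiv j (G k) - ∑ i, pderiv i (G k) * pderiv j (G i)) * d j ∈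
        𝔞 * (𝔞 ⊔ 𝔡) := fun j =>
      Ideal.mul_mem_mul (hJ𝔞 _ (h.deriv (h.1 k) j)) (Ideal.mem_sup_right (hd𝔡 j))
    have key : ψ (G k) = ψ (G k - ∑ i, pderiv i (G k) * G i) -
        ∑ j, ψ (pderiv j (G k) - ∑ i, pderiv i (G k) * pderiv j (G i)) * d j := by
      have e1 : ∑ i, ψ (pderiv i (G k)) * ψ (G i) =
          - ∑ i, ψ (pderiv i (G k)) * d i +
            ∑ i, ∑ j, ψ (pderiv i (G k)) * ψ (pderiv j (G i)) * d j := by
        rw [← Finset.sum_neg_distrib, ← Finset.sum_add_distrib]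
        refine Finset.sum_congr rfl fun i _ => ?_
        rw [eq2 i, mul_add, Finset.mul_sum]
        congr 1
        · ring
        · refine Finset.sum_congr rfl fun j _ => ?_
          ring
      have e2 : ∑ j, ψ (pderiv j (G k) - ∑ i, pderiv i (G k) * pderiv j (G i)) * d j =
          ∑ j, ψ (pderiv j (G k)) * d j -
            ∑ i, ∑ j, ψ (pderiv i (G k)) * ψ (pderiv j (G i)) * d j := by
        rw [Finset.sum_comm (γ := Fin n) (α := Fin n), ← Finset.sum_sub_distrib]
        refine Finset.sum_congr rfl fun j _ => ?_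
        rw [map_sub, map_sum, sub_mul, Finset.sum_mul]
        simp only [map_mul]
      rw [map_sub, map_sum, e2]
      simp only [map_mul]
      rw [e1]
      ring
    rw [key]
    exact Ideal.sub_mem _ hr (Ideal.sum_mem _ fun j _ => he j)
  rw [Ideal.map_le_iff_le_comap]
  intro f hf
  rw [Ideal.mem_comap]
  have hr := hsq _ (h.2 f hf)
  have key : ψ f = ψ (f - ∑ i, pderiv i f * G i) + ∑ i, ψ (pderiv i f) * ψ (G i) := by
    rw [map_sub, map_sum]
    simp only [map_mul]
    ring
  have : ψ (f - ∑ i, pderiv i f * G i) + ∑ i, ψ (pderiv i f) * ψ (G i) ∈ 𝔞 * (𝔞 ⊔ 𝔡) :=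
    Ideal.add_mem _ hr
      (Ideal.sum_mem _ fun i _ => Ideal.mul_mem_left _ (ψ (pderiv i f)) (step1 i))
  rw [← key] at this
  exact this

theorem pderiv_Fsys (a : Fin n → A) (i l : Fin n) :
    pderiv l (Fsys G a i) = pderiv l (G i) + pderiv l (G i) - (if i = l then 1 else 0) -
      ∑ j, (C (a j) - X j) * pderiv l (pderiv j (G i)) := by
  have hX : ∀ j, pderiv l (C (a j) - X j : MvPolynomial (Fin n) A) =
      - (if j = l then 1 else 0) := by
    intro j
    rw [map_sub, pderiv_C, pderiv_X, Pi.single_apply, zero_sub]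
  rw [Fsys, map_sub, map_add, map_sum, hX]
  have : ∑ j, pderiv l (pderiv j (G i) * (C (a j) - X j)) =
      ∑ j, (C (a j) - X j) * pderiv l (pderiv j (G i)) - pderiv l (G i) := by
    have : ∀ j, pderiv l (pderiv j (G i) * (C (a j) - X j)) =
        (C (a j) - X j) * pderiv l (pderiv j (G i)) - (if j = l then pderiv l (G i) else 0) := by
      intro j
      rw [Derivation.leibniz, hX]
      by_cases hjl : j = l
      · subst hjl; simp only [if_true, smul_eq_mul]; ring
      · simp only [if_neg hjl, smul_eq_mul]; ring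
    simp only [this, Finset.sum_sub_distrib, Finset.sum_ite_eq', Finset.mem_univ, if_true]
  rw [this]
  ring

theorem jacobian_sq (h : Star J G) (a : Fin n → A) {D : Type*} [CommRing D]
    (ρ : MvPolynomial (Fin n) A →+* D) (hρJ : ∀ f ∈ J, ρ f = 0)
    (hρa : ∀ j, ρ (C (a j) - X j) = 0) :
    (ρ (Matrix.det (Matrix.of fun i l => pderiv l (Fsys G a i)))) ^ 2 = 1 := by
  set Q : Matrix (Fin n) (Fin n) D := Matrix.of fun i l => ρ (pderiv l (G i)) with hQ
  have hQQ : Q * Q = Q := by
    ext k l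
    rw [Matrix.mul_apply]
    have := hρJ _ (h.deriv (h.1 k) l)
    rw [map_sub, map_sum, sub_eq_zero] at this
    simp only [map_mul] at this
    simp only [hQ, Matrix.of_apply]
    exact this.symm
  have hM : ρ.mapMatrix (Matrix.of fun i l => pderiv l (Fsys G a i)) = Q + Q - 1 := by
    ext i l
    simp only [RingHom.mapMatrix_apply, Matrix.map_apply, Matrix.of_apply, pderiv_Fsys,
      Matrix.sub_apply, Matrix.add_apply, Matrix.one_apply, hQ]
    rw [map_sub, map_sub, map_add, map_sum]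
    have : ∑ j, ρ ((C (a j) - X j) * pderiv l (pderiv j (G i))) = 0 :=
      Finset.sum_eq_zero fun j _ => by rw [map_mul, hρa, zero_mul]
    rw [this, sub_zero]
    congr 1
    split_ifs <;> simp
  rw [RingHom.map_det, hM, pow_two, ← Matrix.det_mul]
  have : (Q + Q - 1) * (Q + Q - 1) = 1 := by
    have e : (Q + Q - 1) * (Q + Q - 1) = (Q * Q + Q * Q + Q * Q + Q * Q) - (Q + Q + Q + Q) + 1 := by
      noncomm_ring
    rw [e, hQQ]
    abel
  rw [this, Matrix.det_one]

end System

section Main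

variable {A : Type u} [CommRing A] {B : Type u} [CommRing B] [Algebra A B]

/-- Formal smoothness gives the first order retraction data. -/
theorem exists_star [Algebra.FormallySmooth A B] {n : ℕ}
    (π : MvPolynomial (Fin n) A →ₐ[A] B) (hπ : Function.Surjective π) :
    ∃ G : Fin n → MvPolynomial (Fin n) A, Star (RingHom.ker π.toRingHom) G := by
  set J := RingHom.ker π.toRingHom with hJ
  obtain ⟨g, hg⟩ := (Algebra.FormallySmooth.iff_split_surjection π hπ).mp inferInstance
  choose y hy using fun i => Ideal.Quotient.mk_surjective (g (π (X i)))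
  have hπy : ∀ i, π (y i) = π (X i) := by
    intro i
    have h1 : π.kerSquareLift (Ideal.Quotient.mk _ (y i)) = π (y i) := π.kerSquareLift_mk (y i)
    rw [← h1, hy i]
    exact DFunLike.congr_fun hg (π (X i))
  have hcomp : (Ideal.Quotient.mkₐ A (J ^ 2)).comp (aeval y) = g.comp π := by
    apply MvPolynomial.algHom_ext
    intro i
    simp only [AlgHom.comp_apply, aeval_X, Ideal.Quotient.mkₐ_eq_mk]
    exact hy i
  have hyJ : ∀ i, y i - X i ∈ J := by
    intro i
    rw [hJ, RingHom.mem_ker]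
    change π (y i - X i) = 0
    rw [map_sub, hπy, sub_self]
  refine ⟨fun i => X i - y i, fun i => ?_, fun f hf => ?_⟩
  · have := hyJ i
    show X i - y i ∈ J
    rw [← neg_sub]
    exact J.neg_mem this
  · have h1 : aeval y f ∈ J ^ 2 := by
      have h2 := DFunLike.congr_fun hcomp f
      simp only [AlgHom.comp_apply, Ideal.Quotient.mkₐ_eq_mk] at h2
      have h3 : π f = 0 := hf
      rw [h3, map_zero] at h2
      exact Ideal.Quotient.eq_zero_iff_mem.mp h2
    have h2 := taylor_one (A := A) J y X hyJ f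
    simp only [aeval_X_left_apply] at h2
    have h3 : f - ∑ i, pderiv i f * (X i - y i) =
        aeval y f - (aeval y f - f - ∑ i, pderiv i f * (y i - X i)) := by
      have : ∑ i, pderiv i f * (X i - y i) = - ∑ i, pderiv i f * (y i - X i) := by
        rw [← Finset.sum_neg_distrib]
        refine Finset.sum_congr rfl fun i _ => ?_
        ring
      rw [this]
      ring
    rw [h3]
    exact Ideal.sub_mem _ h1 h2

/-- **Sections of smooth algebras modulo an ideal factor through étale algebras**: if `B` is a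
smooth `A`-algebra and `σ : B → A/I` an `A`-algebra map, there is an étale `A`-algebra `A''` with
an `A`-algebra map `σ'' : A'' → A/I` and a factorization `σ = σ'' ∘ β`. -/
theorem exists_etale_factor [Algebra.Smooth A B] (I : Ideal A) (σ : B →ₐ[A] A ⧸ I) :
    ∃ (A'' : Type u) (_ : CommRing A'') (_ : Algebra A A'') (_ : Algebra.Etale A A'')
      (σ'' : A'' →ₐ[A] A ⧸ I) (β : B →ₐ[A] A''), σ''.comp β = σ := by
  classical
  obtain ⟨n, π, hπ, hfg⟩ := (inferInstance : Algebra.FinitePresentation A B).out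
  obtain ⟨G, hStar⟩ := exists_star π hπ
  set J := RingHom.ker π.toRingHom with hJ
  choose a ha using fun i => Ideal.Quotient.mk_surjective (σ (π (X i)))
  set F := Fsys G a with hF
  -- the evaluation at `a` modulo `I`
  let ρ : MvPolynomial (Fin n) A →ₐ[A] A ⧸ I := aeval fun i => Ideal.Quotient.mk I (a i)
  have hρ : ρ = σ.comp π := by
    apply MvPolynomial.algHom_ext
    intro i
    simp only [ρ, aeval_X, AlgHom.comp_apply]
    exact ha i
  have hρJ : ∀ f ∈ J, ρ f = 0 := by
    intro f hf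
    have h3 : π f = 0 := hf
    rw [hρ, AlgHom.comp_apply, h3, map_zero]
  have hρa : ∀ j, ρ (C (a j) - X j) = 0 := by
    intro j
    simp only [ρ, map_sub, aeval_C, aeval_X]
    exact sub_self _
  have hρF : ∀ i, ρ (F i) = 0 := by
    intro i
    rw [hF, Fsys, map_sub, map_add, map_sum, hρJ _ (hStar.1 i), hρa, add_zero, zero_sub,
      neg_eq_zero]
    exact Finset.sum_eq_zero fun j _ => by rw [map_mul, hρa, mul_zero]
  -- the étale algebra `A₁`
  let D₀ := MvPolynomial (Fin n) A ⧸ Ideal.span (Set.range F)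
  let A₁ := Groth.Agent.Lib.Helper3.JacLoc F id Function.injective_id
  have hA₁ : Algebra.Etale A A₁ := Groth.Agent.Lib.Helper3.etale_jacLoc F id Function.injective_id rfl
  let ρ' : D₀ →ₐ[A] A ⧸ I := Ideal.Quotient.liftₐ (Ideal.span (Set.range F)) ρ (by
    intro x hx
    have : Ideal.span (Set.range F) ≤ RingHom.ker ρ.toRingHom := by
      rw [Ideal.span_le]
      rintro _ ⟨j, rfl⟩
      exact hρF j
    exact this hx)
  have hρ' : ∀ p, ρ' (Ideal.Quotient.mk _ p) = ρ p := fun p => rfl
  have hjac : IsUnit (ρ' (Groth.Agent.Lib.Helper3.naivePres F id Function.injective_id).jacobian) := by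
    rw [Algebra.PreSubmersivePresentation.jacobian_eq_jacobiMatrix_det]
    have h0 : algebraMap (Groth.Agent.Lib.Helper3.naivePres F id Function.injective_id).Ring D₀
        (Groth.Agent.Lib.Helper3.naivePres F id Function.injective_id).jacobiMatrix.det =
        Ideal.Quotient.mk _
          (Groth.Agent.Lib.Helper3.naivePres F id Function.injective_id).jacobiMatrix.det := rfl
    rw [h0, hρ']
    have h1 : (Groth.Agent.Lib.Helper3.naivePres F id Function.injective_id).jacobiMatrix =
        (Matrix.of fun i l => pderiv l (Fsys G a i)).transpose := by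
      ext i j
      rw [Algebra.PreSubmersivePresentation.jacobiMatrix_apply]
      rfl
    rw [h1, Matrix.det_transpose]
    have h2 := jacobian_sq hStar a ρ.toRingHom hρJ hρa
    exact IsUnit.of_pow_eq_one h2 two_ne_zero
  let σ₁ : A₁ →ₐ[A] A ⧸ I := IsLocalization.Away.liftAlgHom
    (Groth.Agent.Lib.Helper3.naivePres F id Function.injective_id).jacobian (f := ρ') hjac
  have hσ₁ : ∀ d : D₀, σ₁ (algebraMap D₀ A₁ d) = ρ' d := fun d =>
    IsLocalization.Away.lift_eq _ hjac d
  let ψ₁ : MvPolynomial (Fin n) A →ₐ[A] A₁ :=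
    (IsScalarTower.toAlgHom A D₀ A₁).comp (Ideal.Quotient.mkₐ A (Ideal.span (Set.range F)))
  have hψ₁ : ∀ p, σ₁ (ψ₁ p) = ρ p := fun p => hσ₁ _
  have hψ₁F : ∀ i, ψ₁ (F i) = 0 := by
    intro i
    have : Ideal.Quotient.mk (Ideal.span (Set.range F)) (F i) = 0 :=
      Ideal.Quotient.eq_zero_iff_mem.mpr (Ideal.subset_span ⟨i, rfl⟩)
    change IsScalarTower.toAlgHom A D₀ A₁ (Ideal.Quotient.mk _ (F i)) = 0
    rw [this, map_zero]
  -- Nakayama
  have hle := map_le_mul hStar a ψ₁ hψ₁F
  set 𝔞 := J.map ψ₁ with h𝔞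
  set 𝔷 := RingHom.ker σ₁.toRingHom with h𝔷
  have h𝔞𝔷 : 𝔞 ≤ 𝔷 := by
    rw [h𝔞, Ideal.map_le_iff_le_comap]
    intro f hf
    rw [Ideal.mem_comap, h𝔷, RingHom.mem_ker]
    exact (hψ₁ f).trans (hρJ f hf)
  have h𝔡𝔷 : Ideal.span (Set.range fun j => algebraMap A A₁ (a j) - ψ₁ (X j)) ≤ 𝔷 := by
    rw [Ideal.span_le]
    rintro _ ⟨j, rfl⟩
    rw [h𝔷, SetLike.mem_coe, RingHom.mem_ker]
    change σ₁ (algebraMap A A₁ (a j) - ψ₁ (X j)) = 0
    rw [map_sub, AlgHom.commutes, hψ₁]
    simp only [ρ, aeval_X]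
    exact sub_self _
  have hle' : 𝔞 ≤ 𝔷 • 𝔞 := by
    refine hle.trans ?_
    rw [smul_eq_mul, mul_comm]
    exact Ideal.mul_mono_left (sup_le h𝔞𝔷 h𝔡𝔷)
  have h𝔞fg : 𝔞.FG := hfg.map _
  obtain ⟨g, hg1, hg0⟩ :=
    Submodule.exists_sub_one_mem_and_smul_eq_zero_of_fg_of_le_smul 𝔷 𝔞 h𝔞fg hle'
  have hσ₁g : σ₁ g = 1 := by
    have : σ₁ (g - 1) = 0 := hg1
    rw [map_sub, map_one, sub_eq_zero] at this
    exact this
  -- the final étale algebra
  let A₂ := Localization.Away g
  have hA₂ : Algebra.Etale A A₂ := inferInstance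
  have hσ₁gu : IsUnit (σ₁ g) := by rw [hσ₁g]; exact isUnit_one
  let σ₂ : A₂ →ₐ[A] A ⧸ I := IsLocalization.Away.liftAlgHom g (f := σ₁) hσ₁gu
  have hσ₂ : ∀ x : A₁, σ₂ (algebraMap A₁ A₂ x) = σ₁ x := fun x =>
    IsLocalization.Away.lift_eq g hσ₁gu x
  let ψ₂ : MvPolynomial (Fin n) A →ₐ[A] A₂ := (IsScalarTower.toAlgHom A A₁ A₂).comp ψ₁
  have hψ₂J : ∀ f ∈ J, ψ₂ f = 0 := by
    intro f hf
    have h1 : g * ψ₁ f = 0 := hg0 _ (Ideal.mem_map_of_mem _ hf)
    have h2 : algebraMap A₁ A₂ g * algebraMap A₁ A₂ (ψ₁ f) = 0 := by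
      rw [← map_mul, h1, map_zero]
    have hu : IsUnit (algebraMap A₁ A₂ g) := IsLocalization.Away.algebraMap_isUnit g
    exact (hu.mul_right_eq_zero).mp h2
  let β₀ : (MvPolynomial (Fin n) A ⧸ RingHom.ker π) →ₐ[A] A₂ :=
    Ideal.Quotient.liftₐ (RingHom.ker π) ψ₂ (fun f hf => hψ₂J f hf)
  let β : B →ₐ[A] A₂ := β₀.comp (Ideal.quotientKerAlgEquivOfSurjective hπ).symm.toAlgHom
  have hβ : ∀ p, β (π p) = ψ₂ p := by
    intro p
    have : (Ideal.quotientKerAlgEquivOfSurjective hπ).symm (π p) = Ideal.Quotient.mk _ p := by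
      rw [AlgEquiv.symm_apply_eq]
      rfl
    show β₀ ((Ideal.quotientKerAlgEquivOfSurjective hπ).symm (π p)) = ψ₂ p
    rw [this]
    rfl
  refine ⟨A₂, inferInstance, inferInstance, hA₂, σ₂, β, ?_⟩
  rw [← AlgHom.cancel_right hπ]
  rw [← hρ]
  apply AlgHom.ext
  intro p
  rw [AlgHom.comp_apply, AlgHom.comp_apply, hβ]
  change σ₂ (algebraMap A₁ A₂ (ψ₁ p)) = ρ p
  rw [hσ₂, hψ₁]

/-- **Smooth lifting for Henselian pairs**: if `A` is Henselian at `I` and `B` is a smooth
`A`-algebra, every `A`-algebra map `B → A/I` lifts to `B → A`. -/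
theorem exists_algHom_lift_of_smooth [Algebra.Smooth A B] (I : Ideal A) [HenselianRing A I]
    (σ : B →ₐ[A] A ⧸ I) : ∃ τ : B →ₐ[A] A, (Ideal.Quotient.mkₐ A I).comp τ = σ := by
  obtain ⟨A'', _, _, _, σ'', β, hβ⟩ := exists_etale_factor I σ
  obtain ⟨τ'', hτ''⟩ := Groth.Agent.Lib.Helper3.exists_algHom_lift_of_etale I A'' σ''
  exact ⟨τ''.comp β, by rw [← AlgHom.comp_assoc, hτ'', hβ]⟩

open TensorProduct in
/-- A section modulo `I` of an unramified algebra is cut out, modulo `I`, by one element. -/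
theorem exists_elem_of_section {A'' : Type u} [CommRing A''] [Algebra A A'']
    [Algebra.FormallyUnramified A A''] [Algebra.EssFiniteType A A''] (I : Ideal A)
    (σ'' : A'' →ₐ[A] A ⧸ I) :
    ∃ s : A'', σ'' s = 1 ∧ ∀ t : A'', σ'' t = 0 → t * s ∈ I.map (algebraMap A A'') := by
  obtain ⟨ε, hε1, hε2⟩ := Groth.Agent.Lib.Helper3.exists_elem_of_unramified_section σ''
  obtain ⟨s, rfl⟩ : ∃ s : A'', ε = s ⊗ₜ[A] (1 : A ⧸ I) := by
    obtain ⟨s, hs⟩ := Submodule.Quotient.mk_surjective _
      (TensorProduct.tensorQuotEquivQuotSMul A'' I ε)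
    refine ⟨s, ?_⟩
    rw [← TensorProduct.tensorQuotEquivQuotSMul_symm_mk I s, hs, LinearEquiv.symm_apply_apply]
  refine ⟨s, ?_, fun t ht => ?_⟩
  · rw [Algebra.TensorProduct.lift_tmul] at hε2
    simpa using hε2
  · have h1 := hε1 t
    rw [ht, TensorProduct.tmul_zero, zero_sub, neg_mul, neg_eq_zero,
      Algebra.TensorProduct.tmul_mul_tmul, mul_one] at h1
    have h2 := congrArg (TensorProduct.tensorQuotEquivQuotSMul A'' I) h1
    rw [← map_one (Ideal.Quotient.mk I), TensorProduct.tensorQuotEquivQuotSMul_tmul_mk, one_smul,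
      map_zero, Submodule.Quotient.mk_eq_zero, Ideal.smul_top_eq_map] at h2
    exact h2

/-- **Étale-local lifting of sections of smooth algebras** (Stacks 07M7): if `B` is a smooth
`A`-algebra and `σ : B → A/I` an `A`-algebra map, there is an étale `A`-algebra `A'` with
`A/I ≅ A'/IA'` and a lift `B → A'` of `σ`. -/
theorem exists_etale_lift_bijective [Algebra.Smooth A B] (I : Ideal A) (σ : B →ₐ[A] A ⧸ I) :
    ∃ (A' : Type u) (_ : CommRing A') (_ : Algebra A A'), Algebra.Etale A A' ∧
      Function.Bijective (algebraMap (A ⧸ I) (A' ⧸ I.map (algebraMap A A'))) ∧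
      ∃ τ : B →ₐ[A] A', ∀ b : B,
        Ideal.Quotient.mk (I.map (algebraMap A A')) (τ b) =
          algebraMap (A ⧸ I) (A' ⧸ I.map (algebraMap A A')) (σ b) := by
  obtain ⟨A'', _, _, hA'', σ'', β, hβ⟩ := exists_etale_factor I σ
  obtain ⟨s, hs1, hs0⟩ := exists_elem_of_section I σ''
  let A' := Localization.Away s
  have hA' : Algebra.Etale A A' := inferInstance
  have hsu : IsUnit (σ'' s) := by rw [hs1]; exact isUnit_one
  let σ' : A' →ₐ[A] A ⧸ I := IsLocalization.Away.liftAlgHom s (f := σ'') hsu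
  have hσ' : ∀ x : A'', σ' (algebraMap A'' A' x) = σ'' x := fun x =>
    IsLocalization.Away.lift_eq s hsu x
  have hmapmap : (I.map (algebraMap A A'')).map (algebraMap A'' A') = I.map (algebraMap A A') := by
    rw [Ideal.map_map, ← IsScalarTower.algebraMap_eq]
  -- the kernel of `σ'` is `I A'`
  have hker : ∀ x : A', σ' x = 0 → x ∈ I.map (algebraMap A A') := by
    intro x hx
    obtain ⟨t, ⟨_, k, rfl⟩, rfl⟩ := IsLocalization.exists_mk'_eq (Submonoid.powers s) x
    have h1 := IsLocalization.mk'_spec A' t (⟨s ^ k, k, rfl⟩ : Submonoid.powers s)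
    have h2 : σ'' t = 0 := by
      rw [← hσ', ← h1, map_mul, hx, zero_mul]
    have h3 := hs0 t h2
    have h4 : algebraMap A'' A' t * algebraMap A'' A' s ∈ I.map (algebraMap A A') := by
      rw [← map_mul, ← hmapmap]
      exact Ideal.mem_map_of_mem _ h3
    have hu : IsUnit (algebraMap A'' A' s) := IsLocalization.Away.algebraMap_isUnit s
    have h5 : algebraMap A'' A' t ∈ I.map (algebraMap A A') := by
      obtain ⟨u, hu⟩ := hu
      have : algebraMap A'' A' t = algebraMap A'' A' t * algebraMap A'' A' s * ↑u⁻¹ := by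
        rw [← hu, mul_assoc, Units.mul_inv, mul_one]
      rw [this]
      exact Ideal.mul_mem_right _ _ h4
    rw [IsLocalization.mk'_eq_mul_mk'_one]
    exact Ideal.mul_mem_right _ _ h5
  have key : ∀ (x : A') (a : A), σ' x = Ideal.Quotient.mk I a →
      Ideal.Quotient.mk (I.map (algebraMap A A')) x =
        algebraMap (A ⧸ I) (A' ⧸ I.map (algebraMap A A')) (Ideal.Quotient.mk I a) := by
    intro x a hxa
    have h1 : σ' (x - algebraMap A A' a) = 0 := by
      rw [map_sub, AlgHom.commutes, hxa]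
      exact sub_self _
    have h2 := hker _ h1
    have h3 : algebraMap (A ⧸ I) (A' ⧸ I.map (algebraMap A A')) (Ideal.Quotient.mk I a) =
        Ideal.Quotient.mk _ (algebraMap A A' a) := rfl
    rw [h3]
    exact Ideal.Quotient.eq.mpr h2
  refine ⟨A', inferInstance, inferInstance, hA', ⟨?_, ?_⟩, ?_⟩
  · -- injective
    intro z₁ z₂ hz
    obtain ⟨a₁, rfl⟩ := Ideal.Quotient.mk_surjective z₁
    obtain ⟨a₂, rfl⟩ := Ideal.Quotient.mk_surjective z₂
    have h3 : ∀ a : A, algebraMap (A ⧸ I) (A' ⧸ I.map (algebraMap A A')) (Ideal.Quotient.mk I a) =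
        Ideal.Quotient.mk _ (algebraMap A A' a) := fun _ => rfl
    rw [h3, h3, Ideal.Quotient.eq] at hz
    have hle : I.map (algebraMap A A') ≤ RingHom.ker σ'.toRingHom := by
      rw [Ideal.map_le_iff_le_comap]
      intro i hi
      rw [Ideal.mem_comap, RingHom.mem_ker]
      change σ' (algebraMap A A' i) = 0
      rw [AlgHom.commutes]
      exact Ideal.Quotient.eq_zero_iff_mem.mpr hi
    have h4 : σ' (algebraMap A A' a₁ - algebraMap A A' a₂) = 0 := hle hz
    rw [map_sub, AlgHom.commutes, AlgHom.commutes, sub_eq_zero] at h4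
    exact h4
  · -- surjective
    intro y
    obtain ⟨x, rfl⟩ := Ideal.Quotient.mk_surjective y
    obtain ⟨a, ha⟩ := Ideal.Quotient.mk_surjective (σ' x)
    exact ⟨Ideal.Quotient.mk I a, (key x a ha.symm).symm⟩
  · refine ⟨(IsScalarTower.toAlgHom A A'' A').comp β, fun b => ?_⟩
    obtain ⟨a, ha⟩ := Ideal.Quotient.mk_surjective (σ b)
    rw [← ha]
    apply key
    rw [ha, ← hβ]
    exact hσ' (β b)

end Main

end Groth.Agent.Lib.Helper7.SmoothPairLift
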