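import Mathlib.RingTheory.Flat.FaithfullyFlat.Algebra
import Mathlib.RingTheory.RingHom.Flat
import Mathlib.RingTheory.RingHom.FaithfullyFlat
import Mathlib.AlgebraicGeometry.Morphisms.Flat

set_option autoImplicit false

namespace Groth.Agent.Lib.Helper7

open TensorProduct

/-- If `A → B → C` with `C` faithfully flat over `B` and flat over `A`, then `B` is flat over `A`. -/
theorem flat_of_faithfullyFlat_of_flat_comp (A B C : Type*) [CommRing A] [CommRing B] [CommRing C]
    [Algebra A B] [Algebra B C] [Algebra A C] [IsScalarTower A B C]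
    [Module.FaithfullyFlat B C] [Module.Flat A C] : Module.Flat A B := by
  rw [Module.Flat.iff_lTensor_preserves_injective_linearMap]
  intro N P _ _ _ _ f hf
  let g : B ⊗[A] N →ₗ[B] B ⊗[A] P := TensorProduct.AlgebraTensorModule.map LinearMap.id f
  have hg : ⇑g = ⇑(f.lTensor B) := rfl
  rw [← hg, ← Module.FaithfullyFlat.lTensor_injective_iff_injective B C]
  have key : ∀ z : C ⊗[B] (B ⊗[A] N),
      (TensorProduct.AlgebraTensorModule.cancelBaseChange A B C C P) (g.lTensor C z) =
      (f.lTensor C) ((TensorProduct.AlgebraTensorModule.cancelBaseChange A B C C N) z) := by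
    intro z
    induction z using TensorProduct.induction_on with
    | zero => simp
    | tmul c x =>
      induction x using TensorProduct.induction_on with
      | zero => simp
      | tmul b n => simp [g]
      | add x y hx hy => simp only [tmul_add, map_add, hx, hy]
    | add x y hx hy => simp only [map_add, hx, hy]
  intro z₁ z₂ h
  have h1 := congrArg (TensorProduct.AlgebraTensorModule.cancelBaseChange A B C C P) h
  rw [key, key] at h1
  have h2 := Module.Flat.lTensor_preserves_injective_linearMap (M := C) f hf h1
  exact (TensorProduct.AlgebraTensorModule.cancelBaseChange A B C C N).injective h2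

theorem ringHom_flat_of_comp_of_faithfullyFlat {A B C : Type*} [CommRing A] [CommRing B] [CommRing C]
    (φ : A →+* B) (ψ : B →+* C) (hψ : ψ.FaithfullyFlat) (h : (ψ.comp φ).Flat) : φ.Flat := by
  algebraize [φ, ψ, ψ.comp φ]
  exact flat_of_faithfullyFlat_of_flat_comp A B C

end Groth.Agent.Lib.Helper7

namespace Groth.Agent.Lib.Helper7

open AlgebraicGeometry CategoryTheory Limits

universe u

/-- If `f` is flat and surjective and `f ≫ h` is flat, then `h` is flat. -/
theorem flat_of_flat_comp_of_flat_surjective {X Y W : Scheme.{u}} (f : X ⟶ Y) (h : Y ⟶ W)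
    [Flat f] [Surjective f] [Flat (f ≫ h)] : Flat h := by
  rw [Flat.iff_flat_stalkMap]
  intro y
  obtain ⟨x, rfl⟩ := f.surjective y
  have h1 : ((f ≫ h).stalkMap x).hom.Flat := Flat.stalkMap (f ≫ h) x
  rw [Scheme.Hom.stalkMap_comp] at h1
  have h2 : (f.stalkMap x).hom.Flat := Flat.stalkMap f x
  have h3 : (f.stalkMap x).hom.FaithfullyFlat := by
    algebraize [(f.stalkMap x).hom]
    have : IsLocalHom (algebraMap (Y.presheaf.stalk (f x)) (X.presheaf.stalk x)) :=
      inferInstanceAs (IsLocalHom (f.stalkMap x).hom)
    exact Module.FaithfullyFlat.of_flat_of_isLocalHom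
  exact ringHom_flat_of_comp_of_faithfullyFlat _ _ h3 h1

end Groth.Agent.Lib.Helper7
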