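import Mathlib.AlgebraicGeometry.QuasiAffine
import Mathlib.AlgebraicGeometry.Morphisms.QuasiSeparated

set_option autoImplicit false

namespace Groth.Agent.Lib.Helper7

open AlgebraicGeometry CategoryTheory Limits TopologicalSpace

universe u

theorem exists_affine_basicOpen_of_quasiAffine_basicOpen {X : Scheme.{u}} [CompactSpace X]
    [QuasiSeparatedSpace X] (f : Γ(X, ⊤))
    [hqa : Scheme.IsQuasiAffine (X.basicOpen f : Scheme.{u})] (x : X) (hi : x ∈ X.basicOpen f) :
    ∃ r : Γ(X, ⊤), IsAffineOpen (X.basicOpen r) ∧ x ∈ X.basicOpen r := by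
  obtain ⟨_, ⟨_, ⟨t, ht, rfl⟩, rfl⟩, hxt, -⟩ :=
    (Scheme.IsQuasiAffine.isBasis_basicOpen (X.basicOpen f).toScheme).exists_subset_of_mem_open
      (Set.mem_univ (⟨x, hi⟩ : X.basicOpen f)) isOpen_univ
  let t' : Γ(X, X.basicOpen f) := (X.basicOpen f).topIso.hom t
  have e1 : X.basicOpen t' = (X.basicOpen f).ι ''ᵁ ((X.basicOpen f).toScheme.basicOpen t) := by
    rw [Scheme.image_basicOpen]
    simp only [t', Scheme.Opens.topIso, Functor.mapIso_hom, Iso.op_hom, eqToIso.hom, eqToHom_op,
      Scheme.Opens.ι_appIso, Iso.refl_inv]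
    exact (Scheme.basicOpen_res_eq _ _ _).trans rfl
  have haff : IsAffineOpen (X.basicOpen t') := by
    rw [e1]; exact ht.image_of_isOpenImmersion (X.basicOpen f).ι
  have hx' : x ∈ X.basicOpen t' := by
    rw [e1]; exact ⟨⟨x, hi⟩, hxt, rfl⟩
  obtain ⟨n, y, hy⟩ := exists_eq_pow_mul_of_isCompact_of_isQuasiSeparated X ⊤ isCompact_univ
    isQuasiSeparated_univ f t'
  have e2 : X.basicOpen (y * f) = X.basicOpen t' := by
    have h1 : X.basicOpen (X.presheaf.map (homOfLE (le_top : X.basicOpen f ≤ ⊤)).op y) =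
        X.basicOpen f ⊓ X.basicOpen y := Scheme.basicOpen_res _ _ _
    have hu : IsUnit (X.presheaf.map (homOfLE (le_top : X.basicOpen f ≤ ⊤)).op f) :=
      RingedSpace.isUnit_res_basicOpen _ f
    have h2 : X.basicOpen ((X.presheaf.map (homOfLE (le_top : X.basicOpen f ≤ ⊤)).op f) ^ n * t') =
        X.basicOpen t' := by
      rw [Scheme.basicOpen_mul, Scheme.basicOpen_of_isUnit _ (hu.pow n)]
      exact inf_eq_right.mpr (X.basicOpen_le t')
    rw [Scheme.basicOpen_mul, inf_comm, ← h1, ← h2]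
    exact congrArg _ hy
  exact ⟨y * f, e2 ▸ haff, e2 ▸ hx'⟩

/-- A quasi-compact scheme covered by basic opens of global sections each of which is quasi-affine
is quasi-affine. -/
theorem isQuasiAffine_of_iSup_basicOpen {X : Scheme.{u}} [CompactSpace X] {ι : Type*} (s : ι → Γ(X, ⊤))
    (hcov : ⨆ i, X.basicOpen (s i) = ⊤)
    (hqa : ∀ i, Scheme.IsQuasiAffine (X.basicOpen (s i) : Scheme.{u})) :
    X.IsQuasiAffine := by
  have hqs : QuasiSeparatedSpace X := by
    refine .of_isOpenCover (U := fun i => X.basicOpen (s i)) hcov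
      (fun _ => isRetrocompact_basicOpen _) (fun i => ?_)
    have := hqa i
    have h2 : QuasiSeparatedSpace ((X.basicOpen (s i)).toScheme) := inferInstance
    exact (isQuasiSeparated_iff_quasiSeparatedSpace _ (X.basicOpen (s i)).2).mpr h2
  refine .of_forall_exists_mem_basicOpen _ fun x => ?_
  obtain ⟨i, hi⟩ : ∃ i, x ∈ X.basicOpen (s i) := by
    have : x ∈ (⨆ i, X.basicOpen (s i)) := by rw [hcov]; trivial
    simpa using this
  have := hqa i
  exact exists_affine_basicOpen_of_quasiAffine_basicOpen (s i) x hi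

end Groth.Agent.Lib.Helper7
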