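import Groth.Prelude.Def_MoreMor
import Groth.Agent.Lib.Helper7.QuasiAffineGlue

set_option autoImplicit false

namespace Groth.Agent.Lib.Helper7

open AlgebraicGeometry CategoryTheory Limits TopologicalSpace

universe u

/-- If `g : W ⟶ Q` with `W` quasi-compact and every point of `W` lies in the preimage of a basic open
`Q_r` of a global section of `Q` whose preimage in `W` is quasi-affine, then `W` is quasi-affine. -/
theorem isQuasiAffine_of_forall_exists_preimage_basicOpen {W Q : Scheme.{u}} [CompactSpace W] (g : W ⟶ Q)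
    (H : ∀ w : W, ∃ r : Γ(Q, ⊤), g w ∈ Q.basicOpen r ∧
      Scheme.IsQuasiAffine ((g ⁻¹ᵁ Q.basicOpen r : W.Opens) : Scheme.{u})) :
    W.IsQuasiAffine := by
  choose r hr hqa using H
  refine isQuasiAffine_of_iSup_basicOpen (fun w => g.appTop (r w)) ?_ ?_
  · rw [eq_top_iff]
    intro w _
    rw [Opens.mem_iSup]
    refine ⟨w, ?_⟩
    rw [← Scheme.preimage_basicOpen_top]
    exact hr w
  · intro w
    rw [← Scheme.preimage_basicOpen_top]
    exact hqa w

/-- A compact scheme with an open immersion into an ind-quasi-affine scheme is quasi-affine. -/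
theorem isQuasiAffine_of_isOpenImmersion_of_isIndQuasiAffine {X W : Scheme.{u}}
    (hX : MoreMor.IsIndQuasiAffine X) (i : W ⟶ X) [IsOpenImmersion i] [CompactSpace W] :
    W.IsQuasiAffine := by
  have hc : IsCompact (i.opensRange : Set X) := by
    simpa using isCompact_range i.continuous
  have := hX i.opensRange hc
  exact Scheme.IsQuasiAffine.of_isImmersion i.isoOpensRange.hom

theorem isQuasiAffine_of_isIndQuasiAffineHom {X Y W : Scheme.{u}} {f : X ⟶ Y}
    (hf : MoreMor.IsIndQuasiAffineHom f) (i : W ⟶ X) [IsOpenImmersion i] [CompactSpace W]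
    (V : Y.Opens) (hV : IsAffineOpen V) (hrange : Set.range (i ≫ f) ⊆ (V : Set Y)) :
    W.IsQuasiAffine := by
  have hsub : Set.range i ⊆ Set.range (f ⁻¹ᵁ V).ι := by
    rintro _ ⟨w, rfl⟩
    simp only [Scheme.Opens.range_ι]
    exact hrange ⟨w, rfl⟩
  let i' : W ⟶ (f ⁻¹ᵁ V : Scheme.{u}) := IsOpenImmersion.lift (f ⁻¹ᵁ V).ι i hsub
  have hi' : i' ≫ (f ⁻¹ᵁ V).ι = i := IsOpenImmersion.lift_fac _ _ _
  have : IsOpenImmersion i' := by
    have : IsOpenImmersion (i' ≫ (f ⁻¹ᵁ V).ι) := by rw [hi']; infer_instance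
    exact IsOpenImmersion.of_comp i' (f ⁻¹ᵁ V).ι
  exact isQuasiAffine_of_isOpenImmersion_of_isIndQuasiAffine (hf V hV) i'

theorem isIndQuasiAffineHom_of_forall {X Y : Scheme.{u}} {f : X ⟶ Y}
    (H : ∀ (W : Scheme.{u}) (i : W ⟶ X) [IsOpenImmersion i] [CompactSpace W] (V : Y.Opens),
      IsAffineOpen V → Set.range (i ≫ f) ⊆ (V : Set Y) → W.IsQuasiAffine) :
    MoreMor.IsIndQuasiAffineHom f := by
  intro V hV U hU
  have : CompactSpace (U : Scheme.{u}) := isCompact_iff_compactSpace.mp hU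
  refine H U (U.ι ≫ (f ⁻¹ᵁ V).ι) V hV ?_
  rintro _ ⟨u, rfl⟩
  simp only [Scheme.Hom.comp_apply]
  exact (U.ι u).2

end Groth.Agent.Lib.Helper7
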