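import Groth.Prelude.Def_MoreMor
import Mathlib.AlgebraicGeometry.AffineScheme
import Mathlib.AlgebraicGeometry.Cover.Directed
import Mathlib.AlgebraicGeometry.Morphisms.ClosedImmersion
import Mathlib.RingTheory.Etale.Basic
import Mathlib.RingTheory.Spectrum.Prime.RingHom

set_option autoImplicit false

namespace Groth.Agent.Lib.Helper7

open AlgebraicGeometry CategoryTheory Limits TopologicalSpace

universe u

/-- Lemma F: a morphism from `Spec B` to `X` landing in an affine open `U` factors through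
`hU.fromSpec`. -/
theorem exists_SpecMap_comp_fromSpec {X : Scheme.{u}} {U : X.Opens} (hU : IsAffineOpen U)
    {B : CommRingCat.{u}} (l : Spec B ⟶ X) (hl : Set.range l ⊆ (U : Set X)) :
    ∃ γ : Γ(X, U) ⟶ B, l = Spec.map γ ≫ hU.fromSpec := by
  have hl' : Set.range l ⊆ Set.range hU.fromSpec := by rwa [hU.range_fromSpec]
  refine ⟨Spec.preimage (IsOpenImmersion.lift hU.fromSpec l hl'), ?_⟩
  rw [Spec.map_preimage, IsOpenImmersion.lift_fac]

/-- Lemma G: `Spec` of a surjective ring map with nilpotent kernel is surjective on points. -/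
theorem SpecMap_surjective_of_ker_le_nilradical {A B : CommRingCat.{u}} (φ : A ⟶ B)
    (hφ : Function.Surjective φ.hom) (hker : RingHom.ker φ.hom ≤ nilradical A) :
    Function.Surjective (Spec.map φ) := by
  show Function.Surjective (PrimeSpectrum.comap φ.hom)
  intro p
  have h1 : Set.range (PrimeSpectrum.comap φ.hom) = PrimeSpectrum.zeroLocus (RingHom.ker φ.hom) :=
    range_comap_of_surjective _ _ hφ
  have h2 : p ∈ PrimeSpectrum.zeroLocus (RingHom.ker φ.hom : Set A) := by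
    rw [PrimeSpectrum.mem_zeroLocus]
    intro x hx
    have := hker hx
    rw [nilradical_eq_sInf, Ideal.mem_sInf] at this
    exact this p.2
  rw [← h1] at h2
  exact h2

theorem ker_le_nilradical_of_sq_eq_bot {A : Type u} [CommRing A] (I : Ideal A) (hI : I ^ 2 = ⊥) :
    I ≤ nilradical A := by
  intro x hx
  rw [mem_nilradical]
  refine ⟨2, ?_⟩
  have : x ^ 2 ∈ I ^ 2 := Ideal.pow_mem_pow hx 2
  rw [hI] at this
  simpa using this

/-- The ring-level formulation of formal étaleness of a morphism of schemes. -/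
def RingLevelFormallyEtale {X Y : Scheme.{u}} (f : X ⟶ Y) : Prop :=
  ∀ (U : X.Opens) (V : Y.Opens) (_ : IsAffineOpen U) (_ : IsAffineOpen V) (hUV : U ≤ f ⁻¹ᵁ V),
    letI := (f.appLE V U hUV).hom.toAlgebra
    Algebra.FormallyEtale Γ(Y, V) Γ(X, U)

/-- P1: scheme-level unique lifting against affine first order thickenings gives ring-level formal
étaleness on all pairs of affine opens. -/
theorem ringLevel_of_isFormallyEtaleHom {X Y : Scheme.{u}} (f : X ⟶ Y)
    (hf : MoreMor.IsFormallyEtaleHom f) : RingLevelFormallyEtale f := by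
  intro U V hU hV hUV
  letI := (f.appLE V U hUV).hom.toAlgebra
  rw [Algebra.FormallyEtale.iff_comp_bijective]
  intro B _ _ I hI
  have hψ : hU.fromSpec ≫ f = Spec.map (f.appLE V U hUV) ≫ hV.fromSpec :=
    (IsAffineOpen.SpecMap_appLE_fromSpec f hV hU hUV).symm
  have hsurj : Function.Surjective (Spec.map (CommRingCat.ofHom (Ideal.Quotient.mk I))) :=
    SpecMap_surjective_of_ker_le_nilradical _ Ideal.Quotient.mk_surjective (by
      rw [CommRingCat.hom_ofHom, Ideal.mk_ker]; exact ker_le_nilradical_of_sq_eq_bot I hI)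
  let b : Spec (CommRingCat.of B) ⟶ Y :=
    Spec.map (CommRingCat.ofHom (algebraMap Γ(Y, V) B)) ≫ hV.fromSpec
  have key : ∀ g : Γ(X, U) →ₐ[Γ(Y, V)] B ⧸ I,
      Spec.map (CommRingCat.ofHom (Ideal.Quotient.mk I)) ≫ b =
        (Spec.map (CommRingCat.ofHom g.toRingHom) ≫ hU.fromSpec) ≫ f := by
    intro g
    simp only [b, Category.assoc]
    rw [hψ, ← Spec.map_comp_assoc, ← Spec.map_comp_assoc]
    congr 2
    ext x
    simp only [CommRingCat.hom_comp, CommRingCat.hom_ofHom, RingHom.coe_comp, Function.comp_apply]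
    have := g.commutes x
    rw [RingHom.algebraMap_toAlgebra] at this
    rw [AlgHom.toRingHom_eq_coe, RingHom.coe_coe, this]
    rfl
  have lifts : ∀ γ : Γ(X, U) →ₐ[Γ(Y, V)] B,
      Spec.map (CommRingCat.ofHom (Ideal.Quotient.mk I)) ≫
          (Spec.map (CommRingCat.ofHom γ.toRingHom) ≫ hU.fromSpec) =
        Spec.map (CommRingCat.ofHom ((Ideal.Quotient.mkₐ Γ(Y, V) I).comp γ).toRingHom) ≫
          hU.fromSpec ∧
      (Spec.map (CommRingCat.ofHom γ.toRingHom) ≫ hU.fromSpec) ≫ f = b := by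
    intro γ
    constructor
    · rw [← Spec.map_comp_assoc]
      rfl
    · simp only [b, Category.assoc]
      rw [hψ, ← Spec.map_comp_assoc]
      congr 2
      ext x
      simp only [CommRingCat.hom_comp, CommRingCat.hom_ofHom, RingHom.coe_comp,
        Function.comp_apply]
      have := γ.commutes x
      rw [RingHom.algebraMap_toAlgebra] at this
      rw [AlgHom.toRingHom_eq_coe, RingHom.coe_coe, this]
  constructor
  · intro γ₁ γ₂ h12
    have h12' : (Ideal.Quotient.mkₐ Γ(Y, V) I).comp γ₁ = (Ideal.Quotient.mkₐ Γ(Y, V) I).comp γ₂ :=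
      h12
    obtain ⟨l, -, hl⟩ := hf B I hI _ b (key ((Ideal.Quotient.mkₐ Γ(Y, V) I).comp γ₁))
    have e1 := hl _ (lifts γ₁)
    have e2 := hl _ (by rw [h12']; exact lifts γ₂)
    have e3 := e1.trans e2.symm
    rw [cancel_mono, Spec.map_inj] at e3
    ext x
    exact congr($(e3).hom x)
  · intro g
    obtain ⟨l, ⟨hl1, hl2⟩, -⟩ := hf B I hI _ b (key g)
    have hrange : Set.range l ⊆ (U : Set X) := by
      rintro _ ⟨p, rfl⟩
      obtain ⟨q, rfl⟩ := hsurj p
      rw [← Scheme.Hom.comp_apply, hl1, Scheme.Hom.comp_apply]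
      have : hU.fromSpec (Spec.map (CommRingCat.ofHom g.toRingHom) q) ∈ Set.range hU.fromSpec :=
        ⟨_, rfl⟩
      rwa [hU.range_fromSpec] at this
    obtain ⟨γ, rfl⟩ := exists_SpecMap_comp_fromSpec hU l hrange
    have hγ1 : γ ≫ CommRingCat.ofHom (Ideal.Quotient.mk I) = CommRingCat.ofHom g.toRingHom := by
      rw [← Spec.map_comp_assoc, cancel_mono, Spec.map_inj] at hl1
      exact hl1
    have hγ2 : f.appLE V U hUV ≫ γ = CommRingCat.ofHom (algebraMap Γ(Y, V) B) := by
      simp only [b, Category.assoc] at hl2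
      rw [hψ, ← Spec.map_comp_assoc, cancel_mono, Spec.map_inj] at hl2
      exact hl2
    refine ⟨⟨γ.hom, fun r => ?_⟩, ?_⟩
    · have := congr($(hγ2).hom r)
      simpa [RingHom.algebraMap_toAlgebra] using this
    · ext x
      exact congr($(hγ1).hom x)


/-- Lemma R: ring-level unique lifting for a formally étale ring map against a surjection with
square-zero kernel, in `CommRingCat` form. -/
theorem existsUnique_ringLift {R A B C : CommRingCat.{u}} (ψ : R ⟶ A)
    (hψ : letI := ψ.hom.toAlgebra; Algebra.FormallyEtale R A)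
    (β : R ⟶ B) (φ : B ⟶ C) (α : A ⟶ C) (hφ : Function.Surjective φ.hom)
    (hker : RingHom.ker φ.hom ^ 2 = ⊥) (comm : β ≫ φ = ψ ≫ α) :
    ∃! γ : A ⟶ B, γ ≫ φ = α ∧ ψ ≫ γ = β := by
  let _ := ψ.hom.toAlgebra
  let _ := β.hom.toAlgebra
  let _ := (β ≫ φ).hom.toAlgebra
  have hnil : IsNilpotent (RingHom.ker φ.hom) := ⟨2, hker⟩
  let φ' : B →ₐ[R] C := ⟨φ.hom, fun r => rfl⟩
  let α' : A →ₐ[R] C := ⟨α.hom, fun r => by
    have := congr($(comm).hom r)
    exact this.symm⟩
  have hFE : Algebra.FormallyEtale R A := hψ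
  have : Algebra.FormallySmooth R A := inferInstance
  have : Algebra.FormallyUnramified R A := inferInstance
  have hnil' : IsNilpotent (RingHom.ker (φ' : B →+* C)) := hnil
  let γ' := Algebra.FormallySmooth.liftOfSurjective α' φ' hφ hnil'
  have hγ' : φ'.comp γ' = α' := Algebra.FormallySmooth.comp_liftOfSurjective α' φ' hφ hnil'
  refine ⟨CommRingCat.ofHom γ'.toRingHom, ⟨?_, ?_⟩, ?_⟩
  · ext x
    exact congr($hγ' x)
  · ext r
    exact γ'.commutes r
  · rintro δ ⟨h1, h2⟩
    let δ' : A →ₐ[R] B := ⟨δ.hom, fun r => congr($(h2).hom r)⟩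
    have : δ' = γ' := by
      apply Algebra.FormallyUnramified.lift_unique' φ' hnil'
      rw [hγ']
      ext x
      exact congr($(h1).hom x)
    ext x
    exact congr($this x)

/-- The kernel of `t.app W` for a closed immersion `t` with square-zero kernel ideal sheaf is
square-zero. -/
theorem ker_app_sq_eq_bot {T T' : Scheme.{u}} (t : T ⟶ T') [IsClosedImmersion t]
    (hsq : t.ker * t.ker = ⊥) {W : T'.Opens} (hW : IsAffineOpen W) :
    RingHom.ker (t.app W).hom ^ 2 = ⊥ := by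
  have h1 : t.ker.ideal ⟨W, hW⟩ = RingHom.ker (t.app W).hom := Scheme.Hom.ker_apply t ⟨W, hW⟩
  have h2 := congr($(hsq).ideal ⟨W, hW⟩)
  rw [Scheme.IdealSheafData.ideal_mul, Pi.mul_apply, h1] at h2
  rw [pow_two, h2]
  rfl

/-- P2a: local unique lifting on a "good" affine open. -/
theorem existsUnique_lift_of_good {X Y T T' : Scheme.{u}} (f : X ⟶ Y)
    (hf : RingLevelFormallyEtale f) (t : T ⟶ T') [IsClosedImmersion t]
    (hsq : t.ker * t.ker = ⊥) (a : T ⟶ X) (b : T' ⟶ Y) (w : t ≫ b = a ≫ f)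
    {W : T'.Opens} (hW : IsAffineOpen W) {U : X.Opens} (hU : IsAffineOpen U)
    {V : Y.Opens} (hV : IsAffineOpen V)
    (hUV : U ≤ f ⁻¹ᵁ V) (hWU : t ⁻¹ᵁ W ≤ a ⁻¹ᵁ U) (hWV : W ≤ b ⁻¹ᵁ V) :
    ∃! l : Spec Γ(T', W) ⟶ X,
      Spec.map (t.app W) ≫ l = (hW.preimage t).fromSpec ≫ a ∧ l ≫ f = hW.fromSpec ≫ b := by
  have Et : Spec.map (t.app W) ≫ hW.fromSpec = (hW.preimage t).fromSpec ≫ t := by
    have := IsAffineOpen.SpecMap_appLE_fromSpec t hW (hW.preimage t) le_rfl
    rwa [← Scheme.Hom.app_eq_appLE] at this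
  have Eb : Spec.map (b.appLE V W hWV) ≫ hV.fromSpec = hW.fromSpec ≫ b :=
    IsAffineOpen.SpecMap_appLE_fromSpec b hV hW hWV
  have Ea : Spec.map (a.appLE U (t ⁻¹ᵁ W) hWU) ≫ hU.fromSpec = (hW.preimage t).fromSpec ≫ a :=
    IsAffineOpen.SpecMap_appLE_fromSpec a hU (hW.preimage t) hWU
  have Ef : Spec.map (f.appLE V U hUV) ≫ hV.fromSpec = hU.fromSpec ≫ f :=
    IsAffineOpen.SpecMap_appLE_fromSpec f hV hU hUV
  have hφsurj : Function.Surjective (t.app W).hom := Scheme.Hom.app_surjective t W hW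
  have hker := ker_app_sq_eq_bot t hsq hW
  have comm : b.appLE V W hWV ≫ t.app W = f.appLE V U hUV ≫ a.appLE U (t ⁻¹ᵁ W) hWU := by
    rw [Scheme.Hom.app_eq_appLE, Scheme.Hom.appLE_comp_appLE, Scheme.Hom.appLE_comp_appLE]
    simp only [w]
  have hSsurj : Function.Surjective (Spec.map (t.app W)) :=
    SpecMap_surjective_of_ker_le_nilradical _ hφsurj (ker_le_nilradical_of_sq_eq_bot _ hker)
  obtain ⟨γ, ⟨hγ1, hγ2⟩, hγu⟩ := existsUnique_ringLift (f.appLE V U hUV) (hf U V hU hV hUV)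
    (b.appLE V W hWV) (t.app W) (a.appLE U (t ⁻¹ᵁ W) hWU) hφsurj hker comm
  refine ⟨Spec.map γ ≫ hU.fromSpec, ⟨?_, ?_⟩, ?_⟩
  · rw [← Spec.map_comp_assoc, hγ1, Ea]
  · rw [Category.assoc, ← Ef, ← Spec.map_comp_assoc, hγ2, Eb]
  · rintro l ⟨hl1, hl2⟩
    have hrange : Set.range l ⊆ (U : Set X) := by
      rintro _ ⟨p, rfl⟩
      obtain ⟨q, rfl⟩ := hSsurj p
      rw [← Scheme.Hom.comp_apply, hl1, ← Ea, Scheme.Hom.comp_apply]
      have : hU.fromSpec (Spec.map (a.appLE U (t ⁻¹ᵁ W) hWU) q) ∈ Set.range hU.fromSpec :=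
        ⟨_, rfl⟩
      rwa [hU.range_fromSpec] at this
    obtain ⟨δ, rfl⟩ := exists_SpecMap_comp_fromSpec hU l hrange
    have := hγu δ ⟨?_, ?_⟩
    · rw [this]
    · rw [← Spec.map_comp_assoc, ← Ea, cancel_mono, Spec.map_inj] at hl1
      exact hl1
    · rw [Category.assoc, ← Ef, ← Eb, ← Spec.map_comp_assoc, cancel_mono, Spec.map_inj] at hl2
      exact hl2


/-- The open cover of `X` by `Spec Γ(X, W)` for `W` ranging over a basis `S` of affine opens. -/
@[reducible, simps I₀ X f]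
noncomputable def basisCover {X : Scheme.{u}} (S : Set X.Opens) (hS : ∀ W ∈ S, IsAffineOpen W)
    (hB : Opens.IsBasis S) : X.OpenCover where
  I₀ := S
  X W := Spec Γ(X, W.1)
  f W := (hS W.1 W.2).fromSpec
  mem₀ := by
    rw [Scheme.presieve₀_mem_precoverage_iff]
    refine ⟨fun x => ?_, fun W => inferInstanceAs (IsOpenImmersion (hS W.1 W.2).fromSpec)⟩
    obtain ⟨W, hW, hxW, -⟩ := Opens.isBasis_iff_nbhd.mp hB (Opens.mem_top x)
    refine ⟨⟨W, hW⟩, ?_⟩
    show x ∈ Set.range (hS W hW).fromSpec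
    rw [(hS W hW).range_fromSpec]; exact hxW

section

variable {X : Scheme.{u}} (S : Set X.Opens) (hS : ∀ W ∈ S, IsAffineOpen W) (hB : Opens.IsBasis S)

instance : Preorder (basisCover S hS hB).I₀ := inferInstanceAs <| Preorder S

lemma basisCover_opensRange (W : (basisCover S hS hB).I₀) :
    ((basisCover S hS hB).f W).opensRange = W.1 :=
  (hS W.1 W.2).opensRange_fromSpec

set_option backward.isDefEq.respectTransparency.types false in
set_option backward.defeqAttrib.useBackward true in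
noncomputable instance : Scheme.Cover.LocallyDirected (basisCover S hS hB) :=
  .ofIsBasisOpensRange (by
    intro i j
    rw [basisCover_opensRange, basisCover_opensRange]
    rfl) <| by
    convert hB
    ext W
    constructor
    · rintro ⟨i, rfl⟩
      show ((basisCover S hS hB).f i).opensRange ∈ S
      rw [basisCover_opensRange]
      exact i.2
    · intro hW
      exact ⟨⟨W, hW⟩, basisCover_opensRange S hS hB ⟨W, hW⟩⟩

set_option backward.isDefEq.respectTransparency.types false in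
set_option backward.defeqAttrib.useBackward true in
lemma basisCover_trans {i j : (basisCover S hS hB).I₀} (hij : i ⟶ j) :
    (basisCover S hS hB).trans hij =
      Spec.map (X.presheaf.map (homOfLE (show i.1 ≤ j.1 from leOfHom hij)).op) := by
  rw [← cancel_mono ((basisCover S hS hB).f j), Scheme.Cover.trans_map]
  exact (IsAffineOpen.map_fromSpec (hS j.1 j.2) (hS i.1 i.2) _).symm

end


section Glue

variable {X Y T T' : Scheme.{u}} (f : X ⟶ Y) (t : T ⟶ T') (a : T ⟶ X) (b : T' ⟶ Y)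

/-- The "good" affine opens of `T'`: those small enough that the lifting problem lives over a pair
of affine opens `U ⊆ f⁻¹ V`. -/
def goodOpens : Set T'.Opens :=
  {W | IsAffineOpen W ∧ ∃ (U : X.Opens) (V : Y.Opens), IsAffineOpen U ∧ IsAffineOpen V ∧
    U ≤ f ⁻¹ᵁ V ∧ t ⁻¹ᵁ W ≤ a ⁻¹ᵁ U ∧ W ≤ b ⁻¹ᵁ V}

lemma goodOpens_isAffineOpen : ∀ W ∈ goodOpens f t a b, IsAffineOpen W := fun _ h => h.1

lemma goodOpens_isBasis [IsClosedImmersion t] [Surjective t] (w : t ≫ b = a ≫ f) :
    Opens.IsBasis (goodOpens f t a b) := by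
  rw [Opens.isBasis_iff_nbhd]
  intro O x' hx'
  obtain ⟨x, rfl⟩ := t.surjective x'
  obtain ⟨V, hV, hbV, -⟩ := Opens.isBasis_iff_nbhd.mp Y.isBasis_affineOpens
    (Opens.mem_top (b (t x)))
  have hfa : f (a x) ∈ V := by
    have : (a ≫ f) x = (t ≫ b) x := by rw [w]
    rw [Scheme.Hom.comp_apply, Scheme.Hom.comp_apply] at this
    rw [this]; exact hbV
  obtain ⟨U, hU, haU, hUV⟩ := Opens.isBasis_iff_nbhd.mp X.isBasis_affineOpens
    (show a x ∈ f ⁻¹ᵁ V from hfa)
  have hhomeo : IsHomeomorph t :=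
    isHomeomorph_iff_isEmbedding_surjective.mpr ⟨t.isClosedEmbedding.isEmbedding, t.surjective⟩
  let O₁ : T'.Opens := ⟨t '' (a ⁻¹ᵁ U : Set T), hhomeo.isOpenMap _ (a ⁻¹ᵁ U).isOpen⟩
  have hxO₁ : t x ∈ O₁ := ⟨x, haU, rfl⟩
  obtain ⟨W, hW, hxW, hWO⟩ := Opens.isBasis_iff_nbhd.mp T'.isBasis_affineOpens
    (show t x ∈ O ⊓ O₁ ⊓ b ⁻¹ᵁ V from ⟨⟨hx', hxO₁⟩, hbV⟩)
  refine ⟨W, ⟨hW, U, V, hU, hV, hUV, ?_, ?_⟩, hxW, fun y hy => (hWO hy).1.1⟩
  · intro y hy
    obtain ⟨z, hz, hzy⟩ := (hWO hy).1.2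
    rw [← hhomeo.injective hzy]
    exact hz
  · exact fun y hy => (hWO hy).2

end Glue

section Glue2

variable {X Y T T' : Scheme.{u}} (f : X ⟶ Y) (t : T ⟶ T') (a : T ⟶ X) (b : T' ⟶ Y)

set_option backward.isDefEq.respectTransparency.types false in
set_option backward.defeqAttrib.useBackward true in
/-- L*: ring-level formal étaleness gives unique lifts against arbitrary first-order thickenings
of schemes. -/
theorem existsUnique_lift_of_ringLevel (hf : RingLevelFormallyEtale f)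
    [IsClosedImmersion t] [Surjective t]
    (hsq : t.ker * t.ker = ⊥) (w : t ≫ b = a ≫ f) :
    ∃! l : T' ⟶ X, t ≫ l = a ∧ l ≫ f = b := by
  have hS := goodOpens_isAffineOpen f t a b
  have hB := goodOpens_isBasis f t a b w
  let 𝒰 := basisCover (goodOpens f t a b) hS hB
  have loc : ∀ W : 𝒰.I₀, ∃! l : Spec Γ(T', W.1) ⟶ X,
      Spec.map (t.app W.1) ≫ l = ((hS W.1 W.2).preimage t).fromSpec ≫ a ∧
        l ≫ f = (hS W.1 W.2).fromSpec ≫ b := by
    intro W
    obtain ⟨hW, U, V, hU, hV, hUV, hWU, hWV⟩ := W.2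
    exact existsUnique_lift_of_good f hf t hsq a b w hW hU hV hUV hWU hWV
  choose g hg hgu using loc
  have compat : ∀ {i j : 𝒰.I₀} (hij : i ⟶ j), 𝒰.trans hij ≫ g j = g i := by
    intro i j hij
    apply hgu i
    constructor
    · have hle : i.1 ≤ j.1 := leOfHom hij
      rw [basisCover_trans, ← Spec.map_comp_assoc, Scheme.Hom.naturality, Spec.map_comp_assoc,
        (hg j).1, ← Category.assoc]
      congr 1
      exact IsAffineOpen.map_fromSpec ((hS j.1 j.2).preimage t) ((hS i.1 i.2).preimage t) _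
    · rw [Category.assoc, (hg j).2, ← Category.assoc]
      congr 1
      exact 𝒰.trans_map hij
  let L := 𝒰.glueMorphismsOfLocallyDirected g compat
  have hL : ∀ W, 𝒰.f W ≫ L = g W := 𝒰.map_glueMorphismsOfLocallyDirected g compat
  have hL2 : L ≫ f = b := by
    apply 𝒰.hom_ext
    intro W
    rw [← Category.assoc, hL, (hg W).2]
  have key : ∀ (l : T' ⟶ X) (W : 𝒰.I₀),
      Spec.map (t.app W.1) ≫ (hS W.1 W.2).fromSpec ≫ l =
        ((hS W.1 W.2).preimage t).fromSpec ≫ t ≫ l := by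
    intro l W
    have := IsAffineOpen.SpecMap_appLE_fromSpec t (hS W.1 W.2) ((hS W.1 W.2).preimage t) le_rfl
    rw [← Scheme.Hom.app_eq_appLE] at this
    rw [← Category.assoc, this, Category.assoc]
  have hL1 : t ≫ L = a := by
    apply Scheme.hom_ext_of_forall
    intro x
    obtain ⟨W, hW, hxW, -⟩ := Opens.isBasis_iff_nbhd.mp hB (Opens.mem_top (t x))
    refine ⟨t ⁻¹ᵁ W, hxW, ?_⟩
    have h1 := key L ⟨W, hW⟩
    have h2 : (hS W hW).fromSpec ≫ L = g ⟨W, hW⟩ := hL ⟨W, hW⟩
    rw [h2, (hg ⟨W, hW⟩).1] at h1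
    rw [← ((hS W hW).preimage t).isoSpec_hom_fromSpec, Category.assoc, Category.assoc, ← h1]
  refine ⟨L, ⟨hL1, hL2⟩, ?_⟩
  rintro L' ⟨hL'1, hL'2⟩
  apply 𝒰.hom_ext
  intro W
  rw [hL]
  apply hgu W
  constructor
  · have := key L' W
    rw [hL'1] at this
    exact this
  · rw [Category.assoc, hL'2]

end Glue2

theorem ker_SpecMap_mul_self_eq_bot {A B : CommRingCat.{u}} (φ : A ⟶ B)
    (hφ : RingHom.ker φ.hom ^ 2 = ⊥) :
    (Spec.map φ).ker * (Spec.map φ).ker = ⊥ := by
  apply Scheme.IdealSheafData.ext_of_isAffine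
  rw [Scheme.IdealSheafData.ideal_mul, Pi.mul_apply, Scheme.ker_of_isAffine]
  simp only [Scheme.IdealSheafData.ofIdealTop_ideal, homOfLE_refl, op_id,
    CategoryTheory.Functor.map_id, CommRingCat.hom_id, Ideal.map_id, Scheme.IdealSheafData.ideal_bot,
    Pi.bot_apply]
  have hK : ∀ x ∈ RingHom.ker (Spec.map φ).appTop.hom,
      (Scheme.ΓSpecIso A).hom x ∈ RingHom.ker φ.hom := by
    intro x hx
    rw [RingHom.mem_ker] at hx ⊢
    have := congr($(Scheme.ΓSpecIso_naturality φ).hom x)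
    simp only [CommRingCat.hom_comp, RingHom.coe_comp, Function.comp_apply] at this
    rw [← this, hx, map_zero]
  rw [← pow_two, eq_bot_iff]
  have hinj : Function.Injective (Scheme.ΓSpecIso A).hom.hom :=
    (ConcreteCategory.bijective_of_isIso (Scheme.ΓSpecIso A).hom).1
  calc RingHom.ker (Spec.map φ).appTop.hom ^ 2
      ≤ (Ideal.comap (Scheme.ΓSpecIso A).hom.hom (RingHom.ker φ.hom)) ^ 2 :=
        Ideal.pow_right_mono (fun x hx => hK x hx) 2
    _ ≤ Ideal.comap (Scheme.ΓSpecIso A).hom.hom (RingHom.ker φ.hom ^ 2) := Ideal.le_comap_pow _ 2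
    _ = ⊥ := by
        rw [hφ, ← RingHom.ker_eq_comap_bot]
        exact (RingHom.injective_iff_ker_eq_bot _).mp hinj


/-- Ring-level formal étaleness implies the scheme-level unique lifting property against affine
first order thickenings. -/
theorem isFormallyEtaleHom_of_ringLevel {X Y : Scheme.{u}} (f : X ⟶ Y)
    (hf : RingLevelFormallyEtale f) : MoreMor.IsFormallyEtaleHom f := by
  intro A _ I hI a b w
  have hker : RingHom.ker (CommRingCat.ofHom (Ideal.Quotient.mk I)).hom ^ 2 = ⊥ := by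
    rw [CommRingCat.hom_ofHom, Ideal.mk_ker]; exact hI
  haveI : IsClosedImmersion (Spec.map (CommRingCat.ofHom (Ideal.Quotient.mk I))) :=
    IsClosedImmersion.spec_of_surjective _ Ideal.Quotient.mk_surjective
  haveI : Surjective (Spec.map (CommRingCat.ofHom (Ideal.Quotient.mk I))) :=
    ⟨SpecMap_surjective_of_ker_le_nilradical _ Ideal.Quotient.mk_surjective
      (ker_le_nilradical_of_sq_eq_bot _ hker)⟩
  exact existsUnique_lift_of_ringLevel f _ a b hf (ker_SpecMap_mul_self_eq_bot _ hker) w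

theorem isFormallyEtaleHom_iff_ringLevel {X Y : Scheme.{u}} (f : X ⟶ Y) :
    MoreMor.IsFormallyEtaleHom f ↔ RingLevelFormallyEtale f :=
  ⟨ringLevel_of_isFormallyEtaleHom f, isFormallyEtaleHom_of_ringLevel f⟩

end Groth.Agent.Lib.Helper7
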