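import Mathlib

/-!
# Étale charts from differentials (helper7)

* `formallyEtale_of_bijective_mapBaseChange`: for `k → P → T` with `T` formally smooth over `k`
  and `T ⊗[P] Ω[P/k] → Ω[T/k]` bijective, `T` is formally étale over `P` (Jacobi–Zariski).
* `isEtaleAt_of_basis`: a `k`-algebra `R`, smooth at a prime `m`, with a structure of algebra
  over `P = k[X₁..X_d]` such that the `1 ⊗ d(xᵢ)` form a basis of `κ(m) ⊗ Ω[R/k]`, is étale
  over `P` at `m`.
-/

set_option autoImplicit false

open TensorProduct KaehlerDifferential MvPolynomial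

namespace Groth.Agent.Lib.Helper7.EtaleChart

universe u

theorem formallyEtale_of_bijective_mapBaseChange (k P T : Type u) [CommRing k] [CommRing P]
    [CommRing T] [Algebra k P] [Algebra P T] [Algebra k T] [IsScalarTower k P T]
    [Algebra.FormallySmooth k T]
    (h : Function.Bijective (KaehlerDifferential.mapBaseChange k P T)) :
    Algebra.FormallyEtale P T := by
  rw [Algebra.formallyEtale_iff]
  constructor
  · -- `Ω[T/P] = 0`
    refine ⟨fun a b => ?_⟩
    have key : ∀ z : Ω[T⁄P], z = 0 := by
      intro z
      obtain ⟨y, rfl⟩ := KaehlerDifferential.map_surjective k P T z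
      obtain ⟨w, rfl⟩ := h.2 y
      exact (KaehlerDifferential.exact_mapBaseChange_map k P T _).mpr ⟨w, rfl⟩
    rw [key a, key b]
  · -- `H¹(L_{T/P}) = 0`
    refine ⟨fun a b => ?_⟩
    have hsub : Subsingleton (Algebra.H1Cotangent k T) :=
      Algebra.FormallySmooth.subsingleton_h1Cotangent
    have key : ∀ x : Algebra.H1Cotangent P T, x = 0 := by
      intro x
      have h1 : KaehlerDifferential.mapBaseChange k P T (Algebra.H1Cotangent.δ k P T x) = 0 :=
        (Algebra.H1Cotangent.exact_δ_mapBaseChange k P T _).mpr ⟨x, rfl⟩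
      have h2 : Algebra.H1Cotangent.δ k P T x = 0 := h.1 (by rw [h1, map_zero])
      obtain ⟨y, rfl⟩ := (Algebra.H1Cotangent.exact_map_δ k P T x).mp h2
      rw [Subsingleton.elim y 0, map_zero]
    rw [key a, key b]

section Core

variable {k R : Type u} [CommRing k] [CommRing R] [Algebra k R] {d : ℕ}
  [Algebra (MvPolynomial (Fin d) k) R] [IsScalarTower k (MvPolynomial (Fin d) k) R]
  (m : Ideal R) [m.IsPrime]

/-- The comparison `κ(m) ⊗[R] Ω[R/k] ≃ κ(m) ⊗[R_m] Ω[R_m/k]`. -/
noncomputable def residueTensorEquiv :
    m.ResidueField ⊗[R] Ω[R⁄k] ≃ₗ[m.ResidueField]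
      m.ResidueField ⊗[Localization.AtPrime m] Ω[Localization.AtPrime m⁄k] :=
  (AlgebraTensorModule.cancelBaseChange R (Localization.AtPrime m) m.ResidueField
      m.ResidueField Ω[R⁄k]).symm ≪≫ₗ
    AlgebraTensorModule.congr (LinearEquiv.refl m.ResidueField m.ResidueField)
      (KaehlerDifferential.tensorKaehlerEquivOfFormallyEtale k R (Localization.AtPrime m))

theorem residueTensorEquiv_tmul_D (r : R) :
    residueTensorEquiv (k := k) m ((1 : m.ResidueField) ⊗ₜ[R] D k R r) =
      (1 : m.ResidueField) ⊗ₜ[Localization.AtPrime m]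
        D k (Localization.AtPrime m) (algebraMap R (Localization.AtPrime m) r) := by
  simp [residueTensorEquiv]

/-- **Étale charts from differentials**: if `R` is smooth over `k` at `m` and the differentials
of the images `xᵢ` of the variables of `P = k[X₁..X_d]` form a basis of `κ(m) ⊗ Ω[R/k]`, then
`R` is étale over `P` at `m`. -/
theorem isEtaleAt_of_basis [Algebra.FiniteType k R] [Algebra.IsSmoothAt k m]
    (h : Function.Bijective (Finsupp.linearCombination m.ResidueField
        fun i : Fin d => (1 : m.ResidueField) ⊗ₜ[R]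
          D k R (algebraMap (MvPolynomial (Fin d) k) R (X i)))) :
    Algebra.IsEtaleAt (MvPolynomial (Fin d) k) m := by
  have hsm : Algebra.FormallySmooth k (Localization.AtPrime m) := ‹Algebra.IsSmoothAt k m›
  have hess1 : Algebra.EssFiniteType R (Localization.AtPrime m) :=
    Algebra.EssFiniteType.of_isLocalization (Localization.AtPrime m) m.primeCompl
  have hess : Algebra.EssFiniteType k (Localization.AtPrime m) :=
    Algebra.EssFiniteType.comp k R (Localization.AtPrime m)
  have hfp : Module.FinitePresentation (Localization.AtPrime m) Ω[Localization.AtPrime m⁄k] :=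
    inferInstance
  have hfin : Module.Finite (Localization.AtPrime m) Ω[Localization.AtPrime m⁄k] := inferInstance
  have hflat : Module.Flat (Localization.AtPrime m) Ω[Localization.AtPrime m⁄k] := inferInstance
  let v : Fin d → Ω[Localization.AtPrime m⁄k] := fun i =>
    D k (Localization.AtPrime m)
      (algebraMap R (Localization.AtPrime m) (algebraMap (MvPolynomial (Fin d) k) R (X i)))
  have hK : Function.Bijective (Finsupp.linearCombination m.ResidueField
      (TensorProduct.mk (Localization.AtPrime m) m.ResidueField Ω[Localization.AtPrime m⁄k] 1 ∘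
        v)) := by
    have hfun : (TensorProduct.mk (Localization.AtPrime m) m.ResidueField
        Ω[Localization.AtPrime m⁄k] 1 ∘ v) =
        (residueTensorEquiv (k := k) m) ∘ fun i : Fin d => (1 : m.ResidueField) ⊗ₜ[R]
          D k R (algebraMap (MvPolynomial (Fin d) k) R (X i)) := by
      funext i
      simp only [Function.comp_apply, residueTensorEquiv_tmul_D, TensorProduct.mk_apply, v]
    rw [hfun]
    have hcomp : ⇑(Finsupp.linearCombination m.ResidueField
        ((residueTensorEquiv (k := k) m) ∘ fun i : Fin d => (1 : m.ResidueField) ⊗ₜ[R]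
          D k R (algebraMap (MvPolynomial (Fin d) k) R (X i)))) =
        (residueTensorEquiv (k := k) m) ∘ ⇑(Finsupp.linearCombination m.ResidueField
          fun i : Fin d => (1 : m.ResidueField) ⊗ₜ[R]
            D k R (algebraMap (MvPolynomial (Fin d) k) R (X i))) := by
      funext l
      exact ((residueTensorEquiv (k := k) m).toLinearMap.map_finsupp_linearCombination
        (g := fun i : Fin d => (1 : m.ResidueField) ⊗ₜ[R]
          D k R (algebraMap (MvPolynomial (Fin d) k) R (X i))) l).symm
    rw [hcomp]
    exact (residueTensorEquiv (k := k) m).bijective.comp h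
  have hT : Function.Bijective (Finsupp.linearCombination (Localization.AtPrime m) v) :=
    Module.IsLocalRing.linearCombination_bijective_of_flat v hK
  let b' : Module.Basis (Fin d) (Localization.AtPrime m)
      (Localization.AtPrime m ⊗[MvPolynomial (Fin d) k] Ω[MvPolynomial (Fin d) k⁄k]) :=
    (KaehlerDifferential.mvPolynomialBasis k (Fin d)).baseChange (Localization.AtPrime m)
  have hmap : KaehlerDifferential.mapBaseChange k (MvPolynomial (Fin d) k) (Localization.AtPrime m) =
      (Finsupp.linearCombination (Localization.AtPrime m) v) ∘ₗ b'.repr.toLinearMap := by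
    apply b'.ext
    intro i
    rw [LinearMap.comp_apply, LinearEquiv.coe_coe, Module.Basis.repr_self,
      Finsupp.linearCombination_single, one_smul]
    simp only [b', Module.Basis.baseChange_apply, KaehlerDifferential.mvPolynomialBasis_apply,
      KaehlerDifferential.mapBaseChange_tmul, one_smul, KaehlerDifferential.map_D, v]
    rw [IsScalarTower.algebraMap_apply (MvPolynomial (Fin d) k) R (Localization.AtPrime m)]
  have hmb : Function.Bijective
      (KaehlerDifferential.mapBaseChange k (MvPolynomial (Fin d) k) (Localization.AtPrime m)) := by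
    rw [hmap]
    exact hT.comp b'.repr.bijective
  exact formallyEtale_of_bijective_mapBaseChange k (MvPolynomial (Fin d) k)
    (Localization.AtPrime m) hmb

end Core

section Choice

variable {k R : Type u} [CommRing k] [CommRing R] [Algebra k R]

/-- `κ(m) ⊗ Ω[R/k]` is spanned by the `1 ⊗ d r`. -/
theorem span_one_tmul_D (m : Ideal R) [m.IsPrime] :
    Submodule.span m.ResidueField
      (Set.range fun r : R => (1 : m.ResidueField) ⊗ₜ[R] D k R r) = ⊤ := by
  have key : ∀ ω : Ω[R⁄k], (1 : m.ResidueField) ⊗ₜ[R] ω ∈ Submodule.span m.ResidueField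
      (Set.range fun r : R => (1 : m.ResidueField) ⊗ₜ[R] D k R r) := by
    intro ω
    have hω : ω ∈ Submodule.span R (Set.range (D k R)) := by
      rw [KaehlerDifferential.span_range_derivation]; trivial
    induction hω using Submodule.span_induction with
    | mem x hx =>
      obtain ⟨r, rfl⟩ := hx
      exact Submodule.subset_span ⟨r, rfl⟩
    | zero => rw [TensorProduct.tmul_zero]; exact Submodule.zero_mem _
    | add x y _ _ hx hy => rw [TensorProduct.tmul_add]; exact Submodule.add_mem _ hx hy
    | smul a x _ hx =>
      have : (1 : m.ResidueField) ⊗ₜ[R] (a • x) =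
          (algebraMap R m.ResidueField a) • ((1 : m.ResidueField) ⊗ₜ[R] x) := by
        rw [TensorProduct.tmul_smul, TensorProduct.smul_tmul', TensorProduct.smul_tmul',
          Algebra.smul_def, smul_eq_mul]
      rw [this]
      exact Submodule.smul_mem _ _ hx
  rw [eq_top_iff]
  rintro z -
  induction z using TensorProduct.induction_on with
  | zero => exact Submodule.zero_mem _
  | add a b ha hb => exact Submodule.add_mem _ ha hb
  | tmul c ω =>
    have h1 : c ⊗ₜ[R] ω = c • ((1 : m.ResidueField) ⊗ₜ[R] ω) := by
      rw [TensorProduct.smul_tmul', smul_eq_mul, mul_one]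
    rw [h1]
    exact Submodule.smul_mem _ _ (key ω)

/-- A basis of `κ(m) ⊗ Ω[R/k]` consisting of exact differentials. -/
theorem exists_basis_D [Algebra.FiniteType k R] (m : Ideal R) [m.IsPrime] (d : ℕ)
    (hd : Module.finrank m.ResidueField (m.ResidueField ⊗[R] Ω[R⁄k]) = d) :
    ∃ y : Fin d → R, Function.Bijective (Finsupp.linearCombination m.ResidueField
      fun i : Fin d => (1 : m.ResidueField) ⊗ₜ[R] D k R (y i)) := by
  classical
  set S : Set (m.ResidueField ⊗[R] Ω[R⁄k]) :=
    Set.range fun r : R => (1 : m.ResidueField) ⊗ₜ[R] D k R r with hS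
  have hspan : Submodule.span m.ResidueField S = ⊤ := span_one_tmul_D m
  obtain ⟨f, hfS, hfspan, hli⟩ := Submodule.exists_fun_fin_finrank_span_eq m.ResidueField S
  have hcard : Module.finrank m.ResidueField (Submodule.span m.ResidueField S) = d := by
    rw [hspan, finrank_top, hd]
  let e : Fin d ≃ Fin (Module.finrank m.ResidueField (Submodule.span m.ResidueField S)) :=
    finCongr hcard.symm
  choose y hy using fun i => hfS (e i)
  refine ⟨y, ?_⟩
  have hfun : (fun i : Fin d => (1 : m.ResidueField) ⊗ₜ[R] D k R (y i)) = f ∘ e := by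
    funext i
    exact hy i
  rw [hfun]
  constructor
  · exact hli.comp e e.injective
  · rw [← LinearMap.range_eq_top, Finsupp.range_linearCombination, Set.range_comp,
      e.surjective.range_eq, Set.image_univ, hfspan, hspan]

/-- Conversion of the rank hypothesis from `R ⧸ m` to `κ(m)`. -/
theorem finrank_residueField_tensor (m : Ideal R) [m.IsMaximal] (M : Type u) [AddCommGroup M]
    [Module R M] :
    Module.finrank m.ResidueField (m.ResidueField ⊗[R] M) =
      Module.finrank (R ⧸ m) ((R ⧸ m) ⊗[R] M) := by
  let _ : Field (R ⧸ m) := Ideal.Quotient.field m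
  rw [← (AlgebraTensorModule.cancelBaseChange R (R ⧸ m) m.ResidueField m.ResidueField
    M).finrank_eq, Module.finrank_baseChange]

end Choice

/-- Over a local ring with finite residue field, closed points (over the closed point) of finite
type algebras have finite residue fields. -/
theorem finite_quotient_of_finiteType (k R : Type u) [CommRing k] [IsLocalRing k]
    [Finite (IsLocalRing.ResidueField k)] [CommRing R] [Algebra k R] [Algebra.FiniteType k R]
    (m : Ideal R) [m.IsMaximal]
    (hm : m.comap (algebraMap k R) = IsLocalRing.maximalIdeal k) : Finite (R ⧸ m) := by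
  let _ : Field (R ⧸ m) := Ideal.Quotient.field m
  let f : IsLocalRing.ResidueField k →+* R ⧸ m :=
    Ideal.Quotient.lift (IsLocalRing.maximalIdeal k) (algebraMap k (R ⧸ m)) (fun a ha => by
      rw [IsScalarTower.algebraMap_apply k R (R ⧸ m)]
      apply Ideal.Quotient.eq_zero_iff_mem.mpr
      rw [← hm] at ha
      exact ha)
  let _ : Algebra (IsLocalRing.ResidueField k) (R ⧸ m) := f.toAlgebra
  have : IsScalarTower k (IsLocalRing.ResidueField k) (R ⧸ m) :=
    IsScalarTower.of_algebraMap_eq fun a => rfl
  have h1 : Algebra.FiniteType k (R ⧸ m) :=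
    Algebra.FiniteType.of_surjective (Ideal.Quotient.mkₐ k m) (Ideal.Quotient.mkₐ_surjective k m)
  have h2 : Algebra.FiniteType (IsLocalRing.ResidueField k) (R ⧸ m) :=
    Algebra.FiniteType.of_restrictScalars_finiteType k (IsLocalRing.ResidueField k) (R ⧸ m)
  have h3 : Module.Finite (IsLocalRing.ResidueField k) (R ⧸ m) :=
    finite_of_finite_type_of_isJacobsonRing (IsLocalRing.ResidueField k) (R ⧸ m)
  exact Module.finite_of_finite (IsLocalRing.ResidueField k)

/-- **Étale affine-space charts with trivial residue field extension, finite residue field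
case.** -/
theorem exists_etale_chart (k : Type u) [CommRing k] [IsLocalRing k]
    [Finite (IsLocalRing.ResidueField k)]
    (R : Type u) [CommRing R] [Algebra k R] [Algebra.FinitePresentation k R]
    (m : Ideal R) [m.IsMaximal] (hm : m.comap (algebraMap k R) = IsLocalRing.maximalIdeal k)
    [Algebra.IsSmoothAt k m] (d : ℕ) (hd : 0 < d)
    (hdim : Module.finrank (R ⧸ m) ((R ⧸ m) ⊗[R] Ω[R⁄k]) = d) :
    ∃ g : R, g ∉ m ∧ ∃ φ : MvPolynomial (Fin d) k →ₐ[k] Localization.Away g,
      φ.toRingHom.Etale ∧
      Function.Surjective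
        ((Ideal.Quotient.mk (m.map (algebraMap R (Localization.Away g)))).comp φ.toRingHom) := by
  classical
  have hft : Algebra.FiniteType k R := inferInstance
  let _ : Field (R ⧸ m) := Ideal.Quotient.field m
  have hfin : Finite (R ⧸ m) := finite_quotient_of_finiteType k R m hm
  obtain ⟨θ, hθ⟩ := IsCyclic.exists_generator (α := (R ⧸ m)ˣ)
  obtain ⟨p, hp⟩ := CharP.exists (R ⧸ m)
  have hpp : p.Prime := CharP.char_is_prime (R ⧸ m) p
  have : Fact p.Prime := ⟨hpp⟩
  have hfrob : Function.Surjective (frobenius (R ⧸ m) p) :=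
    Finite.surjective_of_injective (frobenius_inj (R ⧸ m) p)
  have hdK : Module.finrank m.ResidueField (m.ResidueField ⊗[R] Ω[R⁄k]) = d := by
    rw [finrank_residueField_tensor, hdim]
  obtain ⟨y, hy⟩ := exists_basis_D (k := k) m d hdK
  let i₀ : Fin d := ⟨0, hd⟩
  obtain ⟨wbar, hw⟩ := hfrob ((θ : R ⧸ m) - Ideal.Quotient.mk m (y i₀))
  obtain ⟨w, rfl⟩ := Ideal.Quotient.mk_surjective wbar
  let x : Fin d → R := Function.update y i₀ (y i₀ + w ^ p)
  have hxθ : Ideal.Quotient.mk m (x i₀) = θ := by
    rw [frobenius_def] at hw
    simp only [x, Function.update_self, map_add, map_pow, hw]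
    ring
  have hpK : ((p : ℕ) : m.ResidueField) = 0 := by
    have h0 : ((p : ℕ) : R ⧸ m) = 0 := CharP.cast_eq_zero _ p
    have h1 := congrArg (algebraMap (R ⧸ m) m.ResidueField) h0
    rw [map_natCast, map_zero] at h1
    exact h1
  have hDx : ∀ i, (1 : m.ResidueField) ⊗ₜ[R] D k R (x i) = 1 ⊗ₜ[R] D k R (y i) := by
    intro i
    by_cases hi : i = i₀
    · rw [hi]
      have hz : (1 : m.ResidueField) ⊗ₜ[R] D k R (w ^ p) = 0 := by
        rw [Derivation.leibniz_pow, TensorProduct.tmul_smul, ← Nat.cast_smul_eq_nsmul m.ResidueField,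
          hpK, zero_smul]
      simp only [x, Function.update_self, map_add, TensorProduct.tmul_add, hz, add_zero]
    · simp only [x, Function.update_of_ne hi]
  have hx : Function.Bijective (Finsupp.linearCombination m.ResidueField
      fun i : Fin d => (1 : m.ResidueField) ⊗ₜ[R] D k R (x i)) := by
    have : (fun i : Fin d => (1 : m.ResidueField) ⊗ₜ[R] D k R (x i)) =
        fun i => 1 ⊗ₜ[R] D k R (y i) := funext hDx
    rw [this]
    exact hy
  -- the algebra structure
  let φ₀ : MvPolynomial (Fin d) k →ₐ[k] R := aeval x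
  let _ : Algebra (MvPolynomial (Fin d) k) R := φ₀.toRingHom.toAlgebra
  have : IsScalarTower k (MvPolynomial (Fin d) k) R :=
    IsScalarTower.of_algebraMap_eq' φ₀.comp_algebraMap.symm
  have hX : ∀ i, algebraMap (MvPolynomial (Fin d) k) R (X i) = x i := fun i => aeval_X x i
  have het : Algebra.IsEtaleAt (MvPolynomial (Fin d) k) m := by
    apply isEtaleAt_of_basis m
    simpa only [hX] using hx
  have hfp : Algebra.FinitePresentation (MvPolynomial (Fin d) k) R :=
    Algebra.FinitePresentation.of_restrict_scalars_finitePresentation k _ R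
  obtain ⟨g, hg, hE⟩ := Algebra.exists_etale_of_isEtaleAt (R := MvPolynomial (Fin d) k) m
  refine ⟨g, hg, IsScalarTower.toAlgHom k (MvPolynomial (Fin d) k) (Localization.Away g), ?_, ?_⟩
  · exact RingHom.etale_algebraMap.mpr hE
  · -- surjectivity
    set q := Ideal.Quotient.mk (m.map (algebraMap R (Localization.Away g))) with hq
    have hφ : ∀ a : MvPolynomial (Fin d) k,
        (IsScalarTower.toAlgHom k (MvPolynomial (Fin d) k) (Localization.Away g)).toRingHom a =
          algebraMap R (Localization.Away g) (algebraMap (MvPolynomial (Fin d) k) R a) := by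
      intro a
      exact IsScalarTower.algebraMap_apply (MvPolynomial (Fin d) k) R (Localization.Away g) a
    -- (S1)
    have S1 : ∀ r : R, ∃ a : MvPolynomial (Fin d) k,
        algebraMap (MvPolynomial (Fin d) k) R a - r ∈ m := by
      intro r
      by_cases hr : Ideal.Quotient.mk m r = 0
      · refine ⟨0, ?_⟩
        rw [map_zero, zero_sub]
        exact m.neg_mem (Ideal.Quotient.eq_zero_iff_mem.mp hr)
      · have hmem : Units.mk0 (Ideal.Quotient.mk m r) hr ∈ Subgroup.zpowers θ := hθ _
        rw [← mem_powers_iff_mem_zpowers] at hmem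
        obtain ⟨n, hn⟩ := hmem
        refine ⟨X i₀ ^ n, ?_⟩
        rw [map_pow, hX, ← Ideal.Quotient.eq, map_pow, hxθ]
        have := congrArg (Units.val) hn
        simpa using this
    -- (S2)
    have S2 : ∀ r : R, q (algebraMap R (Localization.Away g) r) ∈
        (q.comp (IsScalarTower.toAlgHom k (MvPolynomial (Fin d) k)
          (Localization.Away g)).toRingHom).range := by
      intro r
      obtain ⟨a, ha⟩ := S1 r
      refine ⟨a, ?_⟩
      rw [RingHom.comp_apply, hφ, hq, Ideal.Quotient.eq, ← map_sub]
      exact Ideal.mem_map_of_mem _ ha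
    intro z
    obtain ⟨a, rfl⟩ := Ideal.Quotient.mk_surjective z
    obtain ⟨r, ⟨_, n, rfl⟩, rfl⟩ := IsLocalization.exists_mk'_eq (Submonoid.powers g) a
    obtain ⟨r', i, hi, hri⟩ := Ideal.IsMaximal.exists_inv ‹m.IsMaximal› hg
    have h1 := IsLocalization.mk'_spec (Localization.Away g) r
      (⟨g ^ n, n, rfl⟩ : Submonoid.powers g)
    have hgr : q (algebraMap R (Localization.Away g) g) * q (algebraMap R (Localization.Away g) r')
        = 1 := by
      rw [← map_mul, ← map_mul, ← map_one q, hq, Ideal.Quotient.eq,
        ← map_one (algebraMap R (Localization.Away g)), ← map_sub]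
      apply Ideal.mem_map_of_mem
      have : g * r' - 1 = - i := by rw [← hri]; ring
      rw [this]
      exact m.neg_mem hi
    have hz : q (IsLocalization.mk' (Localization.Away g) r
        (⟨g ^ n, n, rfl⟩ : Submonoid.powers g)) =
        q (algebraMap R (Localization.Away g) (r * r' ^ n)) := by
      have h2 : q (IsLocalization.mk' (Localization.Away g) r
          (⟨g ^ n, n, rfl⟩ : Submonoid.powers g)) =
          q (IsLocalization.mk' (Localization.Away g) r
            (⟨g ^ n, n, rfl⟩ : Submonoid.powers g)) *
            (q (algebraMap R (Localization.Away g) g) *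
              q (algebraMap R (Localization.Away g) r')) ^ n := by
        rw [hgr, one_pow, mul_one]
      rw [h2, mul_pow, ← mul_assoc, ← map_pow, ← map_pow, ← map_mul q, ← map_pow, h1, ← map_pow,
        ← map_mul, ← map_mul]
    rw [hz]
    exact S2 _

end Groth.Agent.Lib.Helper7.EtaleChart
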