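import Mathlib
import Groth.Agent.Lib.Helper7.EtaleChart

/-!
# Étale slices of smooth algebras (helper7)

* `exists_tmul_D_mem`: if `κ(m)` is formally unramified over `k`, every element of
  `κ(m) ⊗ Ω[R/k]` is a multiple of `1 ⊗ d r` with `r ∈ m`.
* `exists_chart`: étale charts `A[T₁..T_d] → R_g` of a smooth algebra at a prime, with coordinates
  chosen in a prescribed set whose differentials span.
* `etale_quotient_of_retraction`: if `P → E` is étale and `ψ : P → A` is a retraction of `A → P`,
  then `E ⧸ (ker ψ) E` is étale over `A`.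
* `exists_slice`: a smooth `A`-algebra `R` and a prime `m` with `κ(m)` formally unramified over `A`
  admit `g ∉ m` and an ideal `J ≤ m R_g` with `R_g ⧸ J` étale over `A` (EGA IV 17.16.3 (i)).
* `exists_etale_point`: a smooth `A`-algebra with a prime over `p` admits `g`, `J` with
  `R_g ⧸ J` étale over `A` and having a prime over `p` (EGA IV 17.16.3 (ii)).
-/

set_option autoImplicit false

open TensorProduct KaehlerDifferential MvPolynomial

namespace Groth.Agent.Lib.Helper7.SmoothSlice

open Groth.Agent.Lib.Helper7.EtaleChart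

universe u

section Q

variable {k R : Type u} [CommRing k] [CommRing R] [Algebra k R] (m : Ideal R) [m.IsPrime]

/-- If `κ(m)` is formally unramified over `k`, then every element of `κ(m) ⊗ Ω[R/k]` is a scalar
multiple of `1 ⊗ d r` for some `r ∈ m`. -/
theorem exists_tmul_D_mem [Algebra.FormallyUnramified k m.ResidueField]
    (ω : m.ResidueField ⊗[R] Ω[R⁄k]) :
    ∃ (c : m.ResidueField) (r : R), r ∈ m ∧
      ω = c • ((1 : m.ResidueField) ⊗ₜ[R] D k R r) := by
  have hsurj : Function.Surjective
      (algebraMap (Localization.AtPrime m) m.ResidueField) := IsLocalRing.residue_surjective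
  have hex := KaehlerDifferential.exact_kerCotangentToTensor_mapBaseChange k
    (Localization.AtPrime m) m.ResidueField hsurj
  have : Subsingleton Ω[m.ResidueField⁄k] :=
    Algebra.FormallyUnramified.subsingleton_kaehlerDifferential
  have h0 : KaehlerDifferential.mapBaseChange k (Localization.AtPrime m) m.ResidueField
      (residueTensorEquiv (k := k) m ω) = 0 := Subsingleton.elim _ _
  obtain ⟨c, hc⟩ := (hex _).mp h0
  obtain ⟨t, rfl⟩ := Ideal.toCotangent_surjective _ c
  rw [kerCotangentToTensor_toCotangent] at hc
  obtain ⟨r, s, hrs⟩ := IsLocalization.exists_mk'_eq m.primeCompl (t : Localization.AtPrime m)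
  have hspec : (t : Localization.AtPrime m) * algebraMap R (Localization.AtPrime m) s =
      algebraMap R (Localization.AtPrime m) r := by
    rw [← hrs]; exact IsLocalization.mk'_spec _ _ _
  have ht0 : algebraMap (Localization.AtPrime m) m.ResidueField (t : Localization.AtPrime m) = 0 :=
    RingHom.mem_ker.mp t.2
  have hr : r ∈ m := by
    rw [← Ideal.algebraMap_residueField_eq_zero (I := m),
      IsScalarTower.algebraMap_apply R (Localization.AtPrime m) m.ResidueField, ← hspec, map_mul,
      ht0, zero_mul]
  have hs0 : algebraMap R m.ResidueField (s : R) ≠ 0 := by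
    rw [Ne, Ideal.algebraMap_residueField_eq_zero]
    exact s.2
  have htm : ∀ (a : Localization.AtPrime m) (η : Ω[Localization.AtPrime m⁄k]),
      (1 : m.ResidueField) ⊗ₜ[Localization.AtPrime m] (a • η) =
        (algebraMap (Localization.AtPrime m) m.ResidueField a) •
          ((1 : m.ResidueField) ⊗ₜ[Localization.AtPrime m] η) := by
    intro a η
    rw [TensorProduct.tmul_smul, TensorProduct.smul_tmul', TensorProduct.smul_tmul',
      Algebra.smul_def, smul_eq_mul]
  have hD : (1 : m.ResidueField) ⊗ₜ[Localization.AtPrime m]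
      D k (Localization.AtPrime m) (algebraMap R (Localization.AtPrime m) r) =
      (algebraMap R m.ResidueField (s : R)) •
        ((1 : m.ResidueField) ⊗ₜ[Localization.AtPrime m]
          D k (Localization.AtPrime m) (t : Localization.AtPrime m)) := by
    rw [← hspec, Derivation.leibniz, TensorProduct.tmul_add, htm, htm, ht0, zero_smul, zero_add,
      ← IsScalarTower.algebraMap_apply R (Localization.AtPrime m) m.ResidueField]
  refine ⟨(algebraMap R m.ResidueField (s : R))⁻¹, r, hr, ?_⟩
  apply (residueTensorEquiv (k := k) m).injective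
  rw [map_smul, residueTensorEquiv_tmul_D, hD, ← hc, smul_smul, inv_mul_cancel₀ hs0, one_smul]

/-- A basis of `κ(m) ⊗ Ω[R/k]` consisting of exact differentials of elements of a set `T` whose
differentials span. -/
theorem exists_basis_D_mem [Algebra.FiniteType k R] (T : Set R)
    (hT : Submodule.span m.ResidueField
      ((fun r : R => (1 : m.ResidueField) ⊗ₜ[R] D k R r) '' T) = ⊤) (d : ℕ)
    (hd : Module.finrank m.ResidueField (m.ResidueField ⊗[R] Ω[R⁄k]) = d) :
    ∃ y : Fin d → R, (∀ i, y i ∈ T) ∧
      Function.Bijective (Finsupp.linearCombination m.ResidueField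
        fun i : Fin d => (1 : m.ResidueField) ⊗ₜ[R] D k R (y i)) := by
  classical
  set S : Set (m.ResidueField ⊗[R] Ω[R⁄k]) :=
    (fun r : R => (1 : m.ResidueField) ⊗ₜ[R] D k R r) '' T with hS
  obtain ⟨f, hfS, hfspan, hli⟩ := Submodule.exists_fun_fin_finrank_span_eq m.ResidueField S
  have hcard : Module.finrank m.ResidueField (Submodule.span m.ResidueField S) = d := by
    rw [hT, finrank_top, hd]
  let e : Fin d ≃ Fin (Module.finrank m.ResidueField (Submodule.span m.ResidueField S)) :=
    finCongr hcard.symm
  choose y hyT hy using fun i => hfS (e i)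
  refine ⟨y, hyT, ?_⟩
  have hfun : (fun i : Fin d => (1 : m.ResidueField) ⊗ₜ[R] D k R (y i)) = f ∘ e := by
    funext i
    exact hy i
  rw [hfun]
  constructor
  · exact hli.comp e e.injective
  · rw [← LinearMap.range_eq_top, Finsupp.range_linearCombination, Set.range_comp,
      e.surjective.range_eq, Set.image_univ, hfspan, hT]

theorem span_image_univ :
    Submodule.span m.ResidueField
      ((fun r : R => (1 : m.ResidueField) ⊗ₜ[R] D k R r) '' (Set.univ : Set R)) = ⊤ := by
  rw [Set.image_univ]
  exact span_one_tmul_D (k := k) m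

theorem span_image_mem [Algebra.FormallyUnramified k m.ResidueField] :
    Submodule.span m.ResidueField
      ((fun r : R => (1 : m.ResidueField) ⊗ₜ[R] D k R r) '' (m : Set R)) = ⊤ := by
  rw [eq_top_iff]
  rintro ω -
  obtain ⟨c, r, hr, rfl⟩ := exists_tmul_D_mem (k := k) m ω
  exact Submodule.smul_mem _ _ (Submodule.subset_span ⟨r, hr, rfl⟩)

end Q

section Chart

/-- **Étale charts of smooth algebras** with coordinates in a prescribed set. -/
theorem exists_chart (A R : Type u) [CommRing A] [CommRing R] [Algebra A R] [Algebra.Smooth A R]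
    (m : Ideal R) [m.IsPrime] (T : Set R)
    (hT : Submodule.span m.ResidueField
      ((fun r : R => (1 : m.ResidueField) ⊗ₜ[R] D A R r) '' T) = ⊤) :
    ∃ (d : ℕ) (y : Fin d → R) (g : R), (∀ i, y i ∈ T) ∧ g ∉ m ∧
      ∃ φ : MvPolynomial (Fin d) A →ₐ[A] Localization.Away g, φ.toRingHom.Etale ∧
        ∀ i, φ (X i) = algebraMap R (Localization.Away g) (y i) := by
  classical
  have hfp0 : Algebra.FinitePresentation A R := inferInstance
  have hft : Algebra.FiniteType A R := inferInstance
  obtain ⟨d, hd⟩ : ∃ d, Module.finrank m.ResidueField (m.ResidueField ⊗[R] Ω[R⁄A]) = d :=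
    ⟨_, rfl⟩
  obtain ⟨y, hyT, hy⟩ := exists_basis_D_mem (k := A) m T hT d hd
  let φ₀ : MvPolynomial (Fin d) A →ₐ[A] R := aeval y
  let _ : Algebra (MvPolynomial (Fin d) A) R := φ₀.toRingHom.toAlgebra
  have : IsScalarTower A (MvPolynomial (Fin d) A) R :=
    IsScalarTower.of_algebraMap_eq' φ₀.comp_algebraMap.symm
  have hX : ∀ i, algebraMap (MvPolynomial (Fin d) A) R (X i) = y i := fun i => aeval_X y i
  have hsm : Algebra.IsSmoothAt A m := by
    have h1 : Algebra.FormallySmooth R (Localization.AtPrime m) :=
      Algebra.FormallySmooth.of_isLocalization m.primeCompl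
    exact Algebra.FormallySmooth.comp A R (Localization.AtPrime m)
  have het : Algebra.IsEtaleAt (MvPolynomial (Fin d) A) m := by
    apply isEtaleAt_of_basis m
    simpa only [hX] using hy
  have hfp : Algebra.FinitePresentation (MvPolynomial (Fin d) A) R :=
    Algebra.FinitePresentation.of_restrict_scalars_finitePresentation A _ R
  obtain ⟨g, hg, hE⟩ := Algebra.exists_etale_of_isEtaleAt (R := MvPolynomial (Fin d) A) m
  refine ⟨d, y, g, hyT, hg,
    IsScalarTower.toAlgHom A (MvPolynomial (Fin d) A) (Localization.Away g), ?_, ?_⟩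
  · exact RingHom.etale_algebraMap.mpr hE
  · intro i
    rw [IsScalarTower.coe_toAlgHom',
      IsScalarTower.algebraMap_apply (MvPolynomial (Fin d) A) R (Localization.Away g), hX]

end Chart

section Quot

/-- If `φ : P → E` is étale and `ψ : P → A` is a retraction of the structure map `A → P`, then
`E ⧸ (ker ψ) E` is étale over `A`. -/
theorem etale_quotient_of_retraction (A P E : Type u) [CommRing A] [CommRing P] [CommRing E]
    [Algebra A P] [Algebra A E] (φ : P →ₐ[A] E) (hφ : φ.toRingHom.Etale) (ψ : P →ₐ[A] A) :
    Algebra.Etale A (E ⧸ (RingHom.ker ψ.toRingHom).map φ.toRingHom) := by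
  let _ : Algebra P E := φ.toRingHom.toAlgebra
  have : IsScalarTower A P E := IsScalarTower.of_algebraMap_eq' φ.comp_algebraMap.symm
  have hE : Algebra.Etale P E := RingHom.etale_algebraMap.mp hφ
  set J : Ideal P := RingHom.ker ψ.toRingHom with hJ
  have h1 : Algebra.Etale (P ⧸ J) ((P ⧸ J) ⊗[P] E) := inferInstance
  have h2 : Algebra.Etale (P ⧸ J) (E ⧸ J.map (algebraMap P E)) :=
    Algebra.Etale.of_equiv (Algebra.TensorProduct.quotIdealMapEquivQuotTensor E J).symm
  have hψ : Function.Surjective ψ := fun a => ⟨algebraMap A P a, ψ.commutes a⟩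
  have h3 : Algebra.Etale A (P ⧸ J) :=
    Algebra.Etale.of_equiv (Ideal.quotientKerAlgEquivOfSurjective hψ).symm
  have : IsScalarTower A (P ⧸ J) (E ⧸ J.map (algebraMap P E)) :=
    IsScalarTower.of_algebraMap_eq fun a => by
      show Ideal.Quotient.mk _ (algebraMap A E a) =
        Ideal.Quotient.mk _ (algebraMap P E (algebraMap A P a))
      rw [← IsScalarTower.algebraMap_apply]
  exact Algebra.Etale.comp A (P ⧸ J) (E ⧸ J.map (algebraMap P E))

end Quot

section Slice

theorem ker_map_le {A E : Type u} [CommRing A] [CommRing E] [Algebra A E] {d : ℕ}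
    (φ : MvPolynomial (Fin d) A →ₐ[A] E) (a : Fin d → A) (M : Ideal E)
    (h : ∀ i, φ (X i) - algebraMap A E (a i) ∈ M) :
    (RingHom.ker (aeval a : MvPolynomial (Fin d) A →ₐ[A] A).toRingHom).map φ.toRingHom ≤ M := by
  rw [Ideal.map_le_iff_le_comap]
  intro p hp
  rw [Ideal.mem_comap, ← Ideal.Quotient.eq_zero_iff_mem]
  have key : (Ideal.Quotient.mk M).comp φ.toRingHom =
      (algebraMap A (E ⧸ M)).comp (aeval a : MvPolynomial (Fin d) A →ₐ[A] A).toRingHom := by
    apply MvPolynomial.ringHom_ext
    · intro c
      simp only [RingHom.comp_apply, AlgHom.toRingHom_eq_coe, RingHom.coe_coe,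
        ← MvPolynomial.algebraMap_eq, AlgHom.commutes]
      rfl
    · intro i
      simp only [RingHom.comp_apply, AlgHom.toRingHom_eq_coe, RingHom.coe_coe, aeval_X]
      rw [IsScalarTower.algebraMap_apply A E (E ⧸ M)]
      exact (Ideal.Quotient.eq.mpr (h i))
  have := RingHom.congr_fun key p
  simp only [RingHom.comp_apply] at this
  rw [this, RingHom.mem_ker.mp hp, map_zero]

theorem exists_prime_quotient {R : Type u} [CommRing R] (m : Ideal R) [m.IsPrime] (g : R)
    (hg : g ∉ m) (J : Ideal (Localization.Away g))
    (hJ : J ≤ m.map (algebraMap R (Localization.Away g))) :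
    ∃ q : Ideal (Localization.Away g ⧸ J), q.IsPrime ∧
      q.comap (algebraMap R (Localization.Away g ⧸ J)) = m := by
  have hdisj : Disjoint (Submonoid.powers g : Set R) (m : Set R) := by
    rw [Set.disjoint_left]
    rintro _ ⟨n, rfl⟩ hmem
    exact hg (‹m.IsPrime›.mem_of_pow_mem n hmem)
  have hprime : (m.map (algebraMap R (Localization.Away g))).IsPrime :=
    IsLocalization.isPrime_of_isPrime_disjoint (Submonoid.powers g) _ m ‹_› hdisj
  have hcomap : (m.map (algebraMap R (Localization.Away g))).comap
      (algebraMap R (Localization.Away g)) = m :=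
    IsLocalization.comap_map_of_isPrime_disjoint (Submonoid.powers g) _ ‹_› hdisj
  refine ⟨(m.map (algebraMap R (Localization.Away g))).map (Ideal.Quotient.mk J), ?_, ?_⟩
  · exact Ideal.map_isPrime_of_surjective Ideal.Quotient.mk_surjective (by rwa [Ideal.mk_ker])
  · rw [IsScalarTower.algebraMap_eq R (Localization.Away g) (Localization.Away g ⧸ J),
      ← Ideal.comap_comap, Ideal.Quotient.algebraMap_eq,
      Ideal.comap_map_of_surjective _ Ideal.Quotient.mk_surjective, ← RingHom.ker_eq_comap_bot,
      Ideal.mk_ker, sup_eq_left.mpr hJ, hcomap]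

variable (A R : Type u) [CommRing A] [CommRing R] [Algebra A R] [Algebra.Smooth A R]

/-- **Étale slices** (EGA IV 17.16.3 (i), algebraic form): if `R` is smooth over `A` and `m` is a
prime of `R` whose residue field is formally unramified over `A`, then there are `g ∉ m` and an
ideal `J ≤ m R_g` such that `R_g ⧸ J` is étale over `A`. -/
theorem exists_slice (m : Ideal R) [m.IsPrime] [Algebra.FormallyUnramified A m.ResidueField] :
    ∃ (g : R) (J : Ideal (Localization.Away g)), g ∉ m ∧
      J ≤ m.map (algebraMap R (Localization.Away g)) ∧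
      Algebra.Etale A (Localization.Away g ⧸ J) := by
  obtain ⟨d, y, g, hy, hg, φ, hφ, hφX⟩ :=
    exists_chart A R m (m : Set R) (span_image_mem (k := A) m)
  refine ⟨g, (RingHom.ker (aeval (0 : Fin d → A) :
      MvPolynomial (Fin d) A →ₐ[A] A).toRingHom).map φ.toRingHom, hg, ?_,
    etale_quotient_of_retraction A _ _ φ hφ _⟩
  apply ker_map_le
  intro i
  rw [Pi.zero_apply, map_zero, sub_zero, hφX]
  exact Ideal.mem_map_of_mem _ (hy i)

omit [Algebra.Smooth A R] in
/-- A maximal ideal with finite residue field has residue field formally unramified over any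
base ring. -/
theorem formallyUnramified_residueField_of_finite (m : Ideal R) [m.IsMaximal]
    [Algebra.FiniteType A R] (hfin : Finite (A ⧸ m.comap (algebraMap A R))) :
    Algebra.FormallyUnramified A m.ResidueField := by
  set p := m.comap (algebraMap A R) with hp
  have hpprime : p.IsPrime := Ideal.comap_isPrime _ _
  have hpmax : p.IsMaximal :=
    Ideal.Quotient.maximal_of_isField p (Finite.isField_of_domain (A ⧸ p))
  have : m.LiesOver p := ⟨hp⟩
  let _ : Field (R ⧸ m) := Ideal.Quotient.field m
  let _ : Field (A ⧸ p) := Ideal.Quotient.field p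
  have h1 : Algebra.FiniteType A (R ⧸ m) :=
    Algebra.FiniteType.of_surjective (Ideal.Quotient.mkₐ A m) (Ideal.Quotient.mkₐ_surjective A m)
  have h2 : Algebra.FiniteType (A ⧸ p) (R ⧸ m) :=
    Algebra.FiniteType.of_restrictScalars_finiteType A (A ⧸ p) (R ⧸ m)
  have h3 : Module.Finite (A ⧸ p) (R ⧸ m) :=
    finite_of_finite_type_of_isJacobsonRing (A ⧸ p) (R ⧸ m)
  have h4 : Algebra.IsAlgebraic (A ⧸ p) (R ⧸ m) := Algebra.IsAlgebraic.of_finite _ _
  have h5 : Algebra.IsSeparable (A ⧸ p) (R ⧸ m) := Algebra.IsAlgebraic.isSeparable_of_perfectField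
  have h6 : Algebra.FormallyUnramified (A ⧸ p) (R ⧸ m) :=
    Algebra.FormallyUnramified.of_isSeparable _ _
  have h7 : Algebra.FormallyUnramified A (A ⧸ p) :=
    Algebra.FormallyUnramified.of_surjective (Algebra.ofId A (A ⧸ p)) Ideal.Quotient.mk_surjective
  have h8 : Algebra.FormallyUnramified A (R ⧸ m) := Algebra.FormallyUnramified.comp A (A ⧸ p) _
  have h9 : Algebra.FormallyUnramified (R ⧸ m) m.ResidueField :=
    Algebra.FormallyUnramified.of_surjective (Algebra.ofId (R ⧸ m) m.ResidueField)
      (Ideal.bijective_algebraMap_quotient_residueField m).2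
  exact Algebra.FormallyUnramified.comp A (R ⧸ m) _

/-- **Étale quasi-sections of smooth algebras** (EGA IV 17.16.3 (ii), algebraic form): if `R` is
smooth over `A` and some prime of `R` lies over the prime `p` of `A`, then there are `g : R` and
an ideal `J` of `R_g` such that `R_g ⧸ J` is étale over `A` and has a prime over `p`. -/
theorem exists_etale_point (p : Ideal A) [p.IsPrime] (m₀ : Ideal R) [m₀.IsPrime]
    (hm₀ : m₀.comap (algebraMap A R) = p) :
    ∃ (g : R) (J : Ideal (Localization.Away g)), Algebra.Etale A (Localization.Away g ⧸ J) ∧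
      ∃ q : Ideal (Localization.Away g ⧸ J), q.IsPrime ∧
        q.comap (algebraMap A (Localization.Away g ⧸ J)) = p := by
  classical
  have hft : Algebra.FiniteType A R := inferInstance
  rcases finite_or_infinite (A ⧸ p) with hfin | hinf
  · -- finite residue field: any closed point of the fibre works
    have hpmax : p.IsMaximal :=
      Ideal.Quotient.maximal_of_isField p (Finite.isField_of_domain (A ⧸ p))
    have hle : p.map (algebraMap A R) ≤ m₀ := by
      rw [Ideal.map_le_iff_le_comap, hm₀]
    have hne : p.map (algebraMap A R) ≠ ⊤ := fun h =>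
      (‹m₀.IsPrime›.ne_top) (top_le_iff.mp (h ▸ hle))
    obtain ⟨m, hmmax, hpm⟩ := Ideal.exists_le_maximal _ hne
    have hmp : m.comap (algebraMap A R) = p := by
      have h1 : p ≤ m.comap (algebraMap A R) := Ideal.map_le_iff_le_comap.mp hpm
      exact (hpmax.eq_of_le (Ideal.comap_ne_top _ hmmax.ne_top) h1).symm
    have hfu : Algebra.FormallyUnramified A m.ResidueField :=
      formallyUnramified_residueField_of_finite A R m (by rw [hmp]; exact hfin)
    obtain ⟨g, J, hg, hJ, hE⟩ := exists_slice A R m
    obtain ⟨q, hq, hqm⟩ := exists_prime_quotient m g hg J hJ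
    refine ⟨g, J, hE, q, hq, ?_⟩
    rw [IsScalarTower.algebraMap_eq A R (Localization.Away g ⧸ J), ← Ideal.comap_comap, hqm, hmp]
  · -- infinite residue field: a rational point in the image of an étale chart
    obtain ⟨d, y, g, -, hg, φ, hφ, hφX⟩ :=
      exists_chart A R m₀ Set.univ (span_image_univ (k := A) m₀)
    let _ : Algebra (MvPolynomial (Fin d) A) (Localization.Away g) := φ.toRingHom.toAlgebra
    have htower : IsScalarTower A (MvPolynomial (Fin d) A) (Localization.Away g) :=
      IsScalarTower.of_algebraMap_eq' φ.comp_algebraMap.symm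
    have hE : Algebra.Etale (MvPolynomial (Fin d) A) (Localization.Away g) :=
      RingHom.etale_algebraMap.mp hφ
    have hopen : IsOpenMap (PrimeSpectrum.comap
        (algebraMap (MvPolynomial (Fin d) A) (Localization.Away g))) :=
      PrimeSpectrum.isOpenMap_comap_of_hasGoingDown_of_finitePresentation
    have hdisj : Disjoint (Submonoid.powers g : Set R) (m₀ : Set R) := by
      rw [Set.disjoint_left]
      rintro _ ⟨n, rfl⟩ hmem
      exact hg (‹m₀.IsPrime›.mem_of_pow_mem n hmem)
    have hprime : (m₀.map (algebraMap R (Localization.Away g))).IsPrime :=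
      IsLocalization.isPrime_of_isPrime_disjoint (Submonoid.powers g) _ m₀ ‹_› hdisj
    have hcomap : (m₀.map (algebraMap R (Localization.Away g))).comap
        (algebraMap R (Localization.Away g)) = m₀ :=
      IsLocalization.comap_map_of_isPrime_disjoint (Submonoid.powers g) _ ‹_› hdisj
    let Q₀ : PrimeSpectrum (Localization.Away g) := ⟨_, hprime⟩
    set W := Set.range (PrimeSpectrum.comap
      (algebraMap (MvPolynomial (Fin d) A) (Localization.Away g))) with hW
    have hWopen : IsOpen W := hopen.isOpen_range
    have hq₀ : PrimeSpectrum.comap (algebraMap (MvPolynomial (Fin d) A) (Localization.Away g)) Q₀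
        ∈ W := ⟨Q₀, rfl⟩
    obtain ⟨v, ⟨_, ⟨h, rfl⟩, rfl⟩, hq₀h, hvW⟩ :=
      PrimeSpectrum.isBasis_basic_opens.exists_subset_of_mem_open hq₀ hWopen
    -- the comap of `Q₀` to `A` is `p`
    have hQ₀A : (m₀.map (algebraMap R (Localization.Away g))).comap
        (algebraMap A (Localization.Away g)) = p := by
      rw [IsScalarTower.algebraMap_eq A R (Localization.Away g), ← Ideal.comap_comap, hcomap, hm₀]
    -- `h` is nonzero modulo `p`
    have hne : MvPolynomial.map (Ideal.Quotient.mk p) h ≠ 0 := by
      intro h0
      have h1 : h ∈ RingHom.ker (MvPolynomial.map (σ := Fin d) (Ideal.Quotient.mk p)) :=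
        RingHom.mem_ker.mpr h0
      rw [MvPolynomial.ker_map, Ideal.mk_ker] at h1
      have h2 : p.map (C : A →+* MvPolynomial (Fin d) A) ≤
          (m₀.map (algebraMap R (Localization.Away g))).comap
            (algebraMap (MvPolynomial (Fin d) A) (Localization.Away g)) := by
        rw [Ideal.map_le_iff_le_comap, Ideal.comap_comap, ← MvPolynomial.algebraMap_eq,
          ← IsScalarTower.algebraMap_eq, hQ₀A]
      exact hq₀h (h2 h1)
    obtain ⟨abar, habar⟩ : ∃ abar : Fin d → A ⧸ p,
        eval abar (MvPolynomial.map (Ideal.Quotient.mk p) h) ≠ 0 := by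
      by_contra hall
      push_neg at hall
      exact hne (MvPolynomial.funext fun x => by rw [hall x, map_zero])
    choose a ha using fun i => Ideal.Quotient.mk_surjective (abar i)
    have hev : (Ideal.Quotient.mk p).comp (eval a) =
        (eval abar).comp (MvPolynomial.map (Ideal.Quotient.mk p)) := by
      apply MvPolynomial.ringHom_ext
      · intro c
        simp
      · intro i
        simp [ha]
    have hah : eval a h ∉ p := by
      intro hmem
      apply habar
      have := RingHom.congr_fun hev h
      simp only [RingHom.comp_apply] at this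
      rw [← this]
      exact Ideal.Quotient.eq_zero_iff_mem.mpr hmem
    let N : PrimeSpectrum (MvPolynomial (Fin d) A) := ⟨p.comap (eval a), Ideal.comap_isPrime _ _⟩
    have hNh : N ∈ (PrimeSpectrum.basicOpen h : Set (PrimeSpectrum (MvPolynomial (Fin d) A))) :=
      hah
    obtain ⟨M, hM⟩ := hvW hNh
    have hMcomap : M.asIdeal.comap (algebraMap (MvPolynomial (Fin d) A) (Localization.Away g)) =
        p.comap (eval a) := congrArg PrimeSpectrum.asIdeal hM
    have hJM : (RingHom.ker (aeval a : MvPolynomial (Fin d) A →ₐ[A] A).toRingHom).map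
        φ.toRingHom ≤ M.asIdeal := by
      apply ker_map_le
      intro i
      have h1 : (X i - C (a i) : MvPolynomial (Fin d) A) ∈ p.comap (eval a) := by
        rw [Ideal.mem_comap, map_sub, eval_X, eval_C, sub_self]
        exact p.zero_mem
      rw [← hMcomap, Ideal.mem_comap] at h1
      have h2 : algebraMap (MvPolynomial (Fin d) A) (Localization.Away g) (X i - C (a i)) =
          φ (X i) - algebraMap A (Localization.Away g) (a i) := by
        rw [map_sub, ← MvPolynomial.algebraMap_eq, ← IsScalarTower.algebraMap_apply]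
        rfl
      rwa [h2] at h1
    refine ⟨g, _, etale_quotient_of_retraction A _ _ φ hφ (aeval a), M.asIdeal.map
      (Ideal.Quotient.mk _), ?_, ?_⟩
    · exact Ideal.map_isPrime_of_surjective Ideal.Quotient.mk_surjective (by rwa [Ideal.mk_ker])
    · rw [IsScalarTower.algebraMap_eq A (Localization.Away g) (Localization.Away g ⧸ _),
        ← Ideal.comap_comap, Ideal.Quotient.algebraMap_eq,
        Ideal.comap_map_of_surjective _ Ideal.Quotient.mk_surjective, ← RingHom.ker_eq_comap_bot,
        Ideal.mk_ker, sup_eq_left.mpr hJM,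
        IsScalarTower.algebraMap_eq A (MvPolynomial (Fin d) A) (Localization.Away g),
        ← Ideal.comap_comap, hMcomap, Ideal.comap_comap]
      have : (eval a).comp (algebraMap A (MvPolynomial (Fin d) A)) = RingHom.id A := by
        ext c
        simp [MvPolynomial.algebraMap_eq]
      rw [this, Ideal.comap_id]

end Slice

end Groth.Agent.Lib.Helper7.SmoothSlice
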