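import Groth.Prelude.Def_MoreMor
import Mathlib.AlgebraicGeometry.Morphisms.QuasiFinite
import Mathlib.FieldTheory.SeparableDegree

/-!
# Fibre integrals via geometric points (helper7)

For `π : U ⟶ V` locally quasi-finite, an algebraically closed field `Ω` and a geometric point
`(v, φ : κ(v) ⟶ Ω)` of `V`, the fibre integral `MoreMor.fibreIntegral π w v` is the sum of `w` over the
(finite) set `GeomLifts` of lifts `Spec Ω ⟶ U` of the geometric point
(`fibreIntegral_eq_sum_geomLifts`).  Consequently fibre integrals commute with base change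
(`fibreIntegral_baseChange`).
-/

set_option autoImplicit false
set_option linter.style.haveILetI false
universe u
open AlgebraicGeometry CategoryTheory Limits

namespace Groth.Agent.Lib.Helper7

variable {U V : Scheme.{u}} (π : U ⟶ V)

/-- Residue field extensions of a locally quasi-finite morphism are finite. -/
theorem finite_residueFieldMap [LocallyQuasiFinite π] (u : U) :
    letI := (π.residueFieldMap u).hom.toAlgebra
    Module.Finite (V.residueField (π u)) (U.residueField u) := by
  have h1 : LocallyQuasiFinite (U.fromSpecStalk u ≫ π) :=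
    Scheme.Hom.quasiFiniteAt_iff.mp (π.quasiFiniteAt u)
  have h2 : LocallyQuasiFinite (U.fromSpecResidueField u ≫ π) := by
    have : IsClosedImmersion (Spec.map (U.residue u)) :=
      IsClosedImmersion.spec_of_surjective _ (U.residue_surjective u)
    rw [Scheme.fromSpecResidueField, Category.assoc]
    infer_instance
  have h3 : LocallyQuasiFinite
      (Spec.map (π.residueFieldMap u) ≫ V.fromSpecResidueField (π u)) := by
    rwa [Scheme.Hom.SpecMap_residueFieldMap_fromSpecResidueField]
  have h4 : LocallyQuasiFinite (Spec.map (π.residueFieldMap u)) :=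
    .of_comp _ (V.fromSpecResidueField _)
  have h5 : (π.residueFieldMap u).hom.QuasiFinite :=
    (HasRingHomProperty.Spec_iff (P := @LocallyQuasiFinite)).mp h4
  algebraize [(π.residueFieldMap u).hom]
  exact Module.Finite.of_quasiFinite

/-- Lifts through `u` of the geometric point `(π u, φ)` correspond to `κ(π u)`-embeddings of `κ(u)`. -/
theorem nonempty_equiv_lifts_algHom (Ω : Type u) [Field Ω] (u : U)
    (φ : V.residueField (π u) ⟶ CommRingCat.of Ω) :
    letI := (π.residueFieldMap u).hom.toAlgebra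
    letI := φ.hom.toAlgebra
    Nonempty ((U.residueField u →ₐ[V.residueField (π u)] Ω) ≃
      {ū : Spec (CommRingCat.of Ω) ⟶ U //
        ū ≫ π = Spec.map φ ≫ V.fromSpecResidueField (π u) ∧
          ū (IsLocalRing.closedPoint Ω) = u}) := by
  let _ := (π.residueFieldMap u).hom.toAlgebra
  let _ := φ.hom.toAlgebra
  let F : (U.residueField u →ₐ[V.residueField (π u)] Ω) →
      {ū : Spec (CommRingCat.of Ω) ⟶ U //
        ū ≫ π = Spec.map φ ≫ V.fromSpecResidueField (π u) ∧
          ū (IsLocalRing.closedPoint Ω) = u} := fun ψ =>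
    ⟨Spec.map (CommRingCat.ofHom ψ.toRingHom) ≫ U.fromSpecResidueField u, by
      constructor
      · rw [Category.assoc, ← Scheme.Hom.SpecMap_residueFieldMap_fromSpecResidueField,
          ← Spec.map_comp_assoc]
        congr 2
        ext x
        exact ψ.commutes x
      · exact Scheme.fromSpecResidueField_apply u _⟩
  refine ⟨Equiv.ofBijective F ⟨?_, ?_⟩⟩
  · intro ψ₁ ψ₂ h
    have h' := congrArg Subtype.val h
    simp only [F] at h'
    rw [cancel_mono] at h'
    have := Spec.map_injective h'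
    ext x
    exact congrArg (fun f => f.hom x) this
  · rintro ⟨ū, hū, hpt⟩
    obtain ⟨⟨u', ψ'⟩, rfl⟩ := (Scheme.SpecToEquivOfField Ω U).symm.surjective ū
    simp only [Scheme.SpecToEquivOfField_symm_apply] at hū hpt ⊢
    have hu' : u' = u := by
      rw [← hpt]
      exact (Scheme.fromSpecResidueField_apply u' _).symm
    subst hu'
    have hψ : π.residueFieldMap u' ≫ ψ' = φ := by
      rw [Category.assoc, ← Scheme.Hom.SpecMap_residueFieldMap_fromSpecResidueField,
        ← Spec.map_comp_assoc, cancel_mono] at hū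
      exact Spec.map_injective hū
    refine ⟨⟨ψ'.hom, fun x => ?_⟩, ?_⟩
    · exact congrArg (fun f => f.hom x) hψ
    · rfl

/-- The type of lifts of a geometric point. -/
def GeomLifts (Ω : Type u) [Field Ω] (vb : Spec (CommRingCat.of Ω) ⟶ V) : Type u :=
  {ū : Spec (CommRingCat.of Ω) ⟶ U // ū ≫ π = vb}

variable {π} in
/-- The underlying point of a lift. -/
noncomputable def GeomLifts.pt {Ω : Type u} [Field Ω] {vb : Spec (CommRingCat.of Ω) ⟶ V}
    (ū : GeomLifts π Ω vb) : U := ū.1 (IsLocalRing.closedPoint Ω)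

variable {π} in
theorem GeomLifts.map_pt {Ω : Type u} [Field Ω] {vb : Spec (CommRingCat.of Ω) ⟶ V}
    (ū : GeomLifts π Ω vb) : π ū.pt = vb (IsLocalRing.closedPoint Ω) := by
  have := congrArg (fun f : Spec (CommRingCat.of Ω) ⟶ V => f (IsLocalRing.closedPoint Ω)) ū.2
  exact this

theorem card_geomLifts_fiber [LocallyQuasiFinite π] (Ω : Type u) [Field Ω] [IsAlgClosed Ω]
    (v : V) (φ : V.residueField v ⟶ CommRingCat.of Ω) (u : U) (hu : π u = v) :
    Finite {ū : GeomLifts π Ω (Spec.map φ ≫ V.fromSpecResidueField v) // ū.pt = u} ∧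
    Nat.card {ū : GeomLifts π Ω (Spec.map φ ≫ V.fromSpecResidueField v) // ū.pt = u} =
      (letI := (π.residueFieldMap u).hom.toAlgebra;
        Field.finSepDegree (V.residueField (π u)) (U.residueField u)) := by
  subst hu
  let _ := (π.residueFieldMap u).hom.toAlgebra
  let _ := φ.hom.toAlgebra
  have hfin := finite_residueFieldMap π u
  obtain ⟨e⟩ := nonempty_equiv_lifts_algHom π Ω u φ
  let e' : {ū : GeomLifts π Ω (Spec.map φ ≫ V.fromSpecResidueField (π u)) // ū.pt = u} ≃
      {ū : Spec (CommRingCat.of Ω) ⟶ U //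
        ū ≫ π = Spec.map φ ≫ V.fromSpecResidueField (π u) ∧
          ū (IsLocalRing.closedPoint Ω) = u} :=
    Equiv.subtypeSubtypeEquivSubtypeInter
      (fun ū : Spec (CommRingCat.of Ω) ⟶ U => ū ≫ π = Spec.map φ ≫ V.fromSpecResidueField (π u))
      (fun ū => ū (IsLocalRing.closedPoint Ω) = u)
  have hF : Finite (U.residueField u →ₐ[V.residueField (π u)] Ω) := inferInstance
  refine ⟨Finite.of_equiv _ (e.trans e'.symm), ?_⟩
  rw [Nat.card_congr (e'.trans e.symm)]
  exact (Field.finSepDegree_eq_of_isAlgClosed _ _ Ω).symm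

theorem fibreIntegral_eq_sum_geomLifts [LocallyQuasiFinite π] (Ω : Type u) [Field Ω]
    [IsAlgClosed Ω] (w : U → ℤ) (v : V) (φ : V.residueField v ⟶ CommRingCat.of Ω)
    (hfin : (π ⁻¹' {v}).Finite) :
    Finite (GeomLifts π Ω (Spec.map φ ≫ V.fromSpecResidueField v)) ∧
    MoreMor.fibreIntegral π w v =
      ∑ᶠ ū : GeomLifts π Ω (Spec.map φ ≫ V.fromSpecResidueField v), w ū.pt := by
  classical
  have hv : ∀ ū : GeomLifts π Ω (Spec.map φ ≫ V.fromSpecResidueField v), π ū.pt = v :=
    fun ū => by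
      rw [ū.map_pt]
      exact Scheme.fromSpecResidueField_apply v _
  let p : GeomLifts π Ω (Spec.map φ ≫ V.fromSpecResidueField v) → {u : U // π u = v} :=
    fun ū => ⟨ū.pt, hv ū⟩
  have hcard := fun u : {u : U // π u = v} => card_geomLifts_fiber π Ω v φ u.1 u.2
  have e : ∀ u : {u : U // π u = v},
      {ū : GeomLifts π Ω (Spec.map φ ≫ V.fromSpecResidueField v) // p ū = u} ≃
        {ū : GeomLifts π Ω (Spec.map φ ≫ V.fromSpecResidueField v) // ū.pt = u.1} :=
    fun u => Equiv.subtypeEquivRight (fun ū => by simp [p, Subtype.ext_iff])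
  have : Finite {u : U // π u = v} := hfin.to_subtype
  have : ∀ u, Finite {ū : GeomLifts π Ω (Spec.map φ ≫ V.fromSpecResidueField v) // p ū = u} :=
    fun u => by
      have := (hcard u).1
      exact Finite.of_equiv _ (e u).symm
  have : Finite (GeomLifts π Ω (Spec.map φ ≫ V.fromSpecResidueField v)) :=
    Finite.of_equiv _ (Equiv.sigmaFiberEquiv p)
  refine ⟨inferInstance, ?_⟩
  letI := Fintype.ofFinite (GeomLifts π Ω (Spec.map φ ≫ V.fromSpecResidueField v))
  letI := Fintype.ofFinite {u : U // π u = v}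
  letI : ∀ u, Fintype {ū : GeomLifts π Ω (Spec.map φ ≫ V.fromSpecResidueField v) // p ū = u} :=
    fun u => Fintype.ofFinite _
  rw [MoreMor.fibreIntegral, finsum_eq_sum_of_fintype, finsum_eq_sum_of_fintype,
    ← Fintype.sum_fiberwise p]
  refine Finset.sum_congr rfl fun u _ => ?_
  have : ∀ ū : {ū : GeomLifts π Ω (Spec.map φ ≫ V.fromSpecResidueField v) // p ū = u},
      w ū.1.pt = w u.1 := fun ū => congrArg (fun x : {u : U // π u = v} => w x.1) ū.2
  rw [Finset.sum_congr rfl (fun ū _ => this ū)]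
  simp only [Finset.sum_const, Finset.card_univ, nsmul_eq_mul]
  rw [mul_comm]
  congr 1
  rw [Fintype.card_eq_nat_card, ← (hcard u).2]
  congr 1
  exact Nat.card_congr (e u).symm


/-- Every point of the fibre is the image of a lift of the geometric point. -/
theorem exists_geomLifts_pt_eq [LocallyQuasiFinite π] (Ω : Type u) [Field Ω] [IsAlgClosed Ω]
    (v : V) (φ : V.residueField v ⟶ CommRingCat.of Ω) (u : U) (hu : π u = v) :
    ∃ ū : GeomLifts π Ω (Spec.map φ ≫ V.fromSpecResidueField v), ū.pt = u := by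
  subst hu
  letI := (π.residueFieldMap u).hom.toAlgebra
  letI := φ.hom.toAlgebra
  have hfin := finite_residueFieldMap π u
  obtain ⟨e⟩ := nonempty_equiv_lifts_algHom π Ω u φ
  have ψ : U.residueField u →ₐ[V.residueField (π u)] Ω := IsAlgClosed.lift
  exact ⟨⟨(e ψ).1, (e ψ).2.1⟩, (e ψ).2.2⟩

/-- Lifts of a geometric point of `V'` to a base change `U'` correspond to lifts of its image
to `U`. -/
noncomputable def geomLiftsEquivOfIsPullback {U' V' : Scheme.{u}} {π' : U' ⟶ V'} {h : U' ⟶ U}
    {g : V' ⟶ V} (hc : IsPullback h π' π g) (Ω : Type u) [Field Ω]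
    (vb' : Spec (CommRingCat.of Ω) ⟶ V') (vb : Spec (CommRingCat.of Ω) ⟶ V) (hvb : vb' ≫ g = vb) :
    GeomLifts π' Ω vb' ≃ GeomLifts π Ω vb where
  toFun ū := ⟨ū.1 ≫ h, by rw [Category.assoc, hc.w, ← Category.assoc, ū.2, hvb]⟩
  invFun ū := ⟨hc.lift ū.1 vb' (by rw [ū.2, hvb]), hc.lift_snd _ _ _⟩
  left_inv ū := by
    apply Subtype.ext
    apply hc.hom_ext
    · simp
    · simp [ū.2]
  right_inv ū := by
    apply Subtype.ext
    simp

theorem geomLiftsEquivOfIsPullback_pt {U' V' : Scheme.{u}} {π' : U' ⟶ V'} {h : U' ⟶ U}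
    {g : V' ⟶ V} (hc : IsPullback h π' π g) (Ω : Type u) [Field Ω]
    (vb' : Spec (CommRingCat.of Ω) ⟶ V') (vb : Spec (CommRingCat.of Ω) ⟶ V) (hvb : vb' ≫ g = vb)
    (ū : GeomLifts π' Ω vb') :
    (geomLiftsEquivOfIsPullback π hc Ω vb' vb hvb ū).pt = h ū.pt := rfl

theorem fibreIntegral_baseChange_aux [LocallyQuasiFinite π] (hfin : ∀ v : V, (π ⁻¹' {v}).Finite)
    {U' V' : Scheme.{u}} (π' : U' ⟶ V') (h : U' ⟶ U) (g : V' ⟶ V) (hc : IsPullback h π' π g)
    (w : U → ℤ) (v' : V') (Ω : Type u) [Field Ω] [IsAlgClosed Ω]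
    (φ' : V'.residueField v' ⟶ CommRingCat.of Ω) :
    MoreMor.fibreIntegral π' (w ∘ ⇑h) v' = MoreMor.fibreIntegral π w (g v') := by
  have : LocallyQuasiFinite π' := MorphismProperty.of_isPullback (P := @LocallyQuasiFinite) hc ‹_›
  let φ : V.residueField (g v') ⟶ CommRingCat.of Ω := g.residueFieldMap v' ≫ φ'
  have hvb : (Spec.map φ' ≫ V'.fromSpecResidueField v') ≫ g =
      Spec.map φ ≫ V.fromSpecResidueField (g v') := by
    rw [Category.assoc, ← Scheme.Hom.SpecMap_residueFieldMap_fromSpecResidueField,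
      ← Spec.map_comp_assoc]
  let E := geomLiftsEquivOfIsPullback π hc Ω _ _ hvb
  obtain ⟨hF, h1⟩ := fibreIntegral_eq_sum_geomLifts π Ω w (g v') φ (hfin _)
  have hF' : Finite (GeomLifts π' Ω (Spec.map φ' ≫ V'.fromSpecResidueField v')) :=
    Finite.of_equiv _ E.symm
  have hfin' : (π' ⁻¹' {v'}).Finite := by
    refine (Set.finite_range
      (fun ū : GeomLifts π' Ω (Spec.map φ' ≫ V'.fromSpecResidueField v') => ū.pt)).subset ?_
    intro u' hu'
    obtain ⟨ū, hū⟩ := exists_geomLifts_pt_eq π' Ω v' φ' u' hu'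
    exact ⟨ū, hū⟩
  obtain ⟨_, h2⟩ := fibreIntegral_eq_sum_geomLifts π' Ω (w ∘ ⇑h) v' φ' hfin'
  rw [h1, h2, ← finsum_comp_equiv E]
  rfl

/-- Fibre integrals commute with base change. -/
theorem fibreIntegral_baseChange [LocallyQuasiFinite π] (hfin : ∀ v : V, (π ⁻¹' {v}).Finite)
    {U' V' : Scheme.{u}} (π' : U' ⟶ V') (h : U' ⟶ U) (g : V' ⟶ V) (hc : IsPullback h π' π g)
    (w : U → ℤ) (v' : V') :
    MoreMor.fibreIntegral π' (w ∘ ⇑h) v' = MoreMor.fibreIntegral π w (g v') :=
  fibreIntegral_baseChange_aux π hfin π' h g hc w v' (AlgebraicClosure (V'.residueField v'))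
    (CommRingCat.ofHom (algebraMap (V'.residueField v') (AlgebraicClosure (V'.residueField v'))))

end Groth.Agent.Lib.Helper7
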