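import Groth.Agent.Lib.Helper7.QuasiFiniteBoundAlg
import Groth.Agent.Lib.Helper7.FormallyEtaleLift
import Mathlib.AlgebraicGeometry.Morphisms.QuasiFinite
import Mathlib.AlgebraicGeometry.PullbackCarrier

set_option autoImplicit false

namespace Groth.Agent.Lib.Helper7

open AlgebraicGeometry CategoryTheory Limits TopologicalSpace TensorProduct

universe u

/-- Per-piece bound: for affine opens `U ⊆ f⁻¹ V`, the number of points of `X ×_Y Spec K` lying
over `U` is uniformly bounded. -/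
theorem exists_bound_encard_preimage_fst {X Y : Scheme.{u}} (f : X ⟶ Y) [LocallyQuasiFinite f]
    [LocallyOfFiniteType f] {U : X.Opens} {V : Y.Opens} (hU : IsAffineOpen U)
    (hV : IsAffineOpen V) (hUV : U ≤ f ⁻¹ᵁ V) :
    ∃ N : ℕ, ∀ (K : Type u) [Field K] (g : Spec (CommRingCat.of K) ⟶ Y),
      (pullback.fst f g ⁻¹' (U : Set X)).encard ≤ N := by
  letI := (f.appLE V U hUV).hom.toAlgebra
  haveI : Algebra.FiniteType Γ(Y, V) Γ(X, U) := f.finiteType_appLE hV hU hUV
  haveI : Algebra.QuasiFinite Γ(Y, V) Γ(X, U) :=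
    LocallyQuasiFinite.quasiFinite_appLE (f := f) hV hU hUV
  obtain ⟨N, hN⟩ := exists_bound_card_primeSpectrum_tensor Γ(Y, V) Γ(X, U)
  refine ⟨N, fun K _ g => ?_⟩
  by_cases hg : Set.range g ⊆ (V : Set Y)
  · obtain ⟨γ, hγ⟩ := exists_SpecMap_comp_fromSpec hV g hg
    letI := γ.hom.toAlgebra
    have e1 : Spec.map (f.appLE V U hUV) ≫ hV.fromSpec = hU.fromSpec ≫ f :=
      IsAffineOpen.SpecMap_appLE_fromSpec f hV hU hUV
    have e2 : Spec.map γ ≫ hV.fromSpec = 𝟙 _ ≫ g := by rw [Category.id_comp, hγ]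
    let m : pullback (Spec.map (f.appLE V U hUV)) (Spec.map γ) ⟶ pullback f g :=
      pullback.map _ _ _ _ hU.fromSpec (𝟙 _) hV.fromSpec e1 e2
    have hrange : Set.range m = pullback.fst f g ⁻¹' (U : Set X) := by
      rw [Scheme.Pullback.range_map, hU.range_fromSpec]
      simp
    rw [← hrange]
    let e : pullback (Spec.map (f.appLE V U hUV)) (Spec.map γ) ≅
        Spec (CommRingCat.of (K ⊗[Γ(Y, V)] Γ(X, U))) :=
      pullbackSymmetry _ _ ≪≫ pullbackSpecIso Γ(Y, V) K Γ(X, U)
    calc (Set.range m).encard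
        ≤ ENat.card ↥(pullback (Spec.map (f.appLE V U hUV)) (Spec.map γ)) := by
          rw [← Set.image_univ, ← Set.encard_univ]
          exact Set.encard_image_le _ _
      _ = ENat.card (PrimeSpectrum (K ⊗[Γ(Y, V)] Γ(X, U))) :=
          ENat.card_congr (Scheme.homeoOfIso e).toEquiv
      _ ≤ N := hN K
  · have : pullback.fst f g ⁻¹' (U : Set X) = ∅ := by
      rw [Set.eq_empty_iff_forall_notMem]
      intro z hz
      apply hg
      rintro _ ⟨w, rfl⟩
      have hw : w = pullback.snd f g z := Subsingleton.elim _ _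
      have h1 : f (pullback.fst f g z) ∈ V := hUV hz
      rw [← Scheme.Hom.comp_apply, pullback.condition, Scheme.Hom.comp_apply] at h1
      rw [hw]; exact h1
    rw [this, Set.encard_empty]
    exact zero_le

/-- (C): for a locally quasi-finite morphism locally of finite type with quasi-compact source, the
number of points of `X ×_Y Spec K` is uniformly bounded over all field-valued points of `Y`. -/
theorem exists_bound_card_pullback {X Y : Scheme.{u}} (f : X ⟶ Y) [LocallyQuasiFinite f]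
    [LocallyOfFiniteType f] [CompactSpace X] :
    ∃ N : ℕ, ∀ (K : Type u) [Field K] (g : Spec (CommRingCat.of K) ⟶ Y),
      ENat.card ↥(pullback f g) ≤ N := by
  have h : ∀ x : X, ∃ (U : X.Opens) (V : Y.Opens), IsAffineOpen U ∧ IsAffineOpen V ∧
      U ≤ f ⁻¹ᵁ V ∧ x ∈ U := by
    intro x
    obtain ⟨V, hV, hxV, -⟩ := Opens.isBasis_iff_nbhd.mp Y.isBasis_affineOpens
      (Opens.mem_top (f x))
    obtain ⟨U, hU, hxU, hUV⟩ := Opens.isBasis_iff_nbhd.mp X.isBasis_affineOpens
      (show x ∈ f ⁻¹ᵁ V from hxV)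
    exact ⟨U, V, hU, hV, hUV, hxU⟩
  choose U V hU hV hUV hxU using h
  obtain ⟨t, ht⟩ := CompactSpace.elim_nhds_subcover (fun x => (U x : Set X))
    (fun x => (U x).isOpen.mem_nhds (hxU x))
  choose N hN using fun x => exists_bound_encard_preimage_fst f (hU x) (hV x) (hUV x)
  refine ⟨∑ x ∈ t, N x, fun K _ g => ?_⟩
  have hcover : (Set.univ : Set ↥(pullback f g)) ⊆
      ⋃ x ∈ t, pullback.fst f g ⁻¹' (U x : Set X) := by
    intro z _
    have : pullback.fst f g z ∈ (⊤ : Set X) := trivial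
    rw [← ht] at this
    obtain ⟨x, hxt, hx⟩ := Set.mem_iUnion₂.mp this
    exact Set.mem_iUnion₂.mpr ⟨x, hxt, hx⟩
  calc ENat.card ↥(pullback f g)
      = (Set.univ : Set ↥(pullback f g)).encard := (Set.encard_univ _).symm
    _ ≤ (⋃ x ∈ t, pullback.fst f g ⁻¹' (U x : Set X)).encard := Set.encard_le_encard hcover
    _ ≤ ∑ x ∈ t, (pullback.fst f g ⁻¹' (U x : Set X)).encard :=
        Finset.set_encard_biUnion_le t _
    _ ≤ ∑ x ∈ t, (N x : ℕ∞) := Finset.sum_le_sum fun x _ => hN x K g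
    _ = ((∑ x ∈ t, N x : ℕ) : ℕ∞) := by push_cast; rfl

end Groth.Agent.Lib.Helper7
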