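import Mathlib
import Groth.Prelude.Def_MoreMor
import Groth.Agent.Lib.Helper7.FibreIntegral
import Groth.Agent.Lib.Helper7.QuasiFiniteBound
import Groth.Agent.Lib.Helper22.WeightingCore

/-!
# Étale localisation of quasi-finite morphisms: splitting off all points of a fibre (helper7)

Built on helper22's `IsPiece` machinery.  Main result `exists_etale_complete_pieces`:
for `f : X ⟶ S` locally quasi-finite, locally of finite type with `X` quasi-compact, and `s : S`,
there is an étale neighbourhood `(U, u)` of `s` and finitely many finite pieces of `f` over `U`,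
each of geometric degree one at `u`, with pairwise disjoint fibres over `u`, covering the whole fibre
of `X ×_S U` over `u`.
-/

set_option autoImplicit false
set_option linter.style.haveILetI false
universe u
open AlgebraicGeometry CategoryTheory Limits

namespace Groth.Agent.Lib.Helper7.EtaleSplit

open Groth.Agent.Lib.Helper7
open Groth.Agent.Lib.Helper22.Weighting

variable {X S : Scheme.{u}}

/-- A bundled finite piece of `f` over `g`. -/
structure BPiece (f : X ⟶ S) {U : Scheme.{u}} (g : U ⟶ S) where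
  P : Scheme.{u}
  a : P ⟶ X
  π : P ⟶ U
  isPiece : IsPiece f g a π

namespace BPiece

variable {f : X ⟶ S} {U : Scheme.{u}} {g : U ⟶ S}

/-- The open immersion of a piece into the fibre product. -/
noncomputable def j (p : BPiece f g) : p.P ⟶ pullback f g :=
  pullback.lift p.a p.π p.isPiece.comm

instance (p : BPiece f g) : IsOpenImmersion p.j := p.isPiece.isOpenImmersion_lift

instance (p : BPiece f g) : IsFinite p.π := p.isPiece.isFinite

@[reassoc (attr := simp)]
theorem j_fst (p : BPiece f g) : p.j ≫ pullback.fst f g = p.a := pullback.lift_fst _ _ _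

@[reassoc (attr := simp)]
theorem j_snd (p : BPiece f g) : p.j ≫ pullback.snd f g = p.π := pullback.lift_snd _ _ _

theorem snd_j_apply (p : BPiece f g) (x : p.P) : pullback.snd f g (p.j x) = p.π x := by
  rw [← Scheme.Hom.comp_apply, j_snd]

theorem fst_j_apply (p : BPiece f g) (x : p.P) : pullback.fst f g (p.j x) = p.a x := by
  rw [← Scheme.Hom.comp_apply, j_fst]

/-- The points of the piece over `u`, as points of the fibre product. -/
def fibrePts (p : BPiece f g) (u : U) : Set ↥(pullback f g) := p.j '' (p.π ⁻¹' {u})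

theorem mem_fibrePts {p : BPiece f g} {u : U} {w : ↥(pullback f g)} :
    w ∈ p.fibrePts u ↔ ∃ x : p.P, p.π x = u ∧ p.j x = w := Iff.rfl

theorem snd_of_mem_fibrePts {p : BPiece f g} {u : U} {w : ↥(pullback f g)}
    (hw : w ∈ p.fibrePts u) : pullback.snd f g w = u := by
  obtain ⟨x, hx, rfl⟩ := hw
  rw [snd_j_apply]; exact hx

theorem fibrePts_nonempty {p : BPiece f g} {u : U} (h : deg p.π u = 1) :
    (p.fibrePts u).Nonempty := by
  obtain ⟨x, hx⟩ := exists_of_fibreIntegral_ne_zero p.π (fun _ => 1) u (by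
    change deg p.π u ≠ 0
    rw [h]; exact one_ne_zero)
  exact ⟨p.j x, x, hx, rfl⟩

theorem eq_of_deg {p : BPiece f g} {u : U} (h : deg p.π u = 1) {x x' : p.P}
    (hx : p.π x = u) (hx' : p.π x' = u) : x' = x := by
  subst hx
  exact eq_of_deg_eq_one p.π x x' h hx'

/-- The comparison map of fibre products for a change of base. -/
noncomputable def q (f : X ⟶ S) (g : U ⟶ S) {V : Scheme.{u}} (γ : V ⟶ U) :
    pullback f (γ ≫ g) ⟶ pullback f g :=
  pullback.lift (pullback.fst _ _) (pullback.snd _ _ ≫ γ)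
    (by rw [pullback.condition, Category.assoc])

@[reassoc (attr := simp)]
theorem q_fst {V : Scheme.{u}} (γ : V ⟶ U) : q f g γ ≫ pullback.fst f g = pullback.fst _ _ :=
  pullback.lift_fst _ _ _

@[reassoc (attr := simp)]
theorem q_snd {V : Scheme.{u}} (γ : V ⟶ U) :
    q f g γ ≫ pullback.snd f g = pullback.snd _ _ ≫ γ :=
  pullback.lift_snd _ _ _

/-- Base change of a bundled piece. -/
noncomputable abbrev baseChange (p : BPiece f g) {V : Scheme.{u}} (γ : V ⟶ U) :
    BPiece f (γ ≫ g) :=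
  ⟨pullback p.π γ, pullback.fst p.π γ ≫ p.a, pullback.snd p.π γ, p.isPiece.baseChange γ⟩

theorem baseChange_j_q (p : BPiece f g) {V : Scheme.{u}} (γ : V ⟶ U) :
    (p.baseChange γ).j ≫ q f g γ = pullback.fst p.π γ ≫ p.j := by
  apply pullback.hom_ext
  · rw [Category.assoc, q_fst, j_fst, Category.assoc, j_fst]
  · rw [Category.assoc, q_snd, j_snd_assoc, Category.assoc, j_snd]
    exact pullback.condition.symm

theorem q_mem_fibrePts (p : BPiece f g) {V : Scheme.{u}} (γ : V ⟶ U) {v : V}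
    {w : ↥(pullback f (γ ≫ g))} (hw : w ∈ (p.baseChange γ).fibrePts v) :
    q f g γ w ∈ p.fibrePts (γ v) := by
  obtain ⟨x, hx, rfl⟩ := hw
  refine ⟨pullback.fst p.π γ x, ?_, ?_⟩
  · have h1 : p.π (pullback.fst p.π γ x) = γ (pullback.snd p.π γ x) := by
      rw [← Scheme.Hom.comp_apply, ← Scheme.Hom.comp_apply, pullback.condition]
    rw [Set.mem_preimage, h1]
    have : pullback.snd p.π γ x = v := hx
    rw [this]; rfl
  · rw [← Scheme.Hom.comp_apply, ← Scheme.Hom.comp_apply, baseChange_j_q]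

theorem deg_baseChange (p : BPiece f g) {V : Scheme.{u}} (γ : V ⟶ U) (v : V) :
    deg (p.baseChange γ).π v = deg p.π (γ v) :=
  deg_pullback_snd p.π γ v

theorem disjoint_baseChange (p p' : BPiece f g) {V : Scheme.{u}} (γ : V ⟶ U) (v : V)
    (h : Disjoint (p.fibrePts (γ v)) (p'.fibrePts (γ v))) :
    Disjoint ((p.baseChange γ).fibrePts v) ((p'.baseChange γ).fibrePts v) := by
  rw [Set.disjoint_left] at h ⊢
  intro w hw hw'
  exact h (q_mem_fibrePts p γ hw) (q_mem_fibrePts p' γ hw')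

end BPiece

open BPiece

section Counting

/-- A counting lemma: pairwise disjoint nonempty subsets of a set. -/
theorem add_le_encard {α : Type*} (F : Set α) :
    ∀ (n : ℕ) (c : Fin n → Set α) (A : Set α), A ⊆ F →
      (∀ k, (c k).Nonempty ∧ c k ⊆ F ∧ Disjoint A (c k)) →
      (∀ k k', k ≠ k' → Disjoint (c k) (c k')) → A.encard + n ≤ F.encard := by
  intro n
  induction n with
  | zero =>
    intro c A hA _ _
    simpa using Set.encard_le_encard hA
  | succ n ih =>
    intro c A hA hc hd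
    have h0 := hc 0
    have := ih (fun k => c k.succ) (A ∪ c 0) (Set.union_subset hA h0.2.1)
      (fun k => ⟨(hc k.succ).1, (hc k.succ).2.1, by
        rw [Set.disjoint_union_left]
        exact ⟨(hc k.succ).2.2, hd 0 k.succ (Fin.succ_ne_zero k).symm⟩⟩)
      (fun k k' hkk' => hd _ _ (fun h => hkk' (Fin.succ_injective _ h)))
    rw [Set.encard_union_eq h0.2.2] at this
    have h1 : (1 : ℕ∞) ≤ (c 0).encard := Set.one_le_encard_iff_nonempty.mpr h0.1
    calc A.encard + ((n + 1 : ℕ) : ℕ∞) = A.encard + 1 + n := by push_cast; ring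
      _ ≤ A.encard + (c 0).encard + n := by gcongr
      _ ≤ F.encard := this

variable {f : X ⟶ S} {U : Scheme.{u}} {g : U ⟶ S}

/-- The fibre of `X ×_S U ⟶ U` over `u` has at most `N` points when `N` bounds the number of
points of all geometric fibres of `f`. -/
theorem encard_fibre_le (N : ℕ)
    (hN : ∀ (K : Type u) [Field K] (h : Spec (CommRingCat.of K) ⟶ S),
      ENat.card ↥(pullback f h) ≤ N) (g : U ⟶ S) (u : U) :
    (pullback.snd f g ⁻¹' {u}).encard ≤ N := by
  let k := U.fromSpecResidueField u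
  have hrange : Set.range (pullback.fst (pullback.snd f g) k) = pullback.snd f g ⁻¹' {u} := by
    rw [Scheme.Pullback.range_fst, Scheme.range_fromSpecResidueField]
  rw [← hrange]
  calc (Set.range (pullback.fst (pullback.snd f g) k)).encard
      ≤ ENat.card ↥(pullback (pullback.snd f g) k) := by
        rw [← Set.image_univ, ← Set.encard_univ]
        exact Set.encard_image_le _ _
    _ = ENat.card ↥(pullback f (k ≫ g)) :=
        ENat.card_congr (Scheme.homeoOfIso (pullbackLeftPullbackSndIso f g k)).toEquiv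
    _ ≤ N := hN _ _

end Counting

section Induction

variable {f : X ⟶ S} [LocallyQuasiFinite f] [LocallyOfFiniteType f]

/-- Adding a piece of geometric degree one through a given point of the fibre. -/
theorem exists_new_piece {U : Scheme.{u}} (g : U ⟶ S) (u : U) (w : ↥(pullback f g))
    (hw : pullback.snd f g w = u) :
    ∃ (V : Scheme.{u}) (γ : V ⟶ U) (_ : Etale γ) (v : V) (_ : γ v = u) (p : BPiece f (γ ≫ g)),
      deg p.π v = 1 ∧ ∀ w' ∈ p.fibrePts v, q f g γ w' = w := by
  obtain ⟨V, γ, hγ, P, a, π, hp, p₀, hap, hdeg⟩ :=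
    exists_etale_piece_deg_eq_one (pullback.snd f g) w
  have hp' : IsPiece f (γ ≫ g) (a ≫ pullback.fst f g) π :=
    IsPiece.of_baseChange (IsPullback.of_hasPullback f g) hp
  have := hp.isFinite
  refine ⟨V, γ, hγ, π p₀, ?_, ⟨P, a ≫ pullback.fst f g, π, hp'⟩, hdeg, ?_⟩
  · have h1 : pullback.snd f g (a p₀) = γ (π p₀) :=
      congrArg (fun k : P ⟶ U => k p₀) hp.comm
    rw [← h1, hap, hw]
  · rintro w' ⟨x, hx, rfl⟩
    have hx' : x = p₀ := eq_of_deg_eq_one π p₀ x hdeg hx
    subst hx'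
    have hjq : (⟨P, a ≫ pullback.fst f g, π, hp'⟩ : BPiece f (γ ≫ g)).j ≫ q f g γ = a := by
      apply pullback.hom_ext
      · rw [Category.assoc, q_fst, j_fst]
      · rw [Category.assoc, q_snd, j_snd_assoc]; exact hp.comm.symm
    rw [← Scheme.Hom.comp_apply, hjq, hap]

omit [LocallyQuasiFinite f] [LocallyOfFiniteType f] in
/-- If some point of the fibre is not covered, there is room for another piece. -/
theorem lt_of_uncovered (N : ℕ)
    (hN : ∀ (K : Type u) [Field K] (h : Spec (CommRingCat.of K) ⟶ S),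
      ENat.card ↥(pullback f h) ≤ N) {U : Scheme.{u}} (g : U ⟶ S) (u : U) (n : ℕ)
    (p : Fin n → BPiece f g) (hdeg : ∀ k, deg (p k).π u = 1)
    (hdisj : ∀ k k', k ≠ k' → Disjoint ((p k).fibrePts u) ((p k').fibrePts u))
    (w : ↥(pullback f g)) (hw : pullback.snd f g w = u) (hwk : ∀ k, w ∉ (p k).fibrePts u) :
    n < N := by
  have h1 := add_le_encard (pullback.snd f g ⁻¹' {u}) n (fun k => (p k).fibrePts u) {w}
    (by rintro _ rfl; exact hw)
    (fun k => ⟨fibrePts_nonempty (hdeg k), fun w' hw' => snd_of_mem_fibrePts hw',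
      Set.disjoint_singleton_left.mpr (hwk k)⟩) hdisj
  have h2 := encard_fibre_le N hN g u
  rw [Set.encard_singleton] at h1
  have h3 : ((1 + n : ℕ) : ℕ∞) ≤ (N : ℕ∞) := by
    push_cast
    exact h1.trans h2
  have h4 : 1 + n ≤ N := by exact_mod_cast h3
  omega

theorem exists_complete_aux (N : ℕ)
    (hN : ∀ (K : Type u) [Field K] (h : Spec (CommRingCat.of K) ⟶ S),
      ENat.card ↥(pullback f h) ≤ N) :
    ∀ (m : ℕ) (U : Scheme.{u}) (g : U ⟶ S) (_ : Etale g) (u : U) (n : ℕ)
      (p : Fin n → BPiece f g), (∀ k, deg (p k).π u = 1) →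
      (∀ k k', k ≠ k' → Disjoint ((p k).fibrePts u) ((p k').fibrePts u)) →
      N ≤ n + m →
      ∃ (U' : Scheme.{u}) (g' : U' ⟶ S) (_ : Etale g') (u' : U') (_ : g' u' = g u) (n' : ℕ)
        (p' : Fin n' → BPiece f g'), (∀ k, deg (p' k).π u' = 1) ∧
        (∀ k k', k ≠ k' → Disjoint ((p' k).fibrePts u') ((p' k').fibrePts u')) ∧
        ∀ w : ↥(pullback f g'), pullback.snd f g' w = u' → ∃ k, w ∈ (p' k).fibrePts u' := by
  intro m
  induction m with
  | zero =>
    intro U g hg u n p hdeg hdisj hle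
    by_cases hc : ∀ w : ↥(pullback f g), pullback.snd f g w = u → ∃ k, w ∈ (p k).fibrePts u
    · exact ⟨U, g, hg, u, rfl, n, p, hdeg, hdisj, hc⟩
    · push Not at hc
      obtain ⟨w, hw, hwk⟩ := hc
      have := lt_of_uncovered N hN g u n p hdeg hdisj w hw hwk
      omega
  | succ m ih =>
    intro U g hg u n p hdeg hdisj hle
    by_cases hc : ∀ w : ↥(pullback f g), pullback.snd f g w = u → ∃ k, w ∈ (p k).fibrePts u
    · exact ⟨U, g, hg, u, rfl, n, p, hdeg, hdisj, hc⟩
    · push Not at hc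
      obtain ⟨w, hw, hwk⟩ := hc
      obtain ⟨V, γ, hγ, v, hv, pnew, hdegnew, hqnew⟩ := exists_new_piece g u w hw
      subst hv
      let p' : Fin (n + 1) → BPiece f (γ ≫ g) := Fin.cons pnew (fun k => (p k).baseChange γ)
      have hnew_old : ∀ k, Disjoint (pnew.fibrePts v) (((p k).baseChange γ).fibrePts v) := by
        intro k
        rw [Set.disjoint_left]
        intro w' hw1 hw2
        have h1 := hqnew w' hw1
        have h2 := q_mem_fibrePts (p k) γ hw2
        rw [h1] at h2
        exact hwk k h2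
      have hdeg' : ∀ k, deg (p' k).π v = 1 := by
        intro k
        refine Fin.cases ?_ (fun k => ?_) k
        · exact hdegnew
        · change deg ((p k).baseChange γ).π v = 1
          rw [deg_baseChange]; exact hdeg k
      have hdisj' : ∀ k k', k ≠ k' →
          Disjoint ((p' k).fibrePts v) ((p' k').fibrePts v) := by
        intro k k'
        refine Fin.cases ?_ (fun k => ?_) k <;> refine Fin.cases ?_ (fun k' => ?_) k'
        · intro h; exact absurd rfl h
        · intro _; exact hnew_old k'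
        · intro _; exact (hnew_old k).symm
        · intro h
          exact disjoint_baseChange (p k) (p k') γ v
            (hdisj k k' (fun e => h (congrArg Fin.succ e)))
      obtain ⟨U', g', hg', u', hu', n', p'', h1, h2, h3⟩ :=
        ih V (γ ≫ g) inferInstance v (n + 1) p' hdeg' hdisj' (by omega)
      exact ⟨U', g', hg', u', hu'.trans (Scheme.Hom.comp_apply γ g v), n', p'', h1, h2, h3⟩

/-- **Étale splitting of a fibre**: for `f` locally quasi-finite, locally of finite type with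
quasi-compact source and `s : S` there is an étale neighbourhood `(U, u)` of `s` and finitely many
finite pieces of `f` over `U`, each with a single geometric point over `u`, with pairwise disjoint
fibres over `u`, which together contain all points of `X ×_S U` over `u`. -/
theorem exists_etale_complete_pieces (f : X ⟶ S) [LocallyQuasiFinite f] [LocallyOfFiniteType f]
    [CompactSpace X] (s : S) :
    ∃ (U : Scheme.{u}) (g : U ⟶ S) (_ : Etale g) (u : U) (_ : g u = s) (n : ℕ)
      (p : Fin n → BPiece f g), (∀ k, deg (p k).π u = 1) ∧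
      (∀ k k', k ≠ k' → Disjoint ((p k).fibrePts u) ((p k').fibrePts u)) ∧
      ∀ w : ↥(pullback f g), pullback.snd f g w = u → ∃ k, w ∈ (p k).fibrePts u := by
  obtain ⟨N, hN⟩ := exists_bound_card_pullback f
  exact exists_complete_aux N hN N S (𝟙 S) inferInstance s 0 Fin.elim0 (fun k => k.elim0)
    (fun k => k.elim0) (by omega)

end Induction

section Opens

variable {f : X ⟶ S} {U : Scheme.{u}} {g : U ⟶ S} {X₁ : Scheme.{u}}

/-- A piece of the restriction of `f` to an open subscheme, as a piece of `f`. -/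
noncomputable abbrev BPiece.ofOpen (ι₁ : X₁ ⟶ X) [IsOpenImmersion ι₁] (p : BPiece (ι₁ ≫ f) g) :
    BPiece f g :=
  ⟨p.P, p.a ≫ ι₁, p.π, p.isPiece.of_comp_openImmersion ι₁⟩

/-- The open immersion `X₁ ×_S U ⟶ X ×_S U`. -/
noncomputable def mOpen (f : X ⟶ S) (g : U ⟶ S) (ι₁ : X₁ ⟶ X) :
    pullback (ι₁ ≫ f) g ⟶ pullback f g :=
  pullback.map (ι₁ ≫ f) g f g ι₁ (𝟙 U) (𝟙 S) (by simp) (by simp)

instance (ι₁ : X₁ ⟶ X) [IsOpenImmersion ι₁] : IsOpenImmersion (mOpen f g ι₁) := by
  unfold mOpen; infer_instance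

@[reassoc (attr := simp)]
theorem mOpen_fst (ι₁ : X₁ ⟶ X) :
    mOpen f g ι₁ ≫ pullback.fst f g = pullback.fst _ _ ≫ ι₁ := by
  unfold mOpen; exact pullback.lift_fst _ _ _

@[reassoc (attr := simp)]
theorem mOpen_snd (ι₁ : X₁ ⟶ X) :
    mOpen f g ι₁ ≫ pullback.snd f g = pullback.snd _ _ := by
  unfold mOpen; exact (pullback.lift_snd _ _ _).trans (Category.comp_id _)

theorem ofOpen_j (ι₁ : X₁ ⟶ X) [IsOpenImmersion ι₁] (p : BPiece (ι₁ ≫ f) g) :
    (p.ofOpen ι₁).j = p.j ≫ mOpen f g ι₁ := by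
  apply pullback.hom_ext
  · rw [j_fst, Category.assoc, mOpen_fst, j_fst_assoc]
  · rw [j_snd, Category.assoc, mOpen_snd, j_snd]

theorem range_mOpen (ι₁ : X₁ ⟶ X) :
    Set.range (mOpen f g ι₁) = pullback.fst f g ⁻¹' Set.range ι₁ := by
  unfold mOpen
  rw [Scheme.Pullback.range_map]
  simp

theorem fibrePts_ofOpen (ι₁ : X₁ ⟶ X) [IsOpenImmersion ι₁] (p : BPiece (ι₁ ≫ f) g) (u : U) :
    (p.ofOpen ι₁).fibrePts u = mOpen f g ι₁ '' p.fibrePts u := by
  ext w
  constructor
  · rintro ⟨x, hx, rfl⟩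
    refine ⟨p.j x, ⟨x, hx, rfl⟩, ?_⟩
    rw [ofOpen_j]; rfl
  · rintro ⟨_, ⟨x, hx, rfl⟩, rfl⟩
    refine ⟨x, hx, ?_⟩
    rw [ofOpen_j]; rfl

/-- A quasi-compact open neighbourhood of finitely many points at which `f` is quasi-finite, on
which `f` is locally quasi-finite. -/
theorem exists_compact_open (f : X ⟶ S) (T : Set X) (hT : T.Finite) (O : X.Opens)
    (hTO : T ⊆ O) [LocallyOfFiniteType (O.ι ≫ f)] (hq : ∀ x ∈ T, f.QuasiFiniteAt x) :
    ∃ X₁ : X.Opens, X₁ ≤ O ∧ T ⊆ X₁ ∧ CompactSpace X₁.toScheme ∧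
      LocallyOfFiniteType (X₁.ι ≫ f) ∧
      LocallyQuasiFinite (X₁.ι ≫ f) := by
  let Q' : X.Opens := O.ι ''ᵁ (O.ι ≫ f).quasiFiniteLocus
  have hQ'O : Q' ≤ O := by
    rintro _ ⟨y, -, rfl⟩
    exact y.2
  have hQ'q : ∀ y ∈ Q', f.QuasiFiniteAt y := by
    rintro _ ⟨y, hy, rfl⟩
    exact (Scheme.Hom.quasiFiniteAt_comp_iff_of_isOpenImmersion (f := O.ι) (g := f) (x := y)).mp hy
  have hTQ' : ∀ x ∈ T, x ∈ Q' := by
    intro x hx
    refine ⟨⟨x, hTO hx⟩, ?_, rfl⟩
    exact (Scheme.Hom.quasiFiniteAt_comp_iff_of_isOpenImmersion (f := O.ι) (g := f)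
      (x := ⟨x, hTO hx⟩)).mpr (hq x hx)
  have hA : ∀ x : T, ∃ A : X.Opens, IsAffineOpen A ∧ x.1 ∈ A ∧ A ≤ Q' := by
    intro x
    obtain ⟨A, hA, hxA, hAQ⟩ := TopologicalSpace.Opens.isBasis_iff_nbhd.mp X.isBasis_affineOpens
      (hTQ' x.1 x.2)
    exact ⟨A, hA, hxA, hAQ⟩
  choose A hAaff hxA hAQ using hA
  let X₁ : X.Opens := ⨆ x : T, A x
  have hX₁Q : X₁ ≤ Q' := iSup_le hAQ
  have hX₁O : X₁ ≤ O := hX₁Q.trans hQ'O
  have hfin : Finite T := hT.to_subtype
  have hcomp : CompactSpace X₁.toScheme := by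
    have h1 : IsCompact ((⨆ x : T, A x : X.Opens) : Set X) := by
      rw [TopologicalSpace.Opens.coe_iSup]
      exact isCompact_iUnion fun x => (hAaff x).isCompact
    exact isCompact_iff_compactSpace.mp h1
  have hlft : LocallyOfFiniteType (X₁.ι ≫ f) := by
    rw [← X.homOfLE_ι hX₁O, Category.assoc]
    infer_instance
  refine ⟨X₁, hX₁O, ?_, hcomp, hlft, ?_⟩
  · intro x hx
    exact TopologicalSpace.Opens.mem_iSup.mpr ⟨⟨x, hx⟩, hxA ⟨x, hx⟩⟩
  · rw [← Scheme.Hom.quasiFiniteLocus_eq_top_iff, eq_top_iff]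
    intro y _
    exact (Scheme.Hom.quasiFiniteAt_comp_iff_of_isOpenImmersion (f := X₁.ι) (g := f)
      (x := y)).mpr (hQ'q y.1 (hX₁Q y.2))

/-- **Master theorem, piece form.** Let `f : X ⟶ S` be a morphism, `s : S`, `T` a finite set of
points of `X` at which `f` is quasi-finite, contained in an open `O` on which `f` is locally of
finite type. Then there are an étale neighbourhood `(U, u)` of `s` and finitely many finite pieces
of `f` over `U`, mapping into `O`, of geometric degree one at `u`, with pairwise disjoint fibres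
over `u`, containing all points of `X ×_S U` over `u` which map into `T`. -/
theorem exists_etale_pieces (f : X ⟶ S) (s : S) (T : Set X) (hT : T.Finite) (O : X.Opens)
    (hTO : T ⊆ O) [LocallyOfFiniteType (O.ι ≫ f)] (hq : ∀ x ∈ T, f.QuasiFiniteAt x) :
    ∃ (U : Scheme.{u}) (g : U ⟶ S) (_ : Etale g) (u : U) (_ : g u = s) (n : ℕ)
      (p : Fin n → BPiece f g), (∀ k, deg (p k).π u = 1) ∧
      (∀ k k', k ≠ k' → Disjoint ((p k).fibrePts u) ((p k').fibrePts u)) ∧
      (∀ k, Set.range (p k).a ⊆ O) ∧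
      ∀ w : ↥(pullback f g), pullback.snd f g w = u → pullback.fst f g w ∈ T →
        ∃ k, w ∈ (p k).fibrePts u := by
  obtain ⟨X₁, hX₁O, hTX₁, hcomp, hlft, hlqf⟩ := exists_compact_open f T hT O hTO hq
  obtain ⟨U, g, hg, u, hu, n, p, hdeg, hdisj, hcov⟩ := exists_etale_complete_pieces (X₁.ι ≫ f) s
  refine ⟨U, g, hg, u, hu, n, fun k => (p k).ofOpen X₁.ι, hdeg, ?_, ?_, ?_⟩
  · intro k k' hkk'
    rw [fibrePts_ofOpen, fibrePts_ofOpen]
    exact (Set.disjoint_image_iff (mOpen f g X₁.ι).isOpenEmbedding.injective).mpr (hdisj k k' hkk')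
  · rintro k _ ⟨x, rfl⟩
    exact hX₁O ((p k).a x).2
  · intro w hw hwT
    have hwr : w ∈ Set.range (mOpen f g X₁.ι) := by
      rw [range_mOpen]
      refine ⟨⟨_, hTX₁ hwT⟩, rfl⟩
    obtain ⟨w₁, rfl⟩ := hwr
    have hw₁ : pullback.snd (X₁.ι ≫ f) g w₁ = u := by
      rw [← hw, ← Scheme.Hom.comp_apply, mOpen_snd]
    obtain ⟨k, hk⟩ := hcov w₁ hw₁
    refine ⟨k, ?_⟩
    rw [fibrePts_ofOpen]
    exact ⟨w₁, hk, rfl⟩

end Opens

section Residue

/-- Geometric degree one at `π x` forces separable degree one of the residue field extension. -/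
theorem finSepDegree_eq_one_of_deg {P U : Scheme.{u}} (π : P ⟶ U) [IsFinite π] (x : P)
    (h : deg π (π x) = 1) :
    letI := (π.residueFieldMap x).hom.toAlgebra
    Field.finSepDegree (U.residueField (π x)) (P.residueField x) = 1 := by
  obtain ⟨Ω, _, _, vb, hvb⟩ := exists_geomPoint (π x)
  obtain ⟨v, φ, hφ, hv⟩ := exists_eq_specMap_fromSpecResidueField Ω vb
  subst hφ
  rw [hv] at hvb
  obtain ⟨ū, hū⟩ := exists_geomLifts_pt_eq π Ω v φ x hvb.symm
  have h' := h
  rw [← hvb, ← hv, deg_eq_natCard π Ω _] at h'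
  have hcard : Nat.card (GeomLifts π Ω (Spec.map φ ≫ U.fromSpecResidueField v)) = 1 := by
    exact_mod_cast h'
  have hsub := (Nat.card_eq_one_iff_unique.mp hcard).1
  rw [← (card_geomLifts_fiber π Ω v φ x hvb.symm).2, Nat.card_eq_one_iff_unique]
  exact ⟨⟨fun a b => Subtype.ext (Subsingleton.elim _ _)⟩, ⟨⟨ū, hū⟩⟩⟩

/-- Transfer of finiteness and pure inseparability of a residue field extension along an open
immersion. -/
theorem residue_transfer {P Z U : Scheme.{u}} (j : P ⟶ Z) [IsOpenImmersion j] (σ : Z ⟶ U)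
    (π : P ⟶ U) (hπ : j ≫ σ = π) (x : P)
    (hfin : letI := (π.residueFieldMap x).hom.toAlgebra
      Module.Finite (U.residueField (π x)) (P.residueField x))
    (hsep : letI := (π.residueFieldMap x).hom.toAlgebra
      Field.finSepDegree (U.residueField (π x)) (P.residueField x) = 1) :
    letI := (σ.residueFieldMap (j x)).hom.toAlgebra
    Module.Finite (U.residueField (σ (j x))) (Z.residueField (j x)) ∧
      IsPurelyInseparable (U.residueField (σ (j x))) (Z.residueField (j x)) := by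
  subst hπ
  letI a1 := (σ.residueFieldMap (j x)).hom.toAlgebra
  letI a2 : Algebra (U.residueField (σ (j x))) (P.residueField x) :=
    ((j ≫ σ).residueFieldMap x).hom.toAlgebra
  let e : Z.residueField (j x) ≃ₐ[U.residueField (σ (j x))] P.residueField x :=
    { (asIso (j.residueFieldMap x)).commRingCatIsoToRingEquiv with
      commutes' := fun r => by
        change (j.residueFieldMap x).hom ((σ.residueFieldMap (j x)).hom r) =
          ((j ≫ σ).residueFieldMap x).hom r
        rw [Scheme.residueFieldMap_comp]; rfl }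
  have hfin' : Module.Finite (U.residueField (σ (j x))) (P.residueField x) := hfin
  have hpi : IsPurelyInseparable (U.residueField (σ (j x))) (P.residueField x) :=
    isPurelyInseparable_of_finSepDegree_eq_one hsep
  exact ⟨Module.Finite.equiv e.symm.toLinearEquiv, e.symm.isPurelyInseparable⟩

variable {f : X ⟶ S} {U : Scheme.{u}} {g : U ⟶ S}

/-- The residue field extension at the point of a piece of geometric degree one is finite and
purely inseparable. -/
theorem BPiece.residue (p : BPiece f g) (x : p.P) (h : deg p.π (p.π x) = 1) :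
    letI := ((pullback.snd f g).residueFieldMap (p.j x)).hom.toAlgebra
    Module.Finite (U.residueField (pullback.snd f g (p.j x)))
      ((pullback f g).residueField (p.j x)) ∧
    IsPurelyInseparable (U.residueField (pullback.snd f g (p.j x)))
      ((pullback f g).residueField (p.j x)) :=
  residue_transfer p.j (pullback.snd f g) p.π p.j_snd x (finite_residueFieldMap p.π x)
    (finSepDegree_eq_one_of_deg p.π x h)

/-- The open of the fibre product corresponding to a piece is finite over the base. -/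
theorem BPiece.isFinite_opensRange (p : BPiece f g) :
    IsFinite (p.j.opensRange.ι ≫ pullback.snd f g) := by
  have h : p.j.isoOpensRange.hom ≫ (p.j.opensRange.ι ≫ pullback.snd f g) = p.π := by
    rw [← Category.assoc, Scheme.Hom.isoOpensRange_hom_ι, j_snd]
  have : IsFinite (p.j.isoOpensRange.hom ≫ (p.j.opensRange.ι ≫ pullback.snd f g)) := by
    rw [h]; infer_instance
  exact (MorphismProperty.cancel_left_of_respectsIso @IsFinite p.j.isoOpensRange.hom _).mp this

/-- **Master theorem, piece form with chosen points.** -/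
theorem exists_etale_pieces_pts (f : X ⟶ S) (s : S) (T : Set X) (hT : T.Finite) (O : X.Opens)
    (hTO : T ⊆ O) [LocallyOfFiniteType (O.ι ≫ f)] (hq : ∀ x ∈ T, f.QuasiFiniteAt x) :
    ∃ (U : Scheme.{u}) (g : U ⟶ S) (_ : Etale g) (u : U) (_ : g u = s) (n : ℕ)
      (p : Fin n → BPiece f g) (x₀ : ∀ k, (p k).P),
      (∀ k, (p k).π (x₀ k) = u) ∧ (∀ k, deg (p k).π u = 1) ∧
      (∀ k (y : (p k).P), (p k).π y = u → y = x₀ k) ∧
      (∀ k k', (p k).j (x₀ k) = (p k').j (x₀ k') → k = k') ∧
      (∀ k, Set.range (p k).a ⊆ O) ∧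
      ∀ w : ↥(pullback f g), pullback.snd f g w = u → pullback.fst f g w ∈ T →
        ∃ k, w = (p k).j (x₀ k) := by
  obtain ⟨U, g, hg, u, hu, n, p, hdeg, hdisj, hO, hcov⟩ := exists_etale_pieces f s T hT O hTO hq
  have hex : ∀ k, ∃ y : (p k).P, (p k).π y = u := fun k =>
    exists_of_fibreIntegral_ne_zero (p k).π (fun _ => 1) u (by
      change deg (p k).π u ≠ 0
      rw [hdeg k]; exact one_ne_zero)
  choose x₀ hx₀ using hex
  have huniq : ∀ k (y : (p k).P), (p k).π y = u → y = x₀ k := fun k y hy =>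
    eq_of_deg (hdeg k) (hx₀ k) hy
  refine ⟨U, g, hg, u, hu, n, p, x₀, hx₀, hdeg, huniq, ?_, hO, ?_⟩
  · intro k k' h
    by_contra hkk'
    have h1 : (p k).j (x₀ k) ∈ (p k).fibrePts u := ⟨x₀ k, hx₀ k, rfl⟩
    have h2 : (p k).j (x₀ k) ∈ (p k').fibrePts u := ⟨x₀ k', hx₀ k', h.symm⟩
    exact Set.disjoint_left.mp (hdisj k k' hkk') h1 h2
  · intro w hw hwT
    obtain ⟨k, y, hy, rfl⟩ := hcov w hw hwT
    exact ⟨k, by rw [huniq k y hy]⟩

end Residue

section Shrink

variable {f : X ⟶ S} {U : Scheme.{u}} {g : U ⟶ S}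

theorem q_eq_map {V : Scheme.{u}} (γ : V ⟶ U) :
    q f g γ = pullback.map f (γ ≫ g) f g (𝟙 X) γ (𝟙 S) (by simp) (by simp) := by
  apply pullback.hom_ext
  · rw [q_fst, pullback.lift_fst, Category.comp_id]
  · rw [q_snd, pullback.lift_snd]

instance {V : Scheme.{u}} (γ : V ⟶ U) [IsOpenImmersion γ] : IsOpenImmersion (q f g γ) := by
  rw [q_eq_map]; infer_instance

/-- Base change of a family of pieces with chosen points along an open immersion of bases. -/
theorem pts_baseChange_open {u : U} {n : ℕ} {T : Set X}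
    (p : Fin n → BPiece f g) (x₀ : ∀ k, (p k).P)
    (hx₀ : ∀ k, (p k).π (x₀ k) = u) (hdeg : ∀ k, deg (p k).π u = 1)
    (hinj : ∀ k k', (p k).j (x₀ k) = (p k').j (x₀ k') → k = k')
    (hcov : ∀ w : ↥(pullback f g), pullback.snd f g w = u → pullback.fst f g w ∈ T →
      ∃ k, w = (p k).j (x₀ k))
    {V : Scheme.{u}} (γ : V ⟶ U) [IsOpenImmersion γ] (v : V) (hv : γ v = u) :
    ∃ (x₁ : ∀ k, ((p k).baseChange γ).P),
      (∀ k, ((p k).baseChange γ).π (x₁ k) = v) ∧ (∀ k, deg ((p k).baseChange γ).π v = 1) ∧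
      (∀ k (y : ((p k).baseChange γ).P), ((p k).baseChange γ).π y = v → y = x₁ k) ∧
      (∀ k k', ((p k).baseChange γ).j (x₁ k) = ((p k').baseChange γ).j (x₁ k') → k = k') ∧
      (∀ k, pullback.fst (p k).π γ (x₁ k) = x₀ k) ∧
      (∀ w : ↥(pullback f (γ ≫ g)), pullback.snd f (γ ≫ g) w = v →
        pullback.fst f (γ ≫ g) w ∈ T → ∃ k, w = ((p k).baseChange γ).j (x₁ k)) := by
  have hex : ∀ k, ∃ z : ↥(pullback (p k).π γ), pullback.fst (p k).π γ z = x₀ k ∧
      pullback.snd (p k).π γ z = v := fun k =>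
    Scheme.Pullback.exists_preimage_pullback (x₀ k) v ((hx₀ k).trans hv.symm)
  choose x₁ hx₁f hx₁s using hex
  have hdeg' : ∀ k, deg ((p k).baseChange γ).π v = 1 := fun k => by
    rw [deg_baseChange, hv]; exact hdeg k
  have hq : ∀ k, q f g γ (((p k).baseChange γ).j (x₁ k)) = (p k).j (x₀ k) := by
    intro k
    rw [← Scheme.Hom.comp_apply, baseChange_j_q, Scheme.Hom.comp_apply, hx₁f]
  refine ⟨x₁, hx₁s, hdeg', fun k y hy => eq_of_deg (hdeg' k) (hx₁s k) hy, ?_, hx₁f, ?_⟩
  · intro k k' h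
    apply hinj
    rw [← hq k, ← hq k', h]
  · intro w hw hwT
    have h1 : pullback.snd f g (q f g γ w) = u := by
      rw [← Scheme.Hom.comp_apply, q_snd, Scheme.Hom.comp_apply, hw, hv]
    have h2 : pullback.fst f g (q f g γ w) ∈ T := by
      rw [← Scheme.Hom.comp_apply, q_fst]; exact hwT
    obtain ⟨k, hk⟩ := hcov _ h1 h2
    refine ⟨k, (q f g γ).isOpenEmbedding.injective ?_⟩
    rw [hk, hq k]

/-- For `f` separated, the image of a piece in the fibre product is closed. -/
theorem BPiece.isClosed_range_j [IsSeparated f] (p : BPiece f g) : IsClosed (Set.range p.j) := by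
  have : UniversallyClosed (p.j ≫ pullback.snd f g) := by rw [j_snd]; infer_instance
  have := UniversallyClosed.of_comp_of_isSeparated p.j (pullback.snd f g)
  exact p.j.isClosedMap.isClosed_range

/-- Pieces with closed images and pairwise distinct single points over `u` become pairwise disjoint
after shrinking the base around `u`. -/
theorem exists_opens_disjoint {u : U} {n : ℕ} (p : Fin n → BPiece f g) (x₀ : ∀ k, (p k).P)
    (huniq : ∀ k (y : (p k).P), (p k).π y = u → y = x₀ k)
    (hinj : ∀ k k', (p k).j (x₀ k) = (p k').j (x₀ k') → k = k')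
    (hcl : ∀ k, IsClosed (Set.range (p k).j)) :
    ∃ U' : U.Opens, u ∈ U' ∧ ∀ k k', k ≠ k' →
      Disjoint (Set.range ((p k).baseChange U'.ι).j) (Set.range ((p k').baseChange U'.ι).j) := by
  let Z : Fin n → Fin n → Set U := fun k k' => (p k).π '' ((p k).j ⁻¹' Set.range (p k').j)
  have hZcl : ∀ k k', IsClosed (Z k k') := fun k k' =>
    (p k).π.isClosedMap _ ((hcl k').preimage (p k).j.continuous)
  have hZu : ∀ k k', k ≠ k' → u ∉ Z k k' := by
    rintro k k' hkk' ⟨y, ⟨y', hy'⟩, hy⟩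
    apply hkk'
    apply hinj
    have h1 : y = x₀ k := huniq k y hy
    have h2 : (p k').π y' = u := by
      rw [← snd_j_apply, hy', snd_j_apply, hy]
    have h3 : y' = x₀ k' := huniq k' y' h2
    rw [← h1, ← h3, hy']
  let C : Set U := ⋃ k, ⋃ k', ⋃ (_ : k ≠ k'), Z k k'
  have hC : IsClosed C := by
    refine isClosed_iUnion_of_finite fun k => isClosed_iUnion_of_finite fun k' => ?_
    by_cases h : k ≠ k'
    · simpa [h] using hZcl k k'
    · simp [h]
  have huC : u ∉ C := by
    simp only [C, Set.mem_iUnion, not_exists]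
    intro k k' hkk'
    exact hZu k k' hkk'
  obtain ⟨U', hU'⟩ : ∃ U' : U.Opens, (U' : Set U) = Cᶜ := ⟨⟨Cᶜ, hC.isOpen_compl⟩, rfl⟩
  have hU'mem : ∀ y : U, y ∈ U' ↔ y ∉ C := fun y => by
    rw [← SetLike.mem_coe, hU']; rfl
  refine ⟨U', (hU'mem u).mpr huC, fun k k' hkk' => ?_⟩
  rw [Set.disjoint_left]
  rintro _ ⟨z, rfl⟩ ⟨z', hz'⟩
  have h1 := congrArg (q f g U'.ι) hz'
  rw [← Scheme.Hom.comp_apply, ← Scheme.Hom.comp_apply, baseChange_j_q, baseChange_j_q,
    Scheme.Hom.comp_apply, Scheme.Hom.comp_apply] at h1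
  have h2 : (p k).π (pullback.fst (p k).π U'.ι z) ∈ Z k k' :=
    ⟨_, ⟨_, h1⟩, rfl⟩
  have h3 : (p k).π (pullback.fst (p k).π U'.ι z) = U'.ι (pullback.snd (p k).π U'.ι z) := by
    rw [← Scheme.Hom.comp_apply, ← Scheme.Hom.comp_apply, pullback.condition]
  rw [h3] at h2
  exact (hU'mem _).mp (pullback.snd (p k).π U'.ι z).2 (Set.mem_iUnion.mpr ⟨k,
    Set.mem_iUnion.mpr ⟨k', Set.mem_iUnion.mpr ⟨hkk', h2⟩⟩⟩)

/-- **Master theorem, separated case**: the pieces can moreover be taken with closed and pairwise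
disjoint images in the fibre product. -/
theorem exists_etale_pieces_pts_separated (f : X ⟶ S) [IsSeparated f] (s : S) (T : Set X)
    (hT : T.Finite) (O : X.Opens) (hTO : T ⊆ O) [LocallyOfFiniteType (O.ι ≫ f)]
    (hq : ∀ x ∈ T, f.QuasiFiniteAt x) :
    ∃ (U : Scheme.{u}) (g : U ⟶ S) (_ : Etale g) (u : U) (_ : g u = s) (n : ℕ)
      (p : Fin n → BPiece f g) (x₀ : ∀ k, (p k).P),
      (∀ k, (p k).π (x₀ k) = u) ∧ (∀ k, deg (p k).π u = 1) ∧
      (∀ k (y : (p k).P), (p k).π y = u → y = x₀ k) ∧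
      (∀ k k', (p k).j (x₀ k) = (p k').j (x₀ k') → k = k') ∧
      (∀ k, Set.range (p k).a ⊆ O) ∧
      (∀ w : ↥(pullback f g), pullback.snd f g w = u → pullback.fst f g w ∈ T →
        ∃ k, w = (p k).j (x₀ k)) ∧
      (∀ k, IsClosed (Set.range (p k).j)) ∧
      (∀ k k', k ≠ k' → Disjoint (Set.range (p k).j) (Set.range (p k').j)) := by
  obtain ⟨U, g, hg, u, hu, n, p, x₀, hx₀, hdeg, huniq, hinj, hO, hcov⟩ :=
    exists_etale_pieces_pts f s T hT O hTO hq
  obtain ⟨U', huU', hdisj⟩ := exists_opens_disjoint p x₀ huniq hinj (fun k => (p k).isClosed_range_j)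
  obtain ⟨x₁, h1, h2, h3, h4, -, h6⟩ :=
    pts_baseChange_open p x₀ hx₀ hdeg hinj hcov U'.ι ⟨u, huU'⟩ rfl
  refine ⟨U', U'.ι ≫ g, inferInstance, ⟨u, huU'⟩, hu, n, fun k => (p k).baseChange U'.ι, x₁,
    h1, h2, h3, h4, ?_, h6, fun k => ((p k).baseChange U'.ι).isClosed_range_j, hdisj⟩
  rintro k _ ⟨y, rfl⟩
  exact hO k ⟨pullback.fst (p k).π U'.ι y, rfl⟩

end Shrink

end Groth.Agent.Lib.Helper7.EtaleSplit
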