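import Mathlib
import Groth.Agent.Lib.Helper7.EtaleSplit

/-!
# Étale localisation of unramified and étale morphisms (helper7)

Complements to `EtaleSplit`: a finite unramified piece with a single geometric point over `u`
is a closed immersion over a neighbourhood of `u` (an isomorphism if it is étale).
-/

set_option autoImplicit false
set_option linter.style.haveILetI false
universe u
open AlgebraicGeometry CategoryTheory Limits

namespace Groth.Agent.Lib.Helper7.EtaleSplit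

open Groth.Agent.Lib.Helper7
open Groth.Agent.Lib.Helper22.Weighting
open BPiece

variable {X S : Scheme.{u}}

/-- A property local at the source which holds on each member of a family of opens holds on their
union. -/
theorem of_iSup_opens (P : MorphismProperty Scheme.{u}) [IsZariskiLocalAtSource P] (f : X ⟶ S)
    {ι : Type*} (W : ι → X.Opens) (H : ∀ i, P ((W i).ι ≫ f)) :
    P ((⨆ i, W i).ι ≫ f) := by
  set O : X.Opens := ⨆ i, W i with hO
  refine IsZariskiLocalAtSource.of_iSup_eq_top (fun i => O.ι ⁻¹ᵁ W i) ?_ fun i => ?_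
  · rw [eq_top_iff]
    rintro x -
    obtain ⟨i, hi⟩ := TopologicalSpace.Opens.mem_iSup.mp x.2
    exact TopologicalSpace.Opens.mem_iSup.mpr ⟨i, hi⟩
  · have hrange : Set.range ((O.ι ⁻¹ᵁ W i).ι ≫ O.ι) ⊆ Set.range (W i).ι := by
      rintro _ ⟨y, rfl⟩
      rw [Scheme.Opens.range_ι]
      exact y.2
    rw [← Category.assoc, ← IsOpenImmersion.lift_fac (W i).ι ((O.ι ⁻¹ᵁ W i).ι ≫ O.ι) hrange,
      Category.assoc]
    exact IsZariskiLocalAtSource.comp (H i) _

/-- A formally unramified morphism locally of finite type is locally quasi-finite. -/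
theorem locallyQuasiFinite_of_formallyUnramified {X Y : Scheme.{u}} (f : X ⟶ Y)
    [FormallyUnramified f] [LocallyOfFiniteType f] : LocallyQuasiFinite f := by
  rw [HasRingHomProperty.iff_appLE (P := @LocallyQuasiFinite)]
  intro U V e
  have h1 : (f.appLE U V e).hom.FiniteType := f.finiteType_appLE U.2 V.2 e
  have h2 : (f.appLE U V e).hom.FormallyUnramified :=
    HasRingHomProperty.appLE (P := @FormallyUnramified) f ‹_› U V e
  algebraize [(f.appLE U V e).hom]
  rw [RingHom.QuasiFinite]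
  infer_instance

section Factor

variable {f : X ⟶ S} {U : Scheme.{u}} {g : U ⟶ S}

/-- A piece of `f` mapping into an open `O` factors through the fibre product of `O`. -/
theorem BPiece.exists_factor (p : BPiece f g) (O : X.Opens) (hO : Set.range p.a ⊆ O) :
    ∃ j' : p.P ⟶ pullback (O.ι ≫ f) g, IsOpenImmersion j' ∧
      j' ≫ pullback.snd (O.ι ≫ f) g = p.π := by
  have hr : Set.range p.a ⊆ Set.range O.ι := by rw [Scheme.Opens.range_ι]; exact hO
  let a' : p.P ⟶ O := IsOpenImmersion.lift O.ι p.a hr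
  have ha' : a' ≫ O.ι = p.a := IsOpenImmersion.lift_fac _ _ _
  let j' : p.P ⟶ pullback (O.ι ≫ f) g :=
    pullback.lift a' p.π (by rw [← Category.assoc, ha', p.isPiece.comm])
  have hj' : j' ≫ mOpen f g O.ι = p.j := by
    apply pullback.hom_ext
    · rw [Category.assoc, mOpen_fst, pullback.lift_fst_assoc, ha', j_fst]
    · rw [Category.assoc, mOpen_snd, pullback.lift_snd, j_snd]
  have : IsOpenImmersion (j' ≫ mOpen f g O.ι) := by rw [hj']; infer_instance
  exact ⟨j', IsOpenImmersion.of_comp j' (mOpen f g O.ι), pullback.lift_snd _ _ _⟩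

theorem BPiece.formallyUnramified_π (p : BPiece f g) (O : X.Opens) (hO : Set.range p.a ⊆ O)
    [FormallyUnramified (O.ι ≫ f)] : FormallyUnramified p.π := by
  obtain ⟨j', hj', h⟩ := p.exists_factor O hO
  rw [← h]
  have h1 : FormallyUnramified (pullback.snd (O.ι ≫ f) g) :=
    MorphismProperty.pullback_snd (P := @FormallyUnramified) _ _ ‹_›
  have h2 : FormallyUnramified j' := inferInstance
  exact MorphismProperty.comp_mem _ _ _ h2 h1

theorem BPiece.etale_π (p : BPiece f g) (O : X.Opens) (hO : Set.range p.a ⊆ O)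
    [Etale (O.ι ≫ f)] : Etale p.π := by
  obtain ⟨j', hj', h⟩ := p.exists_factor O hO
  rw [← h]
  infer_instance

/-- Properties invariant under isomorphism transfer between a piece and its open image. -/
theorem BPiece.opensRange_iff (P : MorphismProperty Scheme.{u}) [P.RespectsIso] (p : BPiece f g) :
    P (p.j.opensRange.ι ≫ pullback.snd f g) ↔ P p.π := by
  have h : p.j.isoOpensRange.hom ≫ (p.j.opensRange.ι ≫ pullback.snd f g) = p.π := by
    rw [← Category.assoc, Scheme.Hom.isoOpensRange_hom_ι, j_snd]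
  constructor
  · intro H
    rw [← h]
    exact (P.cancel_left_of_respectsIso _ _).mpr H
  · intro H
    rw [← h] at H
    exact (P.cancel_left_of_respectsIso _ _).mp H

end Factor

section Mono

variable {P U : Scheme.{u}}

/-- A finite unramified morphism with a single geometric point over `u` is a monomorphism over a
neighbourhood of `u`. -/
theorem exists_opens_mono (π : P ⟶ U) [IsFinite π] [FormallyUnramified π] (u : U)
    (h : deg π u = 1) :
    ∃ U₁ : U.Opens, u ∈ U₁ ∧ ∀ U' : U.Opens, U' ≤ U₁ → Mono (pullback.snd π U'.ι) := by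
  obtain ⟨x₀, hx₀⟩ := exists_of_fibreIntegral_ne_zero π (fun _ => 1) u (by
    change deg π u ≠ 0
    rw [h]; exact one_ne_zero)
  subst hx₀
  let Δ := pullback.diagonal π
  let ρ := pullback.fst π π ≫ π
  have hρfin : IsFinite ρ := inferInstance
  let R : Set ↥(pullback π π) := (Set.range Δ)ᶜ
  have hRcl : IsClosed R := Δ.isOpenEmbedding.isOpen_range.isClosed_compl
  have hZcl : IsClosed (ρ '' R) := ρ.isClosedMap _ hRcl
  have huZ : π x₀ ∉ ρ '' R := by
    rintro ⟨w, hwR, hw⟩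
    apply hwR
    have h2 : π (pullback.snd π π w) = π x₀ := by
      rw [← Scheme.Hom.comp_apply, ← pullback.condition]; exact hw
    have hs : pullback.snd π π w = x₀ := eq_of_deg_eq_one π x₀ _ h h2
    have hd : deg (pullback.snd π π) x₀ = 1 := by rw [deg_pullback_snd]; exact h
    have hΔ : pullback.snd π π (Δ x₀) = x₀ := by
      rw [← Scheme.Hom.comp_apply, pullback.diagonal_snd]; rfl
    have : w = Δ x₀ :=
      eq_of_deg_eq_one (pullback.snd π π) (Δ x₀) w (by rw [hΔ]; exact hd) (by rw [hs, hΔ])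
    exact ⟨x₀, this.symm⟩
  obtain ⟨U₁, hU₁⟩ : ∃ U₁ : U.Opens, (U₁ : Set U) = (ρ '' R)ᶜ :=
    ⟨⟨(ρ '' R)ᶜ, hZcl.isOpen_compl⟩, rfl⟩
  have hU₁mem : ∀ y : U, y ∈ U₁ ↔ y ∉ ρ '' R := fun y => by
    rw [← SetLike.mem_coe, hU₁]; rfl
  refine ⟨U₁, (hU₁mem _).mpr huZ, fun U' hU' => ?_⟩
  have hunr : FormallyUnramified (pullback.snd π U'.ι) :=
    MorphismProperty.pullback_snd (P := @FormallyUnramified) _ _ ‹_›
  rw [← pullback.isIso_diagonal_iff, isIso_iff_isOpenImmersion_and_epi_base]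
  refine ⟨inferInstance, ?_⟩
  rw [TopCat.epi_iff_surjective]
  intro w'
  let π' := pullback.snd π U'.ι
  let φ := pullback.fst π U'.ι
  let θ : pullback π' π' ⟶ pullback π π :=
    pullback.map π' π' π π φ φ U'.ι pullback.condition.symm pullback.condition.symm
  have hθ : IsOpenImmersion θ := inferInstance
  have hnat : pullback.diagonal π' ≫ θ = φ ≫ Δ := by
    apply pullback.hom_ext
    · rw [Category.assoc, pullback.lift_fst, pullback.diagonal_fst_assoc, Category.assoc,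
        pullback.diagonal_fst, Category.comp_id]
    · rw [Category.assoc, pullback.lift_snd, pullback.diagonal_snd_assoc, Category.assoc,
        pullback.diagonal_snd, Category.comp_id]
  have hρθ : ρ (θ w') = U'.ι (π' (pullback.fst π' π' w')) := by
    change (θ ≫ pullback.fst π π ≫ π) w' = (pullback.fst π' π' ≫ π' ≫ U'.ι) w'
    congr 2
    rw [← Category.assoc, pullback.lift_fst, Category.assoc, pullback.condition]
  have hθR : θ w' ∉ R := by
    intro hR
    have h1 : ρ (θ w') ∈ ρ '' R := ⟨_, hR, rfl⟩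
    rw [hρθ] at h1
    exact (hU₁mem _).mp (hU' (π' (pullback.fst π' π' w')).2) h1
  obtain ⟨y, hy⟩ : θ w' ∈ Set.range Δ := not_not.mp hθR
  have hπy : π y = U'.ι (π' (pullback.fst π' π' w')) := by
    rw [← hρθ, ← hy]
    change π y = (Δ ≫ pullback.fst π π ≫ π) y
    rw [pullback.diagonal_fst_assoc]
  obtain ⟨y', hy'φ, -⟩ := Scheme.Pullback.exists_preimage_pullback (f := π) (g := U'.ι) y _ hπy
  refine ⟨y', hθ.base_open.injective ?_⟩
  change (pullback.diagonal π' ≫ θ) y' = θ w'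
  rw [hnat, Scheme.Hom.comp_apply, hy'φ, hy]

/-- A finite unramified morphism with a single geometric point over `u` is a closed immersion over a
neighbourhood of `u`. -/
theorem exists_opens_isClosedImmersion (π : P ⟶ U) [IsFinite π] [FormallyUnramified π] (u : U)
    (h : deg π u = 1) :
    ∃ U₁ : U.Opens, u ∈ U₁ ∧ ∀ U' : U.Opens, U' ≤ U₁ →
      IsClosedImmersion (pullback.snd π U'.ι) := by
  obtain ⟨U₁, hu, H⟩ := exists_opens_mono π u h
  refine ⟨U₁, hu, fun U' hU' => ?_⟩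
  rw [IsClosedImmersion.iff_isFinite_and_mono]
  exact ⟨inferInstance, H U' hU'⟩

/-- A finite étale morphism with a single geometric point over `u` is an isomorphism over a
neighbourhood of `u`. -/
theorem exists_opens_isIso (π : P ⟶ U) [IsFinite π] [Etale π] (u : U) (h : deg π u = 1) :
    ∃ U₁ : U.Opens, u ∈ U₁ ∧ ∀ U' : U.Opens, U' ≤ U₁ → IsIso (pullback.snd π U'.ι) := by
  obtain ⟨U₁, hu, H⟩ := exists_opens_mono π u h
  obtain ⟨x₀, hx₀⟩ := exists_of_fibreIntegral_ne_zero π (fun _ => 1) u (by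
    change deg π u ≠ 0
    rw [h]; exact one_ne_zero)
  let U₂ : U.Opens := ⟨Set.range π, π.isOpenMap.isOpen_range⟩
  refine ⟨U₁ ⊓ U₂, ⟨hu, x₀, hx₀⟩, fun U' hU' => ?_⟩
  have hmono := H U' (hU'.trans inf_le_left)
  have hopen : IsOpenImmersion (pullback.snd π U'.ι) := IsOpenImmersion.of_flat_of_mono _
  rw [isIso_iff_isOpenImmersion_and_epi_base]
  refine ⟨hopen, ?_⟩
  rw [TopCat.epi_iff_surjective]
  intro v
  obtain ⟨y, hy⟩ : U'.ι v ∈ Set.range π := (hU' v.2).2
  obtain ⟨z, -, hz⟩ := Scheme.Pullback.exists_preimage_pullback (f := π) (g := U'.ι) y v hy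
  exact ⟨z, hz⟩

end Mono

section Shrink2

variable {f : X ⟶ S} {U : Scheme.{u}} {g : U ⟶ S}

/-- Disjointness of the images of two pieces is preserved by base change. -/
theorem disjoint_range_baseChange (p p' : BPiece f g) {V : Scheme.{u}} (γ : V ⟶ U)
    (h : Disjoint (Set.range p.j) (Set.range p'.j)) :
    Disjoint (Set.range (p.baseChange γ).j) (Set.range (p'.baseChange γ).j) := by
  rw [Set.disjoint_left] at h ⊢
  rintro _ ⟨z, rfl⟩ ⟨z', hz'⟩
  have h1 := congrArg (q f g γ) hz'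
  rw [← Scheme.Hom.comp_apply, ← Scheme.Hom.comp_apply, baseChange_j_q, baseChange_j_q,
    Scheme.Hom.comp_apply, Scheme.Hom.comp_apply] at h1
  exact h ⟨_, rfl⟩ ⟨_, h1⟩

/-- Finitely many open neighbourhoods of a point have a common refinement. -/
theorem exists_opens_le {u : U} {n : ℕ} (U₁ : Fin n → U.Opens) (h : ∀ k, u ∈ U₁ k) :
    ∃ U' : U.Opens, u ∈ U' ∧ ∀ k, U' ≤ U₁ k :=
  ⟨⟨⋂ k, (U₁ k : Set U), isOpen_iInter_of_finite fun k => (U₁ k).isOpen⟩,
    Set.mem_iInter.mpr h, fun k _ hy => Set.mem_iInter.mp hy k⟩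

/-- Shrinking the base of a family of pieces with chosen points so that a property which holds for
each piece over all small enough neighbourhoods of `u` holds for all of them. -/
theorem exists_shrink {u : U} {n : ℕ} {T : Set X} {O : X.Opens}
    (p : Fin n → BPiece f g) (x₀ : ∀ k, (p k).P)
    (hx₀ : ∀ k, (p k).π (x₀ k) = u) (hdeg : ∀ k, deg (p k).π u = 1)
    (hinj : ∀ k k', (p k).j (x₀ k) = (p k').j (x₀ k') → k = k')
    (hO : ∀ k, Set.range (p k).a ⊆ O)
    (hcov : ∀ w : ↥(pullback f g), pullback.snd f g w = u → pullback.fst f g w ∈ T →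
      ∃ k, w = (p k).j (x₀ k))
    (Q : MorphismProperty Scheme.{u})
    (hQ : ∀ k, ∃ U₁ : U.Opens, u ∈ U₁ ∧ ∀ U' : U.Opens, U' ≤ U₁ →
      Q (pullback.snd (p k).π U'.ι)) :
    ∃ (U' : U.Opens) (hu : u ∈ U') (x₁ : ∀ k, ((p k).baseChange U'.ι).P),
      (∀ k, ((p k).baseChange U'.ι).π (x₁ k) = ⟨u, hu⟩) ∧
      (∀ k, deg ((p k).baseChange U'.ι).π ⟨u, hu⟩ = 1) ∧
      (∀ k (y : ((p k).baseChange U'.ι).P), ((p k).baseChange U'.ι).π y = ⟨u, hu⟩ → y = x₁ k) ∧
      (∀ k k', ((p k).baseChange U'.ι).j (x₁ k) = ((p k').baseChange U'.ι).j (x₁ k') → k = k') ∧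
      (∀ k, Set.range ((p k).baseChange U'.ι).a ⊆ O) ∧
      (∀ w : ↥(pullback f (U'.ι ≫ g)), pullback.snd f (U'.ι ≫ g) w = ⟨u, hu⟩ →
        pullback.fst f (U'.ι ≫ g) w ∈ T → ∃ k, w = ((p k).baseChange U'.ι).j (x₁ k)) ∧
      (∀ k, Q ((p k).baseChange U'.ι).π) := by
  choose U₁ hU₁u hU₁ using hQ
  obtain ⟨U', hu, hU'⟩ := exists_opens_le U₁ hU₁u
  obtain ⟨x₁, h1, h2, h3, h4, -, h6⟩ :=
    pts_baseChange_open p x₀ hx₀ hdeg hinj hcov U'.ι ⟨u, hu⟩ rfl
  refine ⟨U', hu, x₁, h1, h2, h3, h4, ?_, h6, fun k => hU₁ k U' (hU' k)⟩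
  rintro k _ ⟨y, rfl⟩
  exact hO k ⟨pullback.fst (p k).π U'.ι y, rfl⟩

/-- For an open immersion of bases, a point whose image lies in a piece lies in the base-changed
piece. -/
theorem mem_range_baseChange_of_q (p : BPiece f g) {V : Scheme.{u}} (γ : V ⟶ U) [IsOpenImmersion γ]
    (w : ↥(pullback f (γ ≫ g))) (hw : q f g γ w ∈ Set.range p.j) :
    w ∈ Set.range (p.baseChange γ).j := by
  obtain ⟨y, hy⟩ := hw
  have h1 : p.π y = γ (pullback.snd f (γ ≫ g) w) := by
    rw [← snd_j_apply, hy, ← Scheme.Hom.comp_apply, q_snd, Scheme.Hom.comp_apply]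
  obtain ⟨z, hz1, hz2⟩ := Scheme.Pullback.exists_preimage_pullback (f := p.π) (g := γ) y _ h1
  refine ⟨z, (q f g γ).isOpenEmbedding.injective ?_⟩
  rw [← Scheme.Hom.comp_apply, baseChange_j_q, Scheme.Hom.comp_apply, hz1, hy]

/-- Variant of `exists_shrink` inside a given neighbourhood. -/
theorem exists_shrink_le {u : U} {n : ℕ} {T : Set X} {O : X.Opens}
    (p : Fin n → BPiece f g) (x₀ : ∀ k, (p k).P)
    (hx₀ : ∀ k, (p k).π (x₀ k) = u) (hdeg : ∀ k, deg (p k).π u = 1)
    (hinj : ∀ k k', (p k).j (x₀ k) = (p k').j (x₀ k') → k = k')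
    (hO : ∀ k, Set.range (p k).a ⊆ O)
    (hcov : ∀ w : ↥(pullback f g), pullback.snd f g w = u → pullback.fst f g w ∈ T →
      ∃ k, w = (p k).j (x₀ k))
    (Q : MorphismProperty Scheme.{u})
    (hQ : ∀ k, ∃ U₁ : U.Opens, u ∈ U₁ ∧ ∀ U' : U.Opens, U' ≤ U₁ →
      Q (pullback.snd (p k).π U'.ι)) (U₀ : U.Opens) (hU₀ : u ∈ U₀) :
    ∃ (U' : U.Opens) (hu : u ∈ U') (_ : U' ≤ U₀) (x₁ : ∀ k, ((p k).baseChange U'.ι).P),
      (∀ k, ((p k).baseChange U'.ι).π (x₁ k) = ⟨u, hu⟩) ∧
      (∀ k, deg ((p k).baseChange U'.ι).π ⟨u, hu⟩ = 1) ∧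
      (∀ k (y : ((p k).baseChange U'.ι).P), ((p k).baseChange U'.ι).π y = ⟨u, hu⟩ → y = x₁ k) ∧
      (∀ k k', ((p k).baseChange U'.ι).j (x₁ k) = ((p k').baseChange U'.ι).j (x₁ k') → k = k') ∧
      (∀ k, Set.range ((p k).baseChange U'.ι).a ⊆ O) ∧
      (∀ w : ↥(pullback f (U'.ι ≫ g)), pullback.snd f (U'.ι ≫ g) w = ⟨u, hu⟩ →
        pullback.fst f (U'.ι ≫ g) w ∈ T → ∃ k, w = ((p k).baseChange U'.ι).j (x₁ k)) ∧
      (∀ k, Q ((p k).baseChange U'.ι).π) := by
  choose U₁ hU₁u hU₁ using hQ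
  obtain ⟨U'₀, hu₀, hU'₀⟩ := exists_opens_le U₁ hU₁u
  set U' : U.Opens := U'₀ ⊓ U₀ with hU'
  have hu : u ∈ U' := ⟨hu₀, hU₀⟩
  obtain ⟨x₁, h1, h2, h3, h4, -, h6⟩ :=
    pts_baseChange_open p x₀ hx₀ hdeg hinj hcov U'.ι ⟨u, hu⟩ rfl
  refine ⟨U', hu, inf_le_right, x₁, h1, h2, h3, h4, ?_, h6,
    fun k => hU₁ k U' (inf_le_left.trans (hU'₀ k))⟩
  rintro k _ ⟨y, rfl⟩
  exact hO k ⟨pullback.fst (p k).π U'.ι y, rfl⟩

end Shrink2

end Groth.Agent.Lib.Helper7.EtaleSplit
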