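import Mathlib
import Groth.Agent.Lib.Helper7.SmoothSlice
import Groth.Agent.Lib.Helper7.EtaleSplitUnram

/-!
# Scheme-level helpers for étale slices of smooth morphisms (helper7)

* `formallyUnramified_residueField`: translation of "`κ(x)` is separable over `κ(f x)`" into
  `Algebra.FormallyUnramified Γ(S, V) κ(m)` for affine opens.
* `exists_open_fibre_singleton`: for a locally quasi-finite morphism, every point has an open
  neighbourhood meeting its fibre only in that point.
-/

set_option autoImplicit false

universe u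

open AlgebraicGeometry CategoryTheory Limits

namespace Groth.Agent.Lib.Helper7.SmoothSliceScheme

/-- If `κ(x)` is separable over `κ(f x)`, then for affine opens `U ∋ x`, `V ⊇ f(U)` the residue
field of the prime of `Γ(X, U)` corresponding to `x` is formally unramified over `Γ(S, V)`. -/
theorem formallyUnramified_residueField {X S : Scheme.{u}} (f : X ⟶ S) (x : X)
    (hsep : @Algebra.IsSeparable (S.residueField (f x)) (X.residueField x) _ _
      (f.residueFieldMap x).hom.toAlgebra)
    {V : S.Opens} (hV : IsAffineOpen V) {U : X.Opens} (hU : IsAffineOpen U) (hUV : U ≤ f ⁻¹ᵁ V)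
    (hxU : x ∈ U) :
    letI := (f.appLE V U hUV).hom.toAlgebra
    Algebra.FormallyUnramified Γ(S, V) (hU.primeIdealOf ⟨x, hxU⟩).asIdeal.ResidueField := by
  letI := (f.appLE V U hUV).hom.toAlgebra
  have hxV : f x ∈ V := hUV hxU
  -- algebra structures
  letI algRst : Algebra Γ(X, U) (X.presheaf.stalk x) := (X.presheaf.germ U x hxU).hom.toAlgebra
  letI algAst : Algebra Γ(S, V) (X.presheaf.stalk x) :=
    (f.appLE V U hUV ≫ X.presheaf.germ U x hxU).hom.toAlgebra
  have tower1 : IsScalarTower Γ(S, V) Γ(X, U) (X.presheaf.stalk x) :=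
    IsScalarTower.of_algebraMap_eq fun a => rfl
  letI algASst : Algebra Γ(S, V) (S.presheaf.stalk (f x)) :=
    (S.presheaf.germ V (f x) hxV).hom.toAlgebra
  letI algkK : Algebra (IsLocalRing.ResidueField (S.presheaf.stalk (f x)))
      (IsLocalRing.ResidueField (X.presheaf.stalk x)) := (f.residueFieldMap x).hom.toAlgebra
  have heval : S.evaluation V (f x) hxV ≫ f.residueFieldMap x =
      f.appLE V U hUV ≫ X.evaluation U x hxU := by
    rw [Scheme.evaluation_naturality, Scheme.Hom.appLE, Category.assoc]
    congr 1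
    simp only [Scheme.evaluation]
    rw [← Category.assoc]
    congr 1
    exact (X.presheaf.germ_res (homOfLE hUV) x hxU).symm
  have tower2 : IsScalarTower Γ(S, V) (IsLocalRing.ResidueField (S.presheaf.stalk (f x)))
      (IsLocalRing.ResidueField (X.presheaf.stalk x)) :=
    IsScalarTower.of_algebraMap_eq fun a => (congrArg (fun φ => φ.hom a) heval).symm
  -- `κ(f x)` is formally unramified over `Γ(S, V)`
  have fu1 : Algebra.FormallyUnramified Γ(S, V)
      (IsLocalRing.ResidueField (S.presheaf.stalk (f x))) := by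
    have hloc : IsLocalization.AtPrime (S.presheaf.stalk (f x))
        (hV.primeIdealOf ⟨f x, hxV⟩).asIdeal := hV.isLocalization_stalk ⟨f x, hxV⟩
    have h1 : Algebra.FormallyUnramified Γ(S, V) (S.presheaf.stalk (f x)) :=
      Algebra.FormallyUnramified.of_isLocalization
        (hV.primeIdealOf ⟨f x, hxV⟩).asIdeal.primeCompl
    have h2 : Algebra.FormallyUnramified (S.presheaf.stalk (f x))
        (IsLocalRing.ResidueField (S.presheaf.stalk (f x))) :=
      Algebra.FormallyUnramified.of_surjective (Algebra.ofId _ _) IsLocalRing.residue_surjective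
    exact Algebra.FormallyUnramified.comp _ (S.presheaf.stalk (f x)) _
  have fu2 : Algebra.FormallyUnramified (IsLocalRing.ResidueField (S.presheaf.stalk (f x)))
      (IsLocalRing.ResidueField (X.presheaf.stalk x)) :=
    @Algebra.FormallyUnramified.of_isSeparable _ _ _ _ algkK hsep
  have fu3 : Algebra.FormallyUnramified Γ(S, V)
      (IsLocalRing.ResidueField (X.presheaf.stalk x)) :=
    Algebra.FormallyUnramified.comp _ (IsLocalRing.ResidueField (S.presheaf.stalk (f x))) _
  -- comparison of residue fields
  have hlocX : IsLocalization.AtPrime (X.presheaf.stalk x)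
      (hU.primeIdealOf ⟨x, hxU⟩).asIdeal := hU.isLocalization_stalk ⟨x, hxU⟩
  let e₀ : X.presheaf.stalk x ≃ₐ[Γ(X, U)]
      Localization.AtPrime (hU.primeIdealOf ⟨x, hxU⟩).asIdeal :=
    IsLocalization.algEquiv (hU.primeIdealOf ⟨x, hxU⟩).asIdeal.primeCompl _ _
  let e₁ : IsLocalRing.ResidueField (X.presheaf.stalk x) ≃ₐ[Γ(X, U)]
      (hU.primeIdealOf ⟨x, hxU⟩).asIdeal.ResidueField :=
    IsLocalRing.ResidueField.mapAlgEquiv e₀
  exact Algebra.FormallyUnramified.of_equiv (e₁.restrictScalars Γ(S, V))

/-- For a locally quasi-finite morphism, every point has an open neighbourhood meeting its fibre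
only in that point. -/
theorem exists_open_fibre_singleton {Z S : Scheme.{u}} (g : Z ⟶ S) [LocallyQuasiFinite g] (z : Z) :
    ∃ W : Z.Opens, z ∈ W ∧ ∀ z' : Z, z' ∈ W → g z' = g z → z' = z := by
  have hdisc := g.isDiscrete_preimage_singleton (g z)
  rw [isDiscrete_iff_forall_mem_exists_isOpen] at hdisc
  obtain ⟨u, hu, hus⟩ := hdisc z rfl
  refine ⟨⟨u, hu⟩, ?_, ?_⟩
  · have : z ∈ u ∩ g ⁻¹' {g z} := by rw [hus]; rfl
    exact this.1
  · intro z' hz' hgz'
    have : z' ∈ u ∩ g ⁻¹' {g z} := ⟨hz', hgz'⟩
    rw [hus] at this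
    exact this

end Groth.Agent.Lib.Helper7.SmoothSliceScheme
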