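import Mathlib.AlgebraicGeometry.Noetherian
import Mathlib.AlgebraicGeometry.Morphisms.UniversallyOpen
import Mathlib.AlgebraicGeometry.Morphisms.Flat
import Mathlib.RingTheory.Flat.FaithfullyFlat.Algebra

/-!
# Descent of (local) Noetherianity along faithfully flat maps

* `isNoetherianRing_of_faithfullyFlat`: `A → B` faithfully flat, `B` Noetherian ⇒ `A` Noetherian.
* `isNoetherianRing_of_flat_surjective`: `f : X ⟶ Y` flat surjective between affine schemes,
  `X` locally Noetherian ⇒ `Γ(Y, ⊤)` Noetherian.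
* `isLocallyNoetherian_of_flat_surjective_isOpenMap`: `a : X' ⟶ X` flat, surjective, open,
  `X'` locally Noetherian ⇒ `X` locally Noetherian.
* `isLocallyNoetherian_of_fppf`: same for flat + lfp + surjective.
-/

set_option autoImplicit false

namespace Groth.Agent.Lib.Helper7

open AlgebraicGeometry CategoryTheory Limits

universe u

theorem isNoetherianRing_of_faithfullyFlat (A B : Type*) [CommRing A] [CommRing B] [Algebra A B]
    [Module.FaithfullyFlat A B] [IsNoetherianRing B] : IsNoetherianRing A := by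
  have hB : WellFoundedGT (Ideal B) := (isNoetherian_iff' (R := B) (M := B)).mp inferInstance
  rw [isNoetherianRing_iff, isNoetherian_iff']
  let e : Ideal A ↪o Ideal B := OrderEmbedding.ofMapLEIff (Ideal.map (algebraMap A B))
    (fun I J => ⟨fun h => by
      have := Ideal.comap_mono (f := algebraMap A B) h
      rwa [Ideal.comap_map_eq_self_of_faithfullyFlat, Ideal.comap_map_eq_self_of_faithfullyFlat]
        at this, fun h => Ideal.map_mono h⟩)
  exact e.wellFoundedGT

theorem isNoetherianRing_of_flat_surjective {X Y : Scheme.{u}} [IsAffine X] [IsAffine Y]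
    (f : X ⟶ Y) [Flat f] [Surjective f] [IsLocallyNoetherian X] : IsNoetherianRing Γ(Y, ⊤) := by
  have hX : IsNoetherianRing Γ(X, ⊤) :=
    IsLocallyNoetherian.component_noetherian ⟨⊤, isAffineOpen_top X⟩
  have hflat : (f.appTop).hom.Flat := (HasRingHomProperty.iff_of_isAffine (P := @Flat)).mp ‹_›
  algebraize [(f.appTop).hom]
  have hsurj : Function.Surjective (PrimeSpectrum.comap (algebraMap Γ(Y, ⊤) Γ(X, ⊤))) := by
    intro p
    let p' : Spec Γ(Y, ⊤) := p
    obtain ⟨x, hx⟩ := f.surjective (Y.isoSpec.inv p')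
    refine ⟨X.isoSpec.hom x, ?_⟩
    have h1 : (Spec.map f.appTop) (X.isoSpec.hom x) = Y.isoSpec.hom (f x) := by
      have := congr($(Scheme.isoSpec_hom_naturality f) x)
      simpa only [Scheme.Hom.comp_apply] using this
    have h2 : Y.isoSpec.hom (Y.isoSpec.inv p') = p' := by simp
    rw [hx, h2] at h1
    exact h1
  have : Module.FaithfullyFlat Γ(Y, ⊤) Γ(X, ⊤) := Module.FaithfullyFlat.of_comap_surjective hsurj
  exact isNoetherianRing_of_faithfullyFlat Γ(Y, ⊤) Γ(X, ⊤)

theorem isLocallyNoetherian_of_flat_surjective_isOpenMap {X' X : Scheme.{u}} (a : X' ⟶ X) [Flat a]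
    [Surjective a] (ho : IsOpenMap a) [IsLocallyNoetherian X'] : IsLocallyNoetherian X := by
  classical
  refine ⟨fun U => ?_⟩
  let 𝒱 : Set X'.affineOpens := {V | V.1 ≤ a ⁻¹ᵁ U.1}
  have hcover : (U.1 : Set X) ⊆ ⋃ V : 𝒱, a '' (V.1.1 : Set X') := by
    intro x hx
    obtain ⟨x', rfl⟩ := a.surjective x
    obtain ⟨_, ⟨V, hV, rfl⟩, hx'V, hVU⟩ :=
      (X'.isBasis_affineOpens).exists_subset_of_mem_open
        (show x' ∈ ((a ⁻¹ᵁ U.1 : X'.Opens) : Set X') from hx) (a ⁻¹ᵁ U.1).isOpen
    exact Set.mem_iUnion.mpr ⟨⟨⟨V, hV⟩, hVU⟩, ⟨x', hx'V, rfl⟩⟩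
  obtain ⟨K, hK⟩ := U.2.isCompact.elim_finite_subcover (fun V : 𝒱 => a '' (V.1.1 : Set X'))
    (fun V => ho _ V.1.1.isOpen) hcover
  let Qk : K → Scheme.{u} := fun V => V.1.1.1.toScheme
  have hQaff : ∀ k, IsAffine (Qk k) := fun k => k.1.1.2
  let q : ∀ k : K, Qk k ⟶ U.1.toScheme := fun k => a.resLE U.1 k.1.1.1 k.1.2
  let c : ∐ Qk ⟶ U.1.toScheme := Sigma.desc q
  have hc_flat : Flat c := by
    refine IsZariskiLocalAtSource.of_openCover (sigmaOpenCover Qk) fun k => ?_
    have : (sigmaOpenCover Qk).f k ≫ c = q k := Sigma.ι_desc _ _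
    rw [this]
    exact (inferInstance : Flat (a.resLE U.1 k.1.1.1 k.1.2))
  have hc_surj : Surjective c := ⟨fun x => by
    obtain ⟨V, hV, x', hx'V, hx'⟩ : ∃ V : 𝒱, V ∈ K ∧ ∃ x' ∈ (V.1.1 : Set X'), a x' = x.1 := by
      have := hK x.2
      simp only [Set.mem_iUnion] at this
      obtain ⟨V, hV, x', hx', h⟩ := this
      exact ⟨V, hV, x', hx', h⟩
    refine ⟨Sigma.ι Qk ⟨V, hV⟩ ⟨x', hx'V⟩, ?_⟩
    rw [← Scheme.Hom.comp_apply, Sigma.ι_desc]
    apply Subtype.ext
    have := congr($(Scheme.Hom.resLE_comp_ι a (U := U.1) (V := V.1.1) V.2) ⟨x', hx'V⟩)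
    simp only [Scheme.Hom.comp_apply] at this
    exact this.trans hx'⟩
  have : IsAffine U.1.toScheme := U.2
  have : IsLocallyNoetherian (∐ Qk) :=
    (isLocallyNoetherian_iff_openCover (sigmaOpenCover Qk)).mpr fun k =>
      (inferInstance : IsLocallyNoetherian (k.1.1.1 : X'.Opens).toScheme)
  have h := isNoetherianRing_of_flat_surjective c
  exact isNoetherianRing_of_ringEquiv _ (U.1.topIso.commRingCatIsoToRingEquiv)

theorem isLocallyNoetherian_of_fppf {X' X : Scheme.{u}} (a : X' ⟶ X) [Flat a]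
    [LocallyOfFinitePresentation a] [Surjective a] [IsLocallyNoetherian X'] :
    IsLocallyNoetherian X :=
  isLocallyNoetherian_of_flat_surjective_isOpenMap a a.isOpenMap

/-- Core version: enough that over every affine open of the target finitely many affine opens of the
source map into it and jointly cover it. -/
theorem isLocallyNoetherian_of_flat_of_finite_cover {X' X : Scheme.{u}} (a : X' ⟶ X) [Flat a]
    [IsLocallyNoetherian X']
    (H : ∀ U : X.affineOpens, ∃ K : Finset X'.affineOpens, (∀ V ∈ K, V.1 ≤ a ⁻¹ᵁ U.1) ∧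
      (U.1 : Set X) ⊆ ⋃ V ∈ K, a '' (V.1 : Set X')) : IsLocallyNoetherian X := by
  classical
  refine ⟨fun U => ?_⟩
  obtain ⟨K, hKle, hK⟩ := H U
  let Qk : K → Scheme.{u} := fun V => V.1.1.toScheme
  have hQaff : ∀ k, IsAffine (Qk k) := fun k => k.1.2
  let q : ∀ k : K, Qk k ⟶ U.1.toScheme := fun k => a.resLE U.1 k.1.1 (hKle k.1 k.2)
  let c : ∐ Qk ⟶ U.1.toScheme := Sigma.desc q
  have hc_flat : Flat c := by
    refine IsZariskiLocalAtSource.of_openCover (sigmaOpenCover Qk) fun k => ?_
    have : (sigmaOpenCover Qk).f k ≫ c = q k := Sigma.ι_desc _ _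
    rw [this]
    exact (inferInstance : Flat (a.resLE U.1 k.1.1 (hKle k.1 k.2)))
  have hc_surj : Surjective c := ⟨fun x => by
    obtain ⟨V, hV, x', hx'V, hx'⟩ : ∃ V : X'.affineOpens, V ∈ K ∧
        ∃ x' ∈ (V.1 : Set X'), a x' = x.1 := by
      have := hK x.2
      simp only [Set.mem_iUnion] at this
      obtain ⟨V, hV, x', hx', h⟩ := this
      exact ⟨V, hV, x', hx', h⟩
    refine ⟨Sigma.ι Qk ⟨V, hV⟩ ⟨x', hx'V⟩, ?_⟩
    rw [← Scheme.Hom.comp_apply, Sigma.ι_desc]
    apply Subtype.ext
    have := congr($(Scheme.Hom.resLE_comp_ι a (U := U.1) (V := V.1) (hKle V hV)) ⟨x', hx'V⟩)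
    simp only [Scheme.Hom.comp_apply] at this
    exact this.trans hx'⟩
  have : IsAffine U.1.toScheme := U.2
  have : IsLocallyNoetherian (∐ Qk) :=
    (isLocallyNoetherian_iff_openCover (sigmaOpenCover Qk)).mpr fun k =>
      (inferInstance : IsLocallyNoetherian (k.1.1 : X'.Opens).toScheme)
  have h := isNoetherianRing_of_flat_surjective c
  exact isNoetherianRing_of_ringEquiv _ (U.1.topIso.commRingCatIsoToRingEquiv)

/-- Local Noetherianity descends along flat, surjective, quasi-compact morphisms. -/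
theorem isLocallyNoetherian_of_fpqc {X' X : Scheme.{u}} (a : X' ⟶ X) [Flat a]
    [QuasiCompact a] [Surjective a] [IsLocallyNoetherian X'] : IsLocallyNoetherian X := by
  classical
  refine isLocallyNoetherian_of_flat_of_finite_cover a fun U => ?_
  have hc : IsCompact ((a ⁻¹ᵁ U.1 : X'.Opens) : Set X') := a.isCompact_preimage U.2.isCompact
  obtain ⟨K, hK, hKeq⟩ := isCompact_iff_finite_and_eq_biUnion_affineOpens.mp hc
  refine ⟨hK.toFinset, fun V hV => ?_, fun x hx => ?_⟩
  · rw [hKeq]
    exact le_iSup₂ (f := fun (i : X'.affineOpens) (_ : i ∈ K) => (i : X'.Opens)) V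
      (hK.mem_toFinset.mp hV)
  · obtain ⟨x', rfl⟩ := a.surjective x
    have hx' : x' ∈ a ⁻¹ᵁ U.1 := hx
    rw [hKeq] at hx'
    simp only [TopologicalSpace.Opens.mem_iSup] at hx'
    obtain ⟨V, hV, hxV⟩ := hx'
    simp only [Set.mem_iUnion]
    exact ⟨V, hK.mem_toFinset.mpr hV, x', hxV, rfl⟩

/-- A ring essentially of finite type over a Noetherian ring is Noetherian. -/
theorem isNoetherianRing_of_essFiniteType {R S : Type*} [CommRing R] [CommRing S] (f : R →+* S)
    (hf : f.EssFiniteType) [IsNoetherianRing R] : IsNoetherianRing S := by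
  algebraize [f]
  have : IsNoetherianRing (Algebra.EssFiniteType.subalgebra R S) :=
    Algebra.FiniteType.isNoetherianRing R _
  exact IsLocalization.isNoetherianRing (Algebra.EssFiniteType.submonoid R S) S inferInstance

theorem isLocallyNoetherian_pullback_Spec_of_essFiniteType {k B K : CommRingCat.{u}}
    (ψ : k ⟶ B) (φ : k ⟶ K) (hφ : φ.hom.EssFiniteType) [IsNoetherianRing B] :
    IsLocallyNoetherian (pullback (Spec.map ψ) (Spec.map φ)) := by
  have hinl : (pushout.inl ψ φ).hom.EssFiniteType :=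
    RingHom.EssFiniteType.isStableUnderBaseChange.pushout_inl
      RingHom.EssFiniteType.respectsIso ψ φ hφ
  have hP : IsNoetherianRing (pushout ψ φ : CommRingCat.{u}) :=
    isNoetherianRing_of_essFiniteType _ hinl
  let e := (isPullback_SpecMap_pushout ψ φ).isoPullback
  exact isLocallyNoetherian_of_isOpenImmersion e.inv

/-- Base change of a locally Noetherian scheme over `Spec k` along a ring map essentially of finite
type is locally Noetherian. -/
theorem isLocallyNoetherian_pullback_of_essFiniteType {X : Scheme.{u}} {k K : CommRingCat.{u}}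
    (p : X ⟶ Spec k) (φ : k ⟶ K) (hφ : φ.hom.EssFiniteType) [IsLocallyNoetherian X] :
    IsLocallyNoetherian (pullback p (Spec.map φ)) := by
  refine (isLocallyNoetherian_iff_openCover
    (Scheme.Pullback.openCoverOfLeft X.affineCover p (Spec.map φ))).mpr fun i => ?_
  let j : X.affineCover.I₀ := i
  change IsLocallyNoetherian (pullback (X.affineCover.f j ≫ p) (Spec.map φ))
  have key : ∀ (W : Scheme.{u}) (q : W ⟶ Spec k) (B : CommRingCat.{u}) (_ : W = Spec B)
      [IsLocallyNoetherian W], IsLocallyNoetherian (pullback q (Spec.map φ)) := by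
    rintro W q B rfl _
    obtain ⟨ψ, rfl⟩ := Spec.map_surjective q
    have : IsNoetherianRing B := isLocallyNoetherian_Spec.mp ‹_›
    exact isLocallyNoetherian_pullback_Spec_of_essFiniteType ψ φ hφ
  exact key _ (X.affineCover.f j ≫ p) _ rfl

end Groth.Agent.Lib.Helper7
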