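import Mathlib
import Groth.Agent.Lib.Helper70.SpecUnivHomeo
import Groth.Agent.Lib.Helper22.WeightingFinite

/-!
# Elementary étale neighbourhoods and étale localisation of finite fibres (helper7)

Main result `exists_etale_nbhd_isCompl`: for `f : X ⟶ Y` separated and locally of finite type and
`y : Y` with finite fibre, there is an étale neighbourhood `(Y', y')` of `y` with trivial residue
field extension such that `X ×_Y Y'` splits as `V ⨿ W` with `V` finite over `Y'` and containing all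
points over `y'`.
-/

set_option autoImplicit false
set_option linter.style.haveILetI false
universe u
open AlgebraicGeometry CategoryTheory Limits

namespace Groth.Agent.Lib.Helper7.EtaleNbhd

variable {X S : Scheme.{u}}

/-! ### Quasi-finiteness at the points of a finite fibre -/

theorem quasiFiniteAt_of_finite_fibre (f : X ⟶ S) [LocallyOfFiniteType f] (x : X)
    (hfin : (f ⁻¹' {f x}).Finite) : f.QuasiFiniteAt x := by
  have hF : Finite ↥(f.fiber (f x)) := by
    have : Finite ↥(f ⁻¹' {f x}) := hfin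
    exact Finite.of_equiv _ (f.fiberHomeo (f x)).symm.toEquiv
  have h0 : LocallyOfFiniteType (f.fiberToSpecResidueField (f x)) := by
    unfold Scheme.Hom.fiberToSpecResidueField
    exact MorphismProperty.pullback_snd (P := @LocallyOfFiniteType) _ _ inferInstance
  have h1 : LocallyQuasiFinite (f.fiberToSpecResidueField (f x)) :=
    LocallyQuasiFinite.of_finite_preimage_singleton _ (fun _ => Set.toFinite _)
  have h2 : IsLocallyArtinian (f.fiber (f x)) :=
    IsLocallyArtinian.of_locallyQuasiFinite (f.fiberToSpecResidueField (f x))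
  rw [Scheme.Hom.quasiFiniteAt_iff_isOpen_singleton_asFiber]
  exact isOpen_discrete _

/-! ### Residue field bridge -/

theorem isIso_residueFieldMap_of_bijective {R R' : Type u} [CommRing R] [CommRing R']
    [Algebra R R'] (p : Ideal R) [p.IsPrime] (P : Ideal R') [hP : P.IsPrime] [P.LiesOver p]
    (h : Function.Bijective (Ideal.ResidueField.mapₐ p P (Algebra.ofId _ _) (P.over_def p))) :
    IsIso ((Spec.map (CommRingCat.ofHom (algebraMap R R'))).residueFieldMap ⟨P, hP⟩) := by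
  obtain rfl : p = P.under R := P.over_def p
  rw [Groth.Agent.Lib.Helper70.SpecUH.isIso_residueFieldMap_Spec_iff]
  exact h

/-! ### Étale localisation at one point, keeping the residue field -/

set_option backward.defeqAttrib.useBackward true in
set_option backward.isDefEq.respectTransparency false in
open TensorProduct in
/-- A refinement of Mathlib's `exists_etale_isCompl_of_quasiFiniteAt`: the étale neighbourhood comes
with a point `u` over `f x` with trivial residue field extension, and the finite clopen piece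
contains a point over `(x, u)`. -/
theorem exists_etale_isCompl_of_quasiFiniteAt' (f : X ⟶ S) [LocallyOfFiniteType f] [IsSeparated f]
    {x : X} (hx : f.QuasiFiniteAt x) :
    ∃ (U : Scheme.{u}) (g : U ⟶ S) (u : U), Etale g ∧ g u = f x ∧ IsIso (g.residueFieldMap u) ∧
    ∃ (V W : (pullback f g).Opens) (v : V), IsCompl V W ∧ IsFinite (V.ι ≫ pullback.snd f g) ∧
      pullback.fst f g v.1 = x ∧ pullback.snd f g v.1 = u ∧
      ∀ v' : V, pullback.snd f g v'.1 = u → v' = v := by
  obtain ⟨_, ⟨U, hU, rfl⟩, hxU, -⟩ := S.isBasis_affineOpens.exists_subset_of_mem_open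
    (Set.mem_univ (f x)) isOpen_univ
  obtain ⟨_, ⟨V, hV, rfl⟩, hxV, hUV : V ≤ f ⁻¹ᵁ U⟩ :=
    X.isBasis_affineOpens.exists_subset_of_mem_open hxU (f ⁻¹ᵁ U).2
  have : (f.appLE U V hUV).hom.FiniteType := f.finiteType_appLE hU hV hUV
  algebraize [(f.appLE U V hUV).hom]
  have : (hV.primeIdealOf ⟨x, hxV⟩).asIdeal.LiesOver (hU.primeIdealOf ⟨f x, hxU⟩).asIdeal := by
    suffices hU.primeIdealOf ⟨f x, hxU⟩ = Spec.map (f.appLE U V hUV) (hV.primeIdealOf ⟨x, hxV⟩) from
      ⟨congr(($this).1)⟩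
    apply hU.isoSpec.inv.homeomorph.injective
    apply Subtype.ext
    simp only [IsAffineOpen.primeIdealOf, Scheme.Hom.homeomorph_apply,
      ← Scheme.Hom.comp_apply, ← Scheme.Opens.ι_apply, IsAffineOpen.isoSpec_hom]
    simp
  have : Algebra.QuasiFiniteAt Γ(S, U) (hV.primeIdealOf ⟨x, hxV⟩).asIdeal :=
    hx.quasiFiniteAt hV hU hUV hxV
  obtain ⟨R, _, _, _, P, _, _, e, _, P', _, _, hP', heP', hpP, _, huniq⟩ :=
    Algebra.exists_etale_isIdempotentElem_forall_liesOver_eq
    (hU.primeIdealOf ⟨f x, hxU⟩).asIdeal (hV.primeIdealOf ⟨x, hxV⟩).asIdeal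
  have : (algebraMap R (Localization.Away e)).Finite := RingHom.finite_algebraMap.mpr ‹_›
  let φ : Γ(S, U) ⟶ .of R := CommRingCat.ofHom <| algebraMap Γ(S, U) R
  have hφ : φ.hom.Etale := RingHom.etale_algebraMap.mpr ‹_›
  have : Etale (Spec.map φ) := HasRingHomProperty.Spec_iff.mpr hφ
  let e₁ : Spec (.of (R ⊗ Γ(X, V))) ≅ pullback (Spec.map (f.appLE U V hUV)) (Spec.map φ) :=
    (pullbackSpecIso _ _ _).symm ≪≫ pullbackSymmetry _ _
  have he₁ : e₁.hom ≫ pullback.fst _ _ =
      Spec.map (CommRingCat.ofHom Algebra.TensorProduct.includeRight.toRingHom) := by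
    dsimp [e₁, RingHom.algebraMap_toAlgebra]
    rw [Category.assoc, pullbackSymmetry_hom_comp_fst]
    exact pullbackSpecIso_inv_snd ..
  have he₁' : e₁.hom ≫ pullback.snd _ _ =
      Spec.map (CommRingCat.ofHom (algebraMap R (R ⊗[Γ(S, U)] Γ(X, V)))) := by
    dsimp [e₁, RingHom.algebraMap_toAlgebra]
    rw [Category.assoc, pullbackSymmetry_hom_comp_snd]
    exact pullbackSpecIso_inv_fst ..
  let g : Spec (.of (R ⊗[Γ(S, U)] Γ(X, V))) ⟶ pullback f (Spec.map φ ≫ hU.fromSpec) :=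
    e₁.hom ≫ pullback.map _ _ _ _ hV.fromSpec (𝟙 _) hU.fromSpec
      (IsAffineOpen.SpecMap_appLE_fromSpec ..) (by simp)
  have hg₂ : g ≫ pullback.snd _ _ =
      Spec.map (CommRingCat.ofHom (algebraMap R (R ⊗[Γ(S, U)] Γ(X, V)))) := by
    simp only [g, Category.assoc, pullback.lift_snd, Category.comp_id, pullback.map]
    rw [← he₁']
  let W₁ := g ''ᵁ PrimeSpectrum.basicOpen e
  have : IsFinite (W₁.ι ≫ pullback.snd f _) := by
    let ι : Spec (.of (Localization.Away e)) ⟶ pullback f (Spec.map φ ≫ hU.fromSpec) :=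
      Spec.map (CommRingCat.ofHom <| algebraMap _ _) ≫ g
    have : ι.opensRange = W₁ := by
      simp only [Scheme.Hom.opensRange_comp, ι, W₁]
      congr 1
      exact TopologicalSpace.Opens.ext <| PrimeSpectrum.localization_away_comap_range _ _
    rw [← this, ← MorphismProperty.cancel_left_of_respectsIso @IsFinite
      (Scheme.Hom.isoOpensRange _).hom]
    have H : (pullbackSpecIso _ R _).inv ≫ pullback.fst _ (Spec.map (f.appLE U V hUV)) = _ :=
      pullbackSpecIso_inv_fst ..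
    simpa [Scheme.Hom.isoOpensRange, ι, g, e₁, RingHom.algebraMap_toAlgebra, φ, H,
      ← Spec.map_comp, IsFinite.SpecMap_iff]
  have : IsFinite W₁.ι := .of_comp _ (pullback.snd f _)
  let W₂ : (pullback f (Spec.map φ ≫ hU.fromSpec)).Opens :=
    ⟨W₁ᶜ, by simpa using W₁.ι.isClosedMap.isClosed_range⟩
  have hsnd : ∀ (Q : Ideal (R ⊗[Γ(S, U)] Γ(X, V))) (hQ : Q.IsPrime),
      (pullback.snd f (Spec.map φ ≫ hU.fromSpec) (g ⟨Q, hQ⟩)).asIdeal =
        Q.comap (algebraMap R (R ⊗[Γ(S, U)] Γ(X, V))) := by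
    intro Q hQ
    have h1 : pullback.snd f (Spec.map φ ≫ hU.fromSpec) (g ⟨Q, hQ⟩) =
        (g ≫ pullback.snd f (Spec.map φ ≫ hU.fromSpec)) ⟨Q, hQ⟩ := rfl
    rw [h1, hg₂]
    rfl
  refine ⟨Spec (.of R), Spec.map φ ≫ hU.fromSpec, ⟨P, ‹_›⟩, inferInstance, ?_, ?_,
    W₁, W₂, ⟨g ⟨P', ‹_›⟩, ⟨⟨P', ‹_›⟩, heP', rfl⟩⟩, ?_, ‹_›, ?_, ?_, ?_⟩
  · dsimp [Spec.map_apply]
    convert! hU.fromSpec_primeIdealOf ⟨f x, hxU⟩
    exact PrimeSpectrum.ext (Ideal.over_def _ _).symm
  · rw [Scheme.residueFieldMap_comp]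
    have : IsIso ((Spec.map φ).residueFieldMap ⟨P, ‹_›⟩) :=
      isIso_residueFieldMap_of_bijective _ P hpP
    infer_instance
  · simp [isCompl_iff, disjoint_iff, codisjoint_iff, W₂, SetLike.ext'_iff]
  · change pullback.fst f (Spec.map φ ≫ hU.fromSpec) (g ⟨P', ‹_›⟩) = x
    trans hV.fromSpec ⟨P'.comap Algebra.TensorProduct.includeRight.toRingHom, inferInstance⟩
    · simp [← Scheme.Hom.comp_apply, -Scheme.Hom.comp_base, g, reassoc_of% he₁]; rfl
    convert! hV.fromSpec_primeIdealOf ⟨x, hxV⟩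
  · change pullback.snd f (Spec.map φ ≫ hU.fromSpec) (g ⟨P', ‹_›⟩) = ⟨P, ‹_›⟩
    apply PrimeSpectrum.ext
    rw [hsnd]
    exact (P'.over_def P).symm
  · rintro ⟨_, ⟨P'', heP'', rfl⟩⟩ hu'
    apply Subtype.ext
    simp only
    have h2 : P''.asIdeal.comap (algebraMap R (R ⊗[Γ(S, U)] Γ(X, V))) = P := by
      rw [← hsnd P''.asIdeal P''.2]
      exact congrArg PrimeSpectrum.asIdeal hu'
    have hlies : P''.asIdeal.LiesOver P := ⟨h2.symm⟩
    have := huniq P''.asIdeal P''.2 hlies heP''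
    congr 1
    exact PrimeSpectrum.ext this

/-! ### Rational points over the residue field -/

/-- A point with trivial residue field extension gives a section over the residue field. -/
theorem exists_section_of_isIso {U Y : Scheme.{u}} (g : U ⟶ Y) (u : U)
    [IsIso (g.residueFieldMap u)] :
    ∃ t : Spec (Y.residueField (g u)) ⟶ U, t ≫ g = Y.fromSpecResidueField (g u) ∧
      ∀ z, t z = u := by
  refine ⟨Spec.map (inv (g.residueFieldMap u)) ≫ U.fromSpecResidueField u, ?_, fun z => ?_⟩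
  · rw [Category.assoc, ← Scheme.Hom.SpecMap_residueFieldMap_fromSpecResidueField,
      ← Spec.map_comp_assoc, IsIso.hom_inv_id, Spec.map_id, Category.id_comp]
  · rw [Scheme.Hom.comp_apply, Scheme.fromSpecResidueField_apply]

/-- Conversely, the image point of a section over the residue field has trivial residue field
extension. -/
theorem isIso_residueFieldMap_of_section {U Y : Scheme.{u}} (g : U ⟶ Y) (y : Y)
    (t : Spec (Y.residueField y) ⟶ U) (ht : t ≫ g = Y.fromSpecResidueField y) :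
    g (t (IsLocalRing.closedPoint (Y.residueField y))) = y ∧
      IsIso (g.residueFieldMap (t (IsLocalRing.closedPoint (Y.residueField y)))) := by
  have e : g (t (IsLocalRing.closedPoint (Y.residueField y))) = y := by
    rw [← Scheme.Hom.comp_apply, ht, Scheme.fromSpecResidueField_apply]
  refine ⟨e, ?_⟩
  have hρ := Scheme.descResidueField_stalkClosedPointTo_fromSpecResidueField
    (Y.residueField y) U t
  set u := t (IsLocalRing.closedPoint (Y.residueField y)) with hu
  obtain ⟨ρ, hρ⟩ : ∃ ρ : U.residueField u ⟶ Y.residueField y,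
      Spec.map ρ ≫ U.fromSpecResidueField u = t := ⟨_, hρ⟩
  set m := g.residueFieldMap u with hm
  have h1 : Spec.map (m ≫ ρ) ≫ Y.fromSpecResidueField (g u) =
      Spec.map (Y.residueFieldCongr e).hom ≫ Y.fromSpecResidueField (g u) := by
    rw [Spec.map_comp, Category.assoc, Scheme.Hom.SpecMap_residueFieldMap_fromSpecResidueField,
      ← Category.assoc, hρ, ht, Scheme.residueFieldCongr_fromSpecResidueField]
  have h2 : m ≫ ρ = (Y.residueFieldCongr e).hom :=
    Spec.map_injective ((cancel_mono _).mp h1)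
  have hbij : Function.Bijective (m ≫ ρ).hom := by
    rw [h2]
    exact ConcreteCategory.bijective_of_isIso (Y.residueFieldCongr e).hom
  have hρinj : Function.Injective ρ.hom := ρ.hom.injective
  have hρsurj : Function.Surjective ρ.hom := by
    intro z
    obtain ⟨a, ha⟩ := hbij.2 z
    exact ⟨m.hom a, ha⟩
  have hmbij : Function.Bijective m.hom := by
    refine ⟨m.hom.injective, fun b => ?_⟩
    obtain ⟨a, ha⟩ := hbij.2 (ρ.hom b)
    exact ⟨a, hρinj ha⟩
  exact (ConcreteCategory.isIso_iff_bijective m).mpr hmbij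

/-! ### Uniqueness of points of a fibre product over a point with trivial residue extension -/

theorem eq_of_fst_eq_of_snd_eq {X U Y : Scheme.{u}} (f : X ⟶ Y) (g : U ⟶ Y)
    (w w' : ↥(pullback f g)) (h1 : pullback.fst f g w = pullback.fst f g w')
    (h2 : pullback.snd f g w = pullback.snd f g w')
    (hiso : IsIso (g.residueFieldMap (pullback.snd f g w'))) : w = w' := by
  apply Scheme.Pullback.carrierEquiv.injective
  rw [Scheme.Pullback.carrierEquiv_eq_iff]
  have e : Scheme.Pullback.Triplet.ofPoint w = Scheme.Pullback.Triplet.ofPoint w' :=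
    Scheme.Pullback.Triplet.ext h1 h2
  have hb : IsIso ((Y.residueFieldCongr (Scheme.Pullback.Triplet.ofPoint w').hy).inv ≫
      g.residueFieldMap (Scheme.Pullback.Triplet.ofPoint w').y) := by
    have : IsIso (g.residueFieldMap (Scheme.Pullback.Triplet.ofPoint w').y) := hiso
    infer_instance
  have hinl : IsIso (Scheme.Pullback.Triplet.ofPoint w').tensorInl := by
    unfold Scheme.Pullback.Triplet.tensorInl
    exact @pushout_inl_iso_of_right_iso _ _ _ _ _ _ _ hb
  have hsub : Subsingleton ↥(Spec (Scheme.Pullback.Triplet.ofPoint w').tensor) := by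
    have : IsIso (Spec.map (Scheme.Pullback.Triplet.ofPoint w').tensorInl) := inferInstance
    exact (Spec.map (Scheme.Pullback.Triplet.ofPoint w').tensorInl).homeomorph.toEquiv.subsingleton
  exact ⟨e, @Subsingleton.elim _ hsub _ _⟩

/-! ### Covering conditions and their base change -/

section Good

variable {U : Scheme.{u}}

/-- The comparison map of fibre products for a change of base. -/
noncomputable def q (f : X ⟶ S) (g : U ⟶ S) {U' : Scheme.{u}} (γ : U' ⟶ U) :
    pullback f (γ ≫ g) ⟶ pullback f g :=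
  pullback.lift (pullback.fst _ _) (pullback.snd _ _ ≫ γ)
    (by rw [pullback.condition, Category.assoc])

@[reassoc (attr := simp)]
theorem q_fst (f : X ⟶ S) (g : U ⟶ S) {U' : Scheme.{u}} (γ : U' ⟶ U) :
    q f g γ ≫ pullback.fst f g = pullback.fst _ _ :=
  pullback.lift_fst _ _ _

@[reassoc (attr := simp)]
theorem q_snd (f : X ⟶ S) (g : U ⟶ S) {U' : Scheme.{u}} (γ : U' ⟶ U) :
    q f g γ ≫ pullback.snd f g = pullback.snd _ _ ≫ γ :=
  pullback.lift_snd _ _ _

theorem isPullback_q (f : X ⟶ S) (g : U ⟶ S) {U' : Scheme.{u}} (γ : U' ⟶ U) :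
    IsPullback (q f g γ) (pullback.snd f (γ ≫ g)) (pullback.snd f g) γ := by
  have h1 : IsPullback (pullback.snd f (γ ≫ g)) (q f g γ ≫ pullback.fst f g) (γ ≫ g) f := by
    rw [q_fst]
    exact (IsPullback.of_hasPullback f (γ ≫ g)).flip
  exact (IsPullback.of_bot h1 (q_snd f g γ).symm (IsPullback.of_hasPullback f g).flip).flip

/-- `Good f g u T`: there is an open and closed subscheme of `X ×_S U`, finite over `U`, containing
all points over `u` which lie over a point of `T`. -/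
def Good (f : X ⟶ S) (g : U ⟶ S) (u : U) (T : Set X) : Prop :=
  ∃ V : (pullback f g).Opens, IsClosed (V : Set ↥(pullback f g)) ∧
    IsFinite (V.ι ≫ pullback.snd f g) ∧
    ∀ w : ↥(pullback f g), pullback.snd f g w = u → pullback.fst f g w ∈ T → w ∈ V

theorem Good.baseChange {f : X ⟶ S} {g : U ⟶ S} {u : U} {T : Set X} (h : Good f g u T)
    {U' : Scheme.{u}} (γ : U' ⟶ U) (u' : U') (hu' : γ u' = u) : Good f (γ ≫ g) u' T := by
  obtain ⟨V, hVc, hVf, hV⟩ := h
  refine ⟨q f g γ ⁻¹ᵁ V, hVc.preimage (q f g γ).continuous, ?_, fun w hw hwT => ?_⟩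
  · have h1 := (isPullback_morphismRestrict (q f g γ) V).paste_vert (isPullback_q f g γ)
    exact MorphismProperty.of_isPullback (P := @IsFinite) h1 hVf
  · change q f g γ w ∈ V
    apply hV
    · rw [← Scheme.Hom.comp_apply, q_snd, Scheme.Hom.comp_apply, hw, hu']
    · rw [← Scheme.Hom.comp_apply, q_fst]
      exact hwT

/-- A morphism which is finite on two clopen subschemes is finite on their union. -/
theorem isFinite_sup {Z T : Scheme.{u}} (h : Z ⟶ T) (O₁ O₂ : Z.Opens)
    (hc₁ : IsClosed (O₁ : Set Z)) (h₁ : IsFinite (O₁.ι ≫ h)) (h₂ : IsFinite (O₂.ι ≫ h)) :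
    IsFinite ((O₁ ⊔ O₂).ι ≫ h) := by
  obtain ⟨R, hR⟩ : ∃ R : Z.Opens, (R : Set Z) = (O₂ : Set Z) \ (O₁ : Set Z) :=
    ⟨⟨_, O₂.2.sdiff hc₁⟩, rfl⟩
  have hRmem : ∀ z : Z, z ∈ R ↔ z ∈ O₂ ∧ z ∉ O₁ := fun z => by
    rw [← SetLike.mem_coe, hR]; rfl
  have hRO₂ : R ≤ O₂ := fun z hz => ((hRmem z).mp hz).1
  have hRO : R ≤ O₁ ⊔ O₂ := hRO₂.trans le_sup_right
  have hO₁O : O₁ ≤ O₁ ⊔ O₂ := le_sup_left
  have hfinR : IsFinite (R.ι ≫ h) := by
    have hcl : IsClosedImmersion (Z.homOfLE hRO₂) := by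
      apply IsClosedImmersion.of_isPreimmersion
      have hrange : Set.range (Z.homOfLE hRO₂) = (O₂.ι ⁻¹' (O₁ : Set Z))ᶜ := by
        ext z
        constructor
        · rintro ⟨a, rfl⟩
          intro hz
          have h1 : O₂.ι (Z.homOfLE hRO₂ a) = R.ι a := by
            rw [← Scheme.Hom.comp_apply, Scheme.homOfLE_ι]
          have h2 : R.ι a ∈ O₁ := by rw [← h1]; exact hz
          exact ((hRmem _).mp a.2).2 h2
        · intro hz
          have hzR : z.1 ∈ R := (hRmem _).mpr ⟨z.2, hz⟩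
          refine ⟨⟨z.1, hzR⟩, ?_⟩
          apply O₂.ι.isOpenEmbedding.injective
          rw [← Scheme.Hom.comp_apply, Scheme.homOfLE_ι]
          rfl
      rw [hrange]
      exact (O₁.2.preimage O₂.ι.continuous).isClosed_compl
    have h3 : R.ι ≫ h = Z.homOfLE hRO₂ ≫ O₂.ι ≫ h := by
      rw [Scheme.homOfLE_ι_assoc]
    rw [h3]
    infer_instance
  have hi : IsFinite (Z.homOfLE hO₁O ≫ (O₁ ⊔ O₂).ι ≫ h) := by
    rw [Scheme.homOfLE_ι_assoc]; exact h₁
  have hr : IsFinite (Z.homOfLE hRO ≫ (O₁ ⊔ O₂).ι ≫ h) := by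
    rw [Scheme.homOfLE_ι_assoc]; exact hfinR
  refine Groth.Agent.Lib.Helper22.Weighting.isFinite_of_isCompl ((O₁ ⊔ O₂).ι ≫ h)
    (Z.homOfLE hO₁O) (Z.homOfLE hRO) ?_
  ext z
  have hzO : z.1 ∈ O₁ ∨ z.1 ∈ O₂ := by
    have hz2 : z.1 ∈ ((O₁ ⊔ O₂ : Z.Opens) : Set Z) := z.2
    rw [TopologicalSpace.Opens.coe_sup] at hz2
    exact hz2
  constructor
  · rintro ⟨a, rfl⟩ ⟨b, hb⟩
    have h1 : (O₁ ⊔ O₂).ι (Z.homOfLE hRO a) = R.ι a := by
      rw [← Scheme.Hom.comp_apply, Scheme.homOfLE_ι]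
    have h2 : (O₁ ⊔ O₂).ι (Z.homOfLE hO₁O b) = O₁.ι b := by
      rw [← Scheme.Hom.comp_apply, Scheme.homOfLE_ι]
    rw [hb, h1] at h2
    have h3 : R.ι a ∈ O₁ := by rw [h2]; exact b.2
    exact ((hRmem _).mp a.2).2 h3
  · intro hz
    have hz1 : z.1 ∉ O₁ := fun hz1 => hz ⟨⟨z.1, hz1⟩, by
      apply (O₁ ⊔ O₂).ι.isOpenEmbedding.injective
      rw [← Scheme.Hom.comp_apply, Scheme.homOfLE_ι]
      rfl⟩
    have hz2 : z.1 ∈ O₂ := hzO.resolve_left hz1
    refine ⟨⟨z.1, (hRmem _).mpr ⟨hz2, hz1⟩⟩, ?_⟩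
    apply (O₁ ⊔ O₂).ι.isOpenEmbedding.injective
    rw [← Scheme.Hom.comp_apply, Scheme.homOfLE_ι]
    rfl

theorem Good.union {f : X ⟶ S} {g : U ⟶ S} {u : U} {T₁ T₂ : Set X} (h₁ : Good f g u T₁)
    (h₂ : Good f g u T₂) : Good f g u (T₁ ∪ T₂) := by
  obtain ⟨V₁, hc₁, hf₁, hV₁⟩ := h₁
  obtain ⟨V₂, hc₂, hf₂, hV₂⟩ := h₂
  refine ⟨V₁ ⊔ V₂, ?_, isFinite_sup _ V₁ V₂ hc₁ hf₁ hf₂, fun w hw hwT => ?_⟩
  · rw [TopologicalSpace.Opens.coe_sup]
    exact hc₁.union hc₂
  · rcases hwT with hwT | hwT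
    · exact le_sup_left (a := V₁) (b := V₂) (hV₁ w hw hwT)
    · exact le_sup_right (a := V₁) (b := V₂) (hV₂ w hw hwT)

theorem Good.empty (f : X ⟶ S) (g : U ⟶ S) (u : U) : Good f g u ∅ := by
  refine ⟨⊥, by simp, ?_, fun w _ hw => hw.elim⟩
  have : IsEmpty ↥((⊥ : (pullback f g).Opens) : Scheme.{u}) := ⟨fun z => z.2.elim⟩
  infer_instance

theorem Good.mono {f : X ⟶ S} {g : U ⟶ S} {u : U} {T₁ T₂ : Set X} (h : Good f g u T₂)
    (hT : T₁ ⊆ T₂) : Good f g u T₁ := by
  obtain ⟨V, hc, hf, hV⟩ := h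
  exact ⟨V, hc, hf, fun w hw hwT => hV w hw (hT hwT)⟩

end Good

/-! ### Elementary étale neighbourhoods -/

/-- An elementary étale neighbourhood of `y : Y`: an étale `Y`-scheme with a point rational over the
residue field of `y`. -/
structure ENbhd (Y : Scheme.{u}) (y : Y) where
  U : Scheme.{u}
  g : U ⟶ Y
  etale : Etale g
  t : Spec (Y.residueField y) ⟶ U
  ht : t ≫ g = Y.fromSpecResidueField y

namespace ENbhd

variable {Y : Scheme.{u}} {y : Y}

/-- The distinguished point of an elementary étale neighbourhood. -/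
noncomputable def u (N : ENbhd Y y) : N.U := N.t (IsLocalRing.closedPoint (Y.residueField y))

theorem g_u (N : ENbhd Y y) : N.g N.u = y := (isIso_residueFieldMap_of_section N.g y N.t N.ht).1

theorem isIso (N : ENbhd Y y) : IsIso (N.g.residueFieldMap N.u) :=
  (isIso_residueFieldMap_of_section N.g y N.t N.ht).2

/-- The trivial neighbourhood. -/
noncomputable def triv (Y : Scheme.{u}) (y : Y) : ENbhd Y y where
  U := Y
  g := 𝟙 Y
  etale := inferInstance
  t := Y.fromSpecResidueField y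
  ht := Category.comp_id _

/-- A neighbourhood from a point with trivial residue field extension. -/
theorem exists_of_isIso {U : Scheme.{u}} (g : U ⟶ Y) [Etale g] (u : U) (hu : g u = y)
    (hiso : IsIso (g.residueFieldMap u)) :
    ∃ N : ENbhd Y y, ∃ e : N.U = U, N.g = eqToHom e ≫ g ∧ (eqToHom e : N.U ⟶ U) N.u = u := by
  subst hu
  obtain ⟨t, ht, htu⟩ := exists_section_of_isIso g u
  exact ⟨⟨U, g, inferInstance, t, ht⟩, rfl, by simp, htu _⟩

/-- Common refinement of two elementary étale neighbourhoods. -/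
theorem exists_refinement (N₁ N₂ : ENbhd Y y) :
    ∃ (N₃ : ENbhd Y y) (γ₁ : N₃.U ⟶ N₁.U) (γ₂ : N₃.U ⟶ N₂.U), N₃.g = γ₁ ≫ N₁.g ∧
      N₃.g = γ₂ ≫ N₂.g ∧ γ₁ N₃.u = N₁.u ∧ γ₂ N₃.u = N₂.u := by
  have := N₁.etale
  have := N₂.etale
  refine ⟨⟨pullback N₁.g N₂.g, pullback.fst _ _ ≫ N₁.g, inferInstance,
    pullback.lift N₁.t N₂.t (N₁.ht.trans N₂.ht.symm), ?_⟩, pullback.fst _ _, pullback.snd _ _,
    rfl, pullback.condition, ?_, ?_⟩
  · rw [pullback.lift_fst_assoc, N₁.ht]
  · change pullback.fst N₁.g N₂.g ((pullback.lift N₁.t N₂.t _) _) = N₁.t _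
    rw [← Scheme.Hom.comp_apply, pullback.lift_fst]
  · change pullback.snd N₁.g N₂.g ((pullback.lift N₁.t N₂.t _) _) = N₂.t _
    rw [← Scheme.Hom.comp_apply, pullback.lift_snd]

end ENbhd

/-! ### The main theorem -/

section Main

variable {Y : Scheme.{u}}

theorem exists_good_singleton (f : X ⟶ Y) [LocallyOfFiniteType f] [IsSeparated f] (x : X)
    (hx : f.QuasiFiniteAt x) : ∃ N : ENbhd Y (f x), Good f N.g N.u {x} := by
  obtain ⟨U, g, u, hg, hgu, hiso, V, W, v, hVW, hVfin, hv₁, hv₂, -⟩ :=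
    exists_etale_isCompl_of_quasiFiniteAt' f hx
  obtain ⟨N, e, hNg, hNu⟩ := ENbhd.exists_of_isIso g u hgu hiso
  obtain ⟨NU, Ng, Net, Nt, Nht⟩ := N
  dsimp only at e
  subst e
  simp only [eqToHom_refl, Category.id_comp] at hNg
  subst hNg
  have hNu' : ENbhd.u ⟨NU, Ng, Net, Nt, Nht⟩ = u := by simpa using hNu
  refine ⟨⟨NU, Ng, Net, Nt, Nht⟩, V, ?_, hVfin, fun w hw hwx => ?_⟩
  · have hVW' : (V : Set ↥(pullback f Ng)) = (↑W)ᶜ :=
      (eq_compl_iff_isCompl.mpr (hVW.map TopologicalSpace.Opens.frameHom))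
    rw [hVW']
    exact W.2.isClosed_compl
  · rw [hNu'] at hw
    have hwv : w = v.1 := by
      apply eq_of_fst_eq_of_snd_eq f Ng w v.1
      · rw [hv₁]; exact hwx
      · rw [hv₂, hw]
      · rw [hv₂]; exact hiso
    rw [hwv]
    exact v.2

theorem exists_good_of_finite (f : X ⟶ Y) [LocallyOfFiniteType f] [IsSeparated f] (y : Y)
    (T : Set X) (hT : T.Finite) (hTy : ∀ x ∈ T, f x = y) (hq : ∀ x ∈ T, f.QuasiFiniteAt x) :
    ∃ N : ENbhd Y y, Good f N.g N.u T := by
  induction T, hT using Set.Finite.induction_on with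
  | empty => exact ⟨ENbhd.triv Y y, Good.empty _ _ _⟩
  | @insert a T ha hT ih =>
    obtain ⟨N₁, hN₁⟩ := ih (fun x hx => hTy x (Set.mem_insert_of_mem _ hx))
      (fun x hx => hq x (Set.mem_insert_of_mem _ hx))
    have hay : f a = y := hTy a (Set.mem_insert _ _)
    obtain ⟨N₂, hN₂⟩ : ∃ N : ENbhd Y y, Good f N.g N.u {a} := by
      have := exists_good_singleton f a (hq a (Set.mem_insert _ _))
      rw [hay] at this
      exact this
    obtain ⟨N₃, γ₁, γ₂, h₁, h₂, hu₁, hu₂⟩ := N₁.exists_refinement N₂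
    refine ⟨N₃, ?_⟩
    have g₁ := hN₁.baseChange γ₁ N₃.u hu₁
    have g₂ := hN₂.baseChange γ₂ N₃.u hu₂
    rw [← h₁] at g₁
    rw [← h₂] at g₂
    have := g₂.union g₁
    rwa [Set.singleton_union] at this

/-- **Étale localisation of a finite fibre** (EGA IV 18.5.11 c / Stacks 02LM with trivial residue
field extension). -/
theorem exists_etale_nbhd_isCompl (f : X ⟶ Y) [LocallyOfFiniteType f] [IsSeparated f] (y : Y)
    (hfin : (f ⁻¹' {y}).Finite) :
    ∃ (Y' : Scheme.{u}) (g : Y' ⟶ Y) (y' : Y'), Etale g ∧ g y' = y ∧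
      IsIso (g.residueFieldMap y') ∧
      ∃ (V W : (pullback f g).Opens), IsCompl V W ∧ IsFinite (V.ι ≫ pullback.snd f g) ∧
        ∀ x : ↥(pullback f g), pullback.snd f g x = y' → x ∈ V := by
  obtain ⟨N, V, hVc, hVf, hV⟩ := exists_good_of_finite f y (f ⁻¹' {y}) hfin (fun x hx => hx)
    (fun x hx => by
      have hx' : f x = y := hx
      subst hx'
      exact quasiFiniteAt_of_finite_fibre f x hfin)
  obtain ⟨W, hW⟩ : ∃ W : (pullback f N.g).Opens, (W : Set ↥(pullback f N.g)) = (↑V)ᶜ :=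
    ⟨⟨_, hVc.isOpen_compl⟩, rfl⟩
  refine ⟨N.U, N.g, N.u, N.etale, N.g_u, N.isIso, V, W, ?_, hVf, fun x hx => ?_⟩
  · rw [isCompl_iff, disjoint_iff, codisjoint_iff]
    constructor
    · apply TopologicalSpace.Opens.ext
      rw [TopologicalSpace.Opens.coe_inf, hW]
      simp
    · apply TopologicalSpace.Opens.ext
      rw [TopologicalSpace.Opens.coe_sup, hW]
      simp
  · apply hV x hx
    change f (pullback.fst f N.g x) = y
    rw [← Scheme.Hom.comp_apply, pullback.condition, Scheme.Hom.comp_apply, hx, N.g_u]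

end Main

end Groth.Agent.Lib.Helper7.EtaleNbhd
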