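import Mathlib
import Groth.Agent.S0591
import Groth.Agent.H46.LimSmooth2
import Groth.Agent.Lib.Helper13.LimDescent6

/-!
# Models over finitely generated `ℤ`-subalgebras (helper7)

`Spec A` is the cofiltered limit of the `Spec A₀`, `A₀` running over the finitely generated
`ℤ`-subalgebras `Algebra.adjoin ℤ s` (`s : Finset A`) of `A`.  Combining this with descent of
finitely presented schemes through limits (helper23, S0591) and one-step descent of properties
(helper13/helper46) gives models over finitely generated subalgebras (`exists_model`).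
-/

set_option autoImplicit false
universe u
open CategoryTheory Limits AlgebraicGeometry

namespace Groth.Agent.Lib.Helper7.FgSubalgLimit

section Diagram

variable (A : Type u) [CommRing A]

theorem adjoin_mono {s t : Finset A} (h : s ≤ t) :
    Algebra.adjoin ℤ (s : Set A) ≤ Algebra.adjoin ℤ (t : Set A) :=
  Algebra.adjoin_mono (by exact_mod_cast h)

/-- The diagram of finitely generated `ℤ`-subalgebras of `A`. -/
noncomputable def fgDiagram : Finset A ⥤ CommRingCat.{u} where
  obj s := CommRingCat.of (Algebra.adjoin ℤ (s : Set A))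
  map {s t} h := CommRingCat.ofHom (Subalgebra.inclusion (adjoin_mono A h.le)).toRingHom
  map_id s := by ext; rfl
  map_comp g h := by ext; rfl

/-- The cocone with point `A`. -/
noncomputable def fgCocone : Cocone (fgDiagram A) where
  pt := CommRingCat.of A
  ι :=
    { app := fun s => CommRingCat.ofHom (Algebra.adjoin ℤ (s : Set A)).val.toRingHom
      naturality := fun s t h => by ext; rfl }

variable {A}

/-- The value of the descended map at `b`. -/
noncomputable def fgDescFun (s : Cocone (fgDiagram A)) (b : A) : s.pt :=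
  (s.ι.app {b}) ⟨b, Algebra.subset_adjoin (by simp)⟩

theorem fgDesc_key (s : Cocone (fgDiagram A)) (t : Finset A) (b : A)
    (hb : b ∈ Algebra.adjoin ℤ (t : Set A)) : (s.ι.app t) ⟨b, hb⟩ = fgDescFun s b := by
  classical
  have h1 := s.w (homOfLE (Finset.subset_union_left : t ≤ t ∪ {b}))
  have h2 := s.w (homOfLE (Finset.subset_union_right : ({b} : Finset A) ≤ t ∪ {b}))
  rw [fgDescFun, ← h1, ← h2]
  rfl

/-- The descended ring homomorphism. -/
noncomputable def fgDescHom (s : Cocone (fgDiagram A)) : A →+* s.pt where
  toFun := fgDescFun s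
  map_one' := by
    rw [← fgDesc_key s ∅ 1 (one_mem _)]
    exact map_one (s.ι.app ∅).hom
  map_zero' := by
    rw [← fgDesc_key s ∅ 0 (zero_mem _)]
    exact map_zero (s.ι.app ∅).hom
  map_add' b b' := by
    classical
    have hb : b ∈ Algebra.adjoin ℤ ((({b, b'} : Finset A)) : Set A) :=
      Algebra.subset_adjoin (by simp)
    have hb' : b' ∈ Algebra.adjoin ℤ ((({b, b'} : Finset A)) : Set A) :=
      Algebra.subset_adjoin (by simp)
    rw [← fgDesc_key s {b, b'} (b + b') (add_mem hb hb'), ← fgDesc_key s {b, b'} b hb,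
      ← fgDesc_key s {b, b'} b' hb']
    exact map_add (s.ι.app {b, b'}).hom ⟨b, hb⟩ ⟨b', hb'⟩
  map_mul' b b' := by
    classical
    have hb : b ∈ Algebra.adjoin ℤ ((({b, b'} : Finset A)) : Set A) :=
      Algebra.subset_adjoin (by simp)
    have hb' : b' ∈ Algebra.adjoin ℤ ((({b, b'} : Finset A)) : Set A) :=
      Algebra.subset_adjoin (by simp)
    rw [← fgDesc_key s {b, b'} (b * b') (mul_mem hb hb'), ← fgDesc_key s {b, b'} b hb,
      ← fgDesc_key s {b, b'} b' hb']
    exact map_mul (s.ι.app {b, b'}).hom ⟨b, hb⟩ ⟨b', hb'⟩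

variable (A)

/-- `A` is the colimit of its finitely generated `ℤ`-subalgebras. -/
noncomputable def isColimitFgCocone : IsColimit (fgCocone A) where
  desc s := CommRingCat.ofHom (fgDescHom s)
  fac s t := by
    ext x
    exact (fgDesc_key s t x.1 x.2).symm
  uniq s m hm := by
    ext (b : A)
    have hb : b ∈ Algebra.adjoin ℤ ((({b} : Finset A)) : Set A) :=
      Algebra.subset_adjoin (Finset.mem_coe.mpr (Finset.mem_singleton_self b))
    have h := congr($(hm {b}) (⟨b, hb⟩ : Algebra.adjoin ℤ ((({b} : Finset A)) : Set A)))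
    exact h

/-- The inverse system of spectra of the finitely generated subalgebras. -/
noncomputable def specD : (Finset A)ᵒᵖ ⥤ Scheme.{u} := (fgDiagram A).op ⋙ Scheme.Spec

/-- The cone with point `Spec A`. -/
noncomputable def specC : Cone (specD A) := Scheme.Spec.mapCone (fgCocone A).op

/-- `Spec A` is the limit of the spectra of its finitely generated subalgebras. -/
noncomputable def isLimitSpecC : IsLimit (specC A) :=
  isLimitOfPreserves Scheme.Spec (isColimitFgCocone A).op

instance (j : (Finset A)ᵒᵖ) : IsAffine ((specD A).obj j) := by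
  dsimp [specD]; infer_instance

instance {i j : (Finset A)ᵒᵖ} (a : i ⟶ j) : IsAffineHom ((specD A).map a) := by
  dsimp [specD]; infer_instance

end Diagram

section Model

variable {A : Type u} [CommRing A]

set_option backward.isDefEq.respectTransparency false in
/-- **Models over finitely generated subalgebras**: a finitely presented `f : X ⟶ Spec A` with a
property `P` that descends through the limit `Spec A = lim Spec A₀` is the base change of a
finitely presented morphism with `P` over a finitely generated `ℤ`-subalgebra of `A`. -/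
theorem exists_model (P : MorphismProperty Scheme.{u}) [P.RespectsIso]
    (hdesc : ∀ (i : (Finset A)ᵒᵖ) {X₀ : Scheme.{u}} (f₀ : X₀ ⟶ (specD A).obj i)
      [LocallyOfFinitePresentation f₀] [QuasiCompact f₀] [QuasiSeparated f₀],
      P (pullback.fst ((specC A).π.app i) f₀) →
        ∃ k : Over i, P (pullback.fst ((specD A).map k.hom) f₀))
    {X : Scheme.{u}} (f : X ⟶ Spec (CommRingCat.of A))
    [LocallyOfFinitePresentation f] [QuasiCompact f] [QuasiSeparated f] (hP : P f) :
    ∃ A₀ : Subalgebra ℤ A, A₀.FG ∧
      ∃ (X₀ : Scheme.{u}) (f₀ : X₀ ⟶ Spec (CommRingCat.of ↥A₀)) (g : X ⟶ X₀),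
        P f₀ ∧ LocallyOfFinitePresentation f₀ ∧ QuasiCompact f₀ ∧ QuasiSeparated f₀ ∧
          IsPullback g f f₀ (Spec.map (CommRingCat.ofHom (algebraMap ↥A₀ A))) := by
  have hq : ∀ i : (Finset A)ᵒᵖ, CompactSpace ((specD A).obj i) := fun i => inferInstance
  have hqs : ∀ i : (Finset A)ᵒᵖ, QuasiSeparatedSpace ((specD A).obj i) := fun i => inferInstance
  have haff : ∀ (i j : (Finset A)ᵒᵖ) (a : i ⟶ j), IsAffineHom ((specD A).map a) :=
    fun i j a => inferInstance
  obtain ⟨i, Xi, fi, g, h1, h2, h3, hpb⟩ :=
    Groth.Agent.S0591.result (specD A) (specC A) (isLimitSpecC A) X (f : X ⟶ (specC A).pt)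
  have hPfst : P (pullback.fst ((specC A).π.app i) fi) := by
    have e := hpb.flip.isoPullback_inv_fst
    rw [← e]
    exact (P.cancel_left_of_respectsIso _ _).mpr hP
  obtain ⟨k, hk⟩ := hdesc i fi hPfst
  let j : (Finset A)ᵒᵖ := k.left
  let a : j ⟶ i := k.hom
  have hw : (specC A).π.app j ≫ (specD A).map a = (specC A).π.app i := (specC A).w a
  let g' : X ⟶ pullback ((specD A).map a) fi :=
    pullback.lift (f ≫ (specC A).π.app j) g (by
      rw [Category.assoc, hw]
      exact hpb.w.symm)
  have hg'1 : g' ≫ pullback.fst ((specD A).map a) fi = f ≫ (specC A).π.app j :=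
    pullback.lift_fst _ _ _
  have hg'2 : g' ≫ pullback.snd ((specD A).map a) fi = g := pullback.lift_snd _ _ _
  have hright : IsPullback (pullback.snd ((specD A).map a) fi)
      (pullback.fst ((specD A).map a) fi) fi ((specD A).map a) :=
    (IsPullback.of_hasPullback ((specD A).map a) fi).flip
  have hbig : IsPullback (g' ≫ pullback.snd ((specD A).map a) fi) f fi
      ((specC A).π.app j ≫ (specD A).map a) := by
    rw [hg'2, hw]
    exact hpb
  have hleft : IsPullback g' f (pullback.fst ((specD A).map a) fi) ((specC A).π.app j) :=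
    IsPullback.of_right hbig hg'1 hright
  refine ⟨Algebra.adjoin ℤ ((j.unop : Finset A) : Set A), ⟨j.unop, rfl⟩,
    pullback ((specD A).map a) fi, pullback.fst ((specD A).map a) fi, g', hk, ?_, ?_, ?_, hleft⟩
  · exact MorphismProperty.pullback_fst (P := @LocallyOfFinitePresentation) _ _ h1
  · exact MorphismProperty.pullback_fst (P := @QuasiCompact) _ _ h2
  · exact MorphismProperty.pullback_fst (P := @QuasiSeparated) _ _ h3

end Model

end Groth.Agent.Lib.Helper7.FgSubalgLimit
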