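import Mathlib.AlgebraicGeometry.Morphisms.FlatDescent
import Mathlib.AlgebraicGeometry.Morphisms.LocalFlatDescent
import Mathlib.AlgebraicGeometry.Morphisms.Proper
import Mathlib.AlgebraicGeometry.Morphisms.Immersion

set_option autoImplicit false

namespace Groth.Agent.Lib.Helper7

open AlgebraicGeometry CategoryTheory Limits MorphismProperty

universe u

/-- Separatedness is the diagonal being universally closed. -/
theorem isSeparated_eq_diagonal_universallyClosed :
    @IsSeparated = (diagonal @UniversallyClosed : MorphismProperty Scheme.{u}) := by
  ext X Y f
  rw [IsSeparated.isSeparated_eq_diagonal_isClosedImmersion]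
  constructor
  · intro (h : IsClosedImmersion (pullback.diagonal f))
    show UniversallyClosed (pullback.diagonal f)
    infer_instance
  · intro (h : UniversallyClosed (pullback.diagonal f))
    show IsClosedImmersion (pullback.diagonal f)
    exact IsClosedImmersion.of_isPreimmersion _ (pullback.diagonal f).isClosedMap.isClosed_range

/-- Separatedness satisfies fpqc descent. -/
instance descendsAlong_isSeparated :
    DescendsAlong @IsSeparated (@Surjective ⊓ @Flat ⊓ @QuasiCompact : MorphismProperty Scheme.{u}) := by
  rw [isSeparated_eq_diagonal_universallyClosed]
  infer_instance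

/-- Properness satisfies fpqc descent. -/
instance descendsAlong_isProper :
    DescendsAlong @IsProper (@Surjective ⊓ @Flat ⊓ @QuasiCompact : MorphismProperty Scheme.{u}) := by
  rw [isProper_eq]
  infer_instance

end Groth.Agent.Lib.Helper7
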