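import Groth.Agent.Lib.Helper7.ReducedFibre
import Mathlib.AlgebraicGeometry.Fiber
import Mathlib.AlgebraicGeometry.IdealSheaf.Subscheme
import Mathlib.RingTheory.Ideal.Quotient.Nilpotent
import Mathlib.AlgebraicGeometry.Properties
import Mathlib.RingTheory.Ideal.MinimalPrime.Localization
import Mathlib.RingTheory.Localization.AtPrime.Basic
import Mathlib.RingTheory.LocalRing.ResidueField.Fiber

set_option autoImplicit false

namespace Groth.Agent.Lib.Helper7

open AlgebraicGeometry CategoryTheory Limits TensorProduct

universe u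

/-- Algebraic form: the fibre ring of a reduced algebra over a minimal prime is reduced. -/
theorem isReduced_fiber_of_mem_minimalPrimes {A B : Type u} [CommRing A] [CommRing B]
    [Algebra A B] [IsReduced B] (p : Ideal A) [p.IsPrime] (hp : p ∈ minimalPrimes A) :
    IsReduced (p.Fiber B) := by
  have : Subsingleton (PrimeSpectrum (Localization.AtPrime p)) :=
    IsLocalization.subsingleton_primeSpectrum_of_mem_minimalPrimes p hp _
  have h := isReduced_tensor_residueField A B (Localization.AtPrime p) p.primeCompl
  let e : p.Fiber B ≃ₐ[A] B ⊗[A] p.ResidueField := Algebra.TensorProduct.comm A _ _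
  exact isReduced_of_injective e.toRingEquiv.toRingHom e.injective

/-- The fibre of `Spec B ⟶ Spec A` over a minimal prime is reduced when `B` is. -/
theorem isReduced_fiber_SpecMap {A B : CommRingCat.{u}} [IsReduced B] (φ : A ⟶ B) (y : Spec A)
    (hy : y.asIdeal ∈ minimalPrimes A) : IsReduced ((Spec.map φ).fiber y) := by
  algebraize [φ.hom]
  have hred : IsReduced (y.asIdeal.Fiber B) := isReduced_fiber_of_mem_minimalPrimes y.asIdeal hy
  have e : (Spec.map (CommRingCat.ofHom (algebraMap A B))).fiber y ≅
      Spec (CommRingCat.of (y.asIdeal.Fiber B)) :=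
    Arrow.leftFunc.mapIso (Spec.fiberToSpecResidueFieldIso A B y)
  have : IsReduced (Spec (CommRingCat.of (y.asIdeal.Fiber B))) := inferInstance
  exact isReduced_of_isOpenImmersion e.hom

/-- The fibre of a morphism from a reduced scheme to `Spec A` over a minimal prime is reduced. -/
theorem isReduced_fiber_of_Spec {A : CommRingCat.{u}} {P : Scheme.{u}} [IsReduced P]
    (h : P ⟶ Spec A) (y : Spec A) (hy : y.asIdeal ∈ minimalPrimes A) : IsReduced (h.fiber y) := by
  let 𝒲 := P.affineOpenCover
  let 𝒱 := Scheme.Pullback.openCoverOfLeft 𝒲.openCover h ((Spec A).fromSpecResidueField y)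
  have : ∀ i, IsReduced (𝒱.X i) := by
    intro i
    obtain ⟨φ, hφ⟩ := Spec.map_surjective (𝒲.f i ≫ h)
    have hB : IsReduced (Spec (𝒲.X i)) := isReduced_of_isOpenImmersion (𝒲.f i)
    have hB' : _root_.IsReduced (𝒲.X i) := (affine_isReduced_iff _).mp hB
    have := isReduced_fiber_SpecMap φ y hy
    rw [hφ] at this
    exact this
  exact IsReduced.of_openCover _ 𝒱

/-- The fibre of a morphism from a reduced scheme over a point without proper generisations
is reduced. -/
theorem isReduced_fiber_of_forall_specializes {Z Y : Scheme.{u}} [IsReduced Z] (h : Z ⟶ Y) (η : Y)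
    (hη : ∀ x : Y, x ⤳ η → x = η) : IsReduced (h.fiber η) := by
  obtain ⟨_, ⟨V, hV, rfl⟩, hηV, -⟩ :=
    Y.isBasis_affineOpens.exists_subset_of_mem_open (Set.mem_univ η) isOpen_univ
  let g := hV.fromSpec
  let y : Spec Γ(Y, V) := hV.primeIdealOf ⟨η, hηV⟩
  have hgy : g y = η := hV.fromSpec_primeIdealOf ⟨η, hηV⟩
  have hy : y.asIdeal ∈ minimalPrimes Γ(Y, V) := by
    refine ⟨⟨y.2, bot_le⟩, ?_⟩
    rintro q ⟨hqp, -⟩ hle
    let q' : Spec Γ(Y, V) := ⟨q, hqp⟩
    have h1 : q' ⤳ y := (PrimeSpectrum.le_iff_specializes q' y).mp hle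
    have h2 : g q' ⤳ g y := h1.map g.continuous
    rw [hgy] at h2
    have h3 : g q' = g y := (hη _ h2).trans hgy.symm
    have h4 : q' = y := g.isOpenEmbedding.injective h3
    rw [← h4]
  have hP : IsReduced (pullback h g) := isReduced_of_isOpenImmersion (pullback.fst h g)
  have hred := isReduced_fiber_of_Spec (pullback.snd h g) y hy
  have hpb := isPullback_fiberToSpecResidueField_of_isPullback (IsPullback.of_hasPullback h g) y
  have hiso := hpb.isIso_fst_of_isIso
  have key : ∀ {P Q : Scheme.{u}} (f : P ⟶ Q) [IsIso f] [IsReduced P], IsReduced Q :=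
    fun f _ _ => isReduced_of_isOpenImmersion (inv f)
  have hfib : IsReduced (h.fiber (g y)) := @key _ _ _ hiso hred
  have key2 : ∀ η' : Y, η' = g y → IsReduced (h.fiber η') := by
    rintro _ rfl
    exact hfib
  exact key2 η hgy.symm

/-- The closed subscheme defined by a radical ideal sheaf is reduced. -/
instance isReduced_subscheme_radical {X : Scheme.{u}} (I : X.IdealSheafData) :
    IsReduced I.radical.subscheme := by
  have : ∀ U, IsReduced (I.radical.subschemeCover.openCover.X U) := by
    intro U
    have : _root_.IsReduced (Γ(X, U.1) ⧸ I.radical.ideal U) := by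
      rw [← Ideal.isRadical_iff_quotient_reduced]
      simp only [Scheme.IdealSheafData.radical_ideal]
      exact Ideal.radical_isRadical _
    show IsReduced (Spec (.of (Γ(X, U.1) ⧸ I.radical.ideal U)))
    infer_instance
  exact IsReduced.of_openCover _ I.radical.subschemeCover.openCover

instance isReduced_subscheme_nilradical (X : Scheme.{u}) : IsReduced X.nilradical.subscheme :=
  isReduced_subscheme_radical ⊥

/-- A generic point of an irreducible component has no proper generisations. -/
theorem eq_of_specializes_of_isGenericPoint_irreducibleComponent {T : Type*} [TopologicalSpace T]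
    [T0Space T] {η : T} {W : Set T} (hW : W ∈ irreducibleComponents T) (hη : IsGenericPoint η W)
    (x : T) (hx : x ⤳ η) : x = η := by
  refine (hx.antisymm ?_).eq
  -- `η ⤳ x` iff `x ∈ closure {η} = W`
  rw [specializes_iff_mem_closure, hη.def]
  have h1 : W ⊆ closure {x} := by
    rw [← hη.def]
    exact closure_minimal (Set.singleton_subset_iff.mpr hx.mem_closure) isClosed_closure
  have h2 : IsIrreducible (closure {x}) := isIrreducible_singleton.closure
  have h3 : closure {x} ⊆ W := hW.2 h2 h1
  exact h3 (subset_closure rfl)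

end Groth.Agent.Lib.Helper7
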