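import Mathlib
import Groth.Agent.Lib.Helper7.EtaleNbhd
import Groth.Agent.S0501

/-!
# Sections of étale schemes over a henselian local ring (helper7)

* `exists_section_of_henselian`: an étale scheme over the spectrum of a henselian local ring has a
  section through every point of the closed fibre with trivial residue field extension.
* `exists_clopen_finite_of_henselian`: a separated, locally of finite type scheme over a henselian
  local ring with finite closed fibre has an open and closed subscheme finite over the base and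
  containing the closed fibre.
-/

set_option autoImplicit false
set_option linter.style.haveILetI false
universe u
open AlgebraicGeometry CategoryTheory Limits

namespace Groth.Agent.Lib.Helper7.HensSection

open Groth.Agent.Lib.Helper7.EtaleNbhd

theorem exists_section_of_henselian (A : Type u) [CommRing A] [HenselianLocalRing A]
    {Y' : Scheme.{u}} (g : Y' ⟶ Spec (CommRingCat.of A)) [Etale g] (y' : Y')
    (hy' : g y' = IsLocalRing.closedPoint A) (hiso : IsIso (g.residueFieldMap y')) :
    ∃ σ : Spec (CommRingCat.of A) ⟶ Y', σ ≫ g = 𝟙 _ ∧ σ (IsLocalRing.closedPoint A) = y' := by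
  obtain ⟨_, ⟨V, hV, rfl⟩, hyV, -⟩ := Y'.isBasis_affineOpens.exists_subset_of_mem_open
    (Set.mem_univ y') isOpen_univ
  obtain ⟨ψ, hψ⟩ := Spec.map_surjective (hV.fromSpec ≫ g)
  have hψet : Etale (Spec.map ψ) := by rw [hψ]; infer_instance
  have hψ' : ψ.hom.Etale := HasRingHomProperty.Spec_iff.mp hψet
  obtain ⟨q, hq⟩ : ∃ q : Spec Γ(Y', V), hV.fromSpec q = y' :=
    ⟨hV.primeIdealOf ⟨y', hyV⟩, hV.fromSpec_primeIdealOf ⟨y', hyV⟩⟩
  have hisoq : IsIso ((Spec.map ψ).residueFieldMap q) := by
    rw [hψ, Scheme.residueFieldMap_comp]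
    have h1 : IsIso (g.residueFieldMap (hV.fromSpec q)) := by rw [hq]; exact hiso
    have h2 : IsIso (hV.fromSpec.residueFieldMap q) := inferInstance
    exact @IsIso.comp_isIso _ _ _ _ _ _ _ h1 h2
  have hqc : (Spec.map ψ) q = IsLocalRing.closedPoint A := by
    rw [hψ, Scheme.Hom.comp_apply, hq, hy']
  have hbij := (Groth.Agent.Lib.Helper70.SpecUH.isIso_residueFieldMap_Spec_iff ψ q).mp hisoq
  have hp : ((Spec.map ψ) q).asIdeal = IsLocalRing.maximalIdeal A :=
    congrArg PrimeSpectrum.asIdeal hqc
  have hpmax : ((Spec.map ψ) q).asIdeal.IsMaximal := by rw [hp]; infer_instance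
  algebraize [ψ.hom]
  have hm : ∀ a : A, algebraMap A q.asIdeal.ResidueField a = 0 ↔ a ∈ IsLocalRing.maximalIdeal A := by
    intro a
    rw [IsScalarTower.algebraMap_apply A Γ(Y', V) q.asIdeal.ResidueField,
      Ideal.algebraMap_residueField_eq_zero, ← hp]
    rfl
  have hloc : IsLocalHom (algebraMap A q.asIdeal.ResidueField) := by
    constructor
    intro a ha
    by_contra hna
    have : a ∈ IsLocalRing.maximalIdeal A := (IsLocalRing.mem_maximalIdeal a).mpr hna
    rw [← hm] at this
    rw [this] at ha
    exact not_isUnit_zero ha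
  let δ : IsLocalRing.ResidueField A →+* q.asIdeal.ResidueField :=
    IsLocalRing.ResidueField.lift (algebraMap A q.asIdeal.ResidueField)
  have hδ : ∀ a : A, δ (IsLocalRing.residue A a) = algebraMap A q.asIdeal.ResidueField a :=
    fun a => IsLocalRing.ResidueField.lift_residue_apply _ a
  have hδsurj : Function.Surjective δ := by
    intro z
    obtain ⟨w, rfl⟩ := hbij.2 z
    obtain ⟨a, rfl⟩ := Ideal.algebraMap_residueField_surjective ((Spec.map ψ) q).asIdeal w
    refine ⟨IsLocalRing.residue A a, ?_⟩
    rw [hδ, Ideal.ResidueField.map_algebraMap,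
      IsScalarTower.algebraMap_apply A Γ(Y', V) q.asIdeal.ResidueField]
    rfl
  let τ : q.asIdeal.ResidueField ≃+* IsLocalRing.ResidueField A :=
    (RingEquiv.ofBijective δ ⟨δ.injective, hδsurj⟩).symm
  have hτ : (τ : q.asIdeal.ResidueField →+* IsLocalRing.ResidueField A).comp
      (algebraMap A q.asIdeal.ResidueField) =
      (IsLocalRing.residue A).comp (algebraMap A A) := by
    ext a
    simp only [RingHom.comp_apply, RingHom.coe_coe, Algebra.algebraMap_self, RingHom.id_apply]
    rw [← hδ a]
    have h3 : δ (IsLocalRing.residue A a) =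
        (RingEquiv.ofBijective δ ⟨δ.injective, hδsurj⟩) (IsLocalRing.residue A a) := rfl
    rw [h3]
    exact RingEquiv.symm_apply_apply _ _
  obtain ⟨f, ⟨hf1, -⟩, -⟩ := Groth.Agent.S0501.result A A Γ(Y', V) q.asIdeal
    (τ : q.asIdeal.ResidueField →+* IsLocalRing.ResidueField A) hτ
  refine ⟨Spec.map (CommRingCat.ofHom f.toRingHom) ≫ hV.fromSpec, ?_, ?_⟩
  · rw [Category.assoc, ← hψ, ← Spec.map_comp, ← Spec.map_id]
    congr 1
    ext a
    exact f.commutes a
  · rw [Scheme.Hom.comp_apply]
    have : (Spec.map (CommRingCat.ofHom f.toRingHom)) (IsLocalRing.closedPoint A) = q :=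
      PrimeSpectrum.ext hf1
    rw [this, hq]

theorem exists_clopen_finite_of_henselian (A : Type u) [CommRing A] [HenselianLocalRing A]
    {X : Scheme.{u}} (f : X ⟶ Spec (CommRingCat.of A)) [LocallyOfFiniteType f] [IsSeparated f]
    (hfin : (f ⁻¹' {IsLocalRing.closedPoint A}).Finite) :
    ∃ W : X.Opens, IsClosed (W : Set X) ∧ IsFinite (W.ι ≫ f) ∧
      ∀ x : X, f x = IsLocalRing.closedPoint A → x ∈ W := by
  obtain ⟨c, hc⟩ : ∃ c : ↥(Spec (CommRingCat.of A)), c = IsLocalRing.closedPoint A := ⟨_, rfl⟩
  rw [← hc] at hfin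
  obtain ⟨N, hN⟩ := exists_good_of_finite f c (f ⁻¹' {c}) hfin (fun x hx => hx)
    (fun x hx => by
      have hx' : f x = c := hx
      have : (f ⁻¹' {f x}).Finite := by rw [hx']; exact hfin
      exact quasiFiniteAt_of_finite_fibre f x this)
  have := N.etale
  obtain ⟨σ, hσ, hσc⟩ := exists_section_of_henselian A N.g N.u (N.g_u.trans hc) N.isIso
  rw [← hc] at hσc
  have h1 := hN.baseChange σ c hσc
  rw [hσ] at h1
  obtain ⟨V, hVc, hVf, hV⟩ := h1
  have he : IsIso (pullback.fst f (𝟙 (Spec (CommRingCat.of A)))) := inferInstance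
  obtain ⟨i, hi⟩ : ∃ i : X ⟶ pullback f (𝟙 (Spec (CommRingCat.of A))),
      i = inv (pullback.fst f (𝟙 (Spec (CommRingCat.of A)))) := ⟨_, rfl⟩
  have hie : i ≫ pullback.fst f (𝟙 (Spec (CommRingCat.of A))) = 𝟙 X := by
    rw [hi]; exact IsIso.inv_hom_id _
  have his : i ≫ pullback.snd f (𝟙 (Spec (CommRingCat.of A))) = f := by
    have h2 : pullback.snd f (𝟙 (Spec (CommRingCat.of A))) =
        pullback.fst f (𝟙 (Spec (CommRingCat.of A))) ≫ f := by
      have := pullback.condition (f := f) (g := 𝟙 (Spec (CommRingCat.of A)))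
      rw [Category.comp_id] at this
      exact this.symm
    rw [h2, reassoc_of% hie]
  have hiiso : IsIso i := by rw [hi]; infer_instance
  refine ⟨i ⁻¹ᵁ V, hVc.preimage i.continuous, ?_, fun x hx => ?_⟩
  · have h2 : (i ⁻¹ᵁ V).ι ≫ f = (i ∣_ V) ≫ V.ι ≫ pullback.snd f (𝟙 _) := by
      rw [← Category.assoc, morphismRestrict_ι, Category.assoc, his]
    rw [h2]
    exact (MorphismProperty.cancel_left_of_respectsIso @IsFinite (i ∣_ V) _).mpr hVf
  · change i x ∈ V
    apply hV
    · rw [← Scheme.Hom.comp_apply, his, hx, hc]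
    · change f (pullback.fst f (𝟙 _) (i x)) = c
      have h5 : pullback.fst f (𝟙 (Spec (CommRingCat.of A))) (i x) = x := by
        rw [← Scheme.Hom.comp_apply, hie]; rfl
      rw [h5, hx, hc]

/-! ### Rational points over an arbitrary field -/

/-- A variant of `isIso_residueFieldMap_of_section` for points with values in a field `K` which is
the residue field of the base point. -/
theorem isIso_residueFieldMap_of_section' {U Y : Scheme.{u}} (g : U ⟶ Y) (K : Type u) [Field K]
    (s₀ : Spec (.of K) ⟶ Y)
    (hs₀ : Function.Surjective (Y.descResidueField (Scheme.stalkClosedPointTo s₀)).hom)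
    (t : Spec (.of K) ⟶ U) (ht : t ≫ g = s₀) :
    IsIso (g.residueFieldMap (t (IsLocalRing.closedPoint K))) := by
  have hρ := Scheme.descResidueField_stalkClosedPointTo_fromSpecResidueField K U t
  have hρ₀ := Scheme.descResidueField_stalkClosedPointTo_fromSpecResidueField K Y s₀
  have e : g (t (IsLocalRing.closedPoint K)) = s₀ (IsLocalRing.closedPoint K) := by
    rw [← ht]; rfl
  set u := t (IsLocalRing.closedPoint K) with hu
  obtain ⟨ρ, hρ⟩ : ∃ ρ : U.residueField u ⟶ .of K,
      Spec.map ρ ≫ U.fromSpecResidueField u = t := ⟨_, hρ⟩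
  obtain ⟨ρ₀, hρ₀s, hρ₀⟩ : ∃ ρ₀ : Y.residueField (s₀ (IsLocalRing.closedPoint K)) ⟶ .of K,
      Function.Surjective ρ₀.hom ∧
      Spec.map ρ₀ ≫ Y.fromSpecResidueField (s₀ (IsLocalRing.closedPoint K)) = s₀ :=
    ⟨_, hs₀, hρ₀⟩
  set m := g.residueFieldMap u with hm
  have h1 : Spec.map (m ≫ ρ) ≫ Y.fromSpecResidueField (g u) =
      Spec.map ((Y.residueFieldCongr e).hom ≫ ρ₀) ≫ Y.fromSpecResidueField (g u) := by
    rw [Spec.map_comp, Category.assoc, Scheme.Hom.SpecMap_residueFieldMap_fromSpecResidueField,
      ← Category.assoc, hρ, ht, Spec.map_comp, Category.assoc,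
      Scheme.residueFieldCongr_fromSpecResidueField, hρ₀]
  have h2 : m ≫ ρ = (Y.residueFieldCongr e).hom ≫ ρ₀ :=
    Spec.map_injective ((cancel_mono _).mp h1)
  have hsurj : Function.Surjective (m ≫ ρ).hom := by
    rw [h2]
    intro z
    obtain ⟨a, ha⟩ := hρ₀s z
    obtain ⟨b, hb⟩ := (ConcreteCategory.bijective_of_isIso (Y.residueFieldCongr e).hom).2 a
    exact ⟨b, by rw [CommRingCat.hom_comp, RingHom.comp_apply]; erw [hb]; exact ha⟩
  have hρinj : Function.Injective ρ.hom := ρ.hom.injective
  have hmbij : Function.Bijective m.hom := by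
    refine ⟨m.hom.injective, fun b => ?_⟩
    obtain ⟨a, ha⟩ := hsurj (ρ.hom b)
    exact ⟨a, hρinj ha⟩
  exact (ConcreteCategory.isIso_iff_bijective m).mpr hmbij

/-- For a surjective ring map `φ : R → K` onto a field, the induced map from the residue field of
the image point of `Spec K → Spec R` to `K` is surjective. -/
theorem surjective_descResidueField_SpecMap {R : CommRingCat.{u}} (K : Type u) [Field K]
    (φ : R ⟶ .of K) (hφ : Function.Surjective φ.hom) :
    Function.Surjective
      ((Spec R).descResidueField (Scheme.stalkClosedPointTo (Spec.map φ))).hom := by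
  intro z
  obtain ⟨a, rfl⟩ := hφ z
  have h1 := Scheme.germ_stalkClosedPointTo_Spec φ
  have h2 := Scheme.residue_descResidueField (Scheme.stalkClosedPointTo (Spec.map φ))
  refine ⟨((Spec R).residue _).hom (((Spec R).presheaf.germ ⊤ _ trivial).hom
    ((Scheme.ΓSpecIso R).inv.hom a)), ?_⟩
  have h3 : ((Spec R).presheaf.germ ⊤ _ trivial ≫ (Spec R).residue _ ≫
      (Spec R).descResidueField (Scheme.stalkClosedPointTo (Spec.map φ))) =
      (Scheme.ΓSpecIso R).hom ≫ φ := by
    rw [h2, h1]
  have h4 := congrArg (fun k => k.hom ((Scheme.ΓSpecIso R).inv.hom a)) h3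
  simp only [CommRingCat.hom_comp, RingHom.comp_apply] at h4
  rw [h4]
  have h5 : (Scheme.ΓSpecIso R).hom.hom ((Scheme.ΓSpecIso R).inv.hom a) = a := by
    rw [← RingHom.comp_apply, ← CommRingCat.hom_comp, Iso.inv_hom_id]; rfl
  rw [h5]

/-! ### Rigidity for morphisms with open diagonal -/

/-- Two morphisms into `X` over `Y` whose product lands in the (open) diagonal are equal. -/
theorem eq_of_mem_range_diagonal {X Y Z : Scheme.{u}} (f : X ⟶ Y)
    [IsOpenImmersion (pullback.diagonal f)] (a b : Z ⟶ X) (h : a ≫ f = b ≫ f)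
    (hz : ∀ z : Z, (pullback.lift a b h) z ∈ Set.range (pullback.diagonal f)) : a = b := by
  have hrange : Set.range (pullback.lift a b h) ⊆ Set.range (pullback.diagonal f) := by
    rintro _ ⟨z, rfl⟩; exact hz z
  let r := IsOpenImmersion.lift (pullback.diagonal f) (pullback.lift a b h) hrange
  have hr : r ≫ pullback.diagonal f = pullback.lift a b h := IsOpenImmersion.lift_fac _ _ _
  have ha : a = r := by
    have := congrArg (· ≫ pullback.fst f f) hr
    simp only [Category.assoc, pullback.diagonal_fst, Category.comp_id, pullback.lift_fst] at this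
    exact this.symm
  have hb : b = r := by
    have := congrArg (· ≫ pullback.snd f f) hr
    simp only [Category.assoc, pullback.diagonal_snd, Category.comp_id, pullback.lift_snd] at this
    exact this.symm
  rw [ha, hb]

/-! ### Sections and points of the closed fibre -/

/-- Over a henselian local ring `R` with residue field `k`, sections of an étale `R`-scheme
correspond bijectively to its `k`-points. -/
theorem existsUnique_section_of_point (R : Type u) [CommRing R] [HenselianLocalRing R]
    {X : Scheme.{u}} (f : X ⟶ Spec (CommRingCat.of R)) [Etale f]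
    (t : Spec (CommRingCat.of (IsLocalRing.ResidueField R)) ⟶ X)
    (ht : t ≫ f = Spec.map (CommRingCat.ofHom (IsLocalRing.residue R))) :
    ∃! s : Spec (CommRingCat.of R) ⟶ X,
      s ≫ f = 𝟙 (Spec (CommRingCat.of R)) ∧
        Spec.map (CommRingCat.ofHom (IsLocalRing.residue R)) ≫ s = t := by
  obtain ⟨ι, hι⟩ : ∃ ι : Spec (CommRingCat.of (IsLocalRing.ResidueField R)) ⟶
      Spec (CommRingCat.of R), ι = Spec.map (CommRingCat.ofHom (IsLocalRing.residue R)) := ⟨_, rfl⟩
  rw [← hι] at ht ⊢
  have hpt : ∀ z : ↥(Spec (CommRingCat.of (IsLocalRing.ResidueField R))),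
      z = IsLocalRing.closedPoint (IsLocalRing.ResidueField R) := fun z =>
    Subsingleton.elim (α := PrimeSpectrum (IsLocalRing.ResidueField R)) _ _
  have hιc : ∀ z, ι z = IsLocalRing.closedPoint R := by
    intro z
    rw [hι]
    apply PrimeSpectrum.ext
    change Ideal.comap (IsLocalRing.residue R) z.asIdeal = IsLocalRing.maximalIdeal R
    have hz : z.asIdeal = ⊥ := by
      rw [hpt z]
      exact (IsLocalRing.isField_iff_maximalIdeal_eq.mp (Field.toIsField _))
    rw [hz, ← RingHom.ker_eq_comap_bot, IsLocalRing.ker_residue]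
  have hiso : IsIso (f.residueFieldMap
      (t (IsLocalRing.closedPoint (IsLocalRing.ResidueField R)))) := by
    refine isIso_residueFieldMap_of_section' f (IsLocalRing.ResidueField R) ι ?_ t ht
    rw [hι]
    exact surjective_descResidueField_SpecMap (IsLocalRing.ResidueField R)
      (CommRingCat.ofHom (IsLocalRing.residue R)) IsLocalRing.residue_surjective
  obtain ⟨x, hx⟩ : ∃ x : X, x = t (IsLocalRing.closedPoint (IsLocalRing.ResidueField R)) :=
    ⟨_, rfl⟩
  rw [← hx] at hiso
  have htx : ∀ z, t z = x := fun z => by rw [hx, hpt z]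
  have hfx : f x = IsLocalRing.closedPoint R := by
    rw [hx, ← Scheme.Hom.comp_apply, ht, hιc]
  obtain ⟨σ, hσ, hσx⟩ := exists_section_of_henselian R f x hfx hiso
  have hισ : ι ≫ σ = t := by
    refine eq_of_mem_range_diagonal f (ι ≫ σ) t (by rw [Category.assoc, hσ, Category.comp_id, ht])
      fun z => ⟨x, ?_⟩
    symm
    apply eq_of_fst_eq_of_snd_eq f f
    · rw [← Scheme.Hom.comp_apply, pullback.lift_fst, ← Scheme.Hom.comp_apply,
        pullback.diagonal_fst, Scheme.Hom.comp_apply, hιc, hσx]
      rfl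
    · rw [← Scheme.Hom.comp_apply, pullback.lift_snd, ← Scheme.Hom.comp_apply,
        pullback.diagonal_snd, htx]
      rfl
    · have h1 : pullback.snd f f (pullback.diagonal f x) = x := by
        rw [← Scheme.Hom.comp_apply, pullback.diagonal_snd]; rfl
      rw [h1]; exact hiso
  refine ⟨σ, ⟨hσ, hισ⟩, fun s' ⟨hs', hιs'⟩ => ?_⟩
  refine eq_of_mem_range_diagonal f s' σ (hs'.trans hσ.symm) ?_
  have hopen : IsOpen ((pullback.lift s' σ (hs'.trans hσ.symm)) ⁻¹'
      Set.range (pullback.diagonal f)) :=
    (pullback.diagonal f).isOpenEmbedding.isOpen_range.preimage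
      (pullback.lift s' σ (hs'.trans hσ.symm)).continuous
  let O : TopologicalSpace.Opens (PrimeSpectrum R) := ⟨_, hopen⟩
  have hcO : IsLocalRing.closedPoint R ∈ O := by
    change (pullback.lift s' σ (hs'.trans hσ.symm)) (IsLocalRing.closedPoint R) ∈
      Set.range (pullback.diagonal f)
    rw [← hιc (IsLocalRing.closedPoint (IsLocalRing.ResidueField R)), ← Scheme.Hom.comp_apply]
    have h2 : ι ≫ pullback.lift s' σ (hs'.trans hσ.symm) = t ≫ pullback.diagonal f := by
      apply pullback.hom_ext
      · rw [Category.assoc, pullback.lift_fst, Category.assoc, pullback.diagonal_fst,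
          Category.comp_id, hιs']
      · rw [Category.assoc, pullback.lift_snd, Category.assoc, pullback.diagonal_snd,
          Category.comp_id, hισ]
    rw [h2, Scheme.Hom.comp_apply]
    exact ⟨_, rfl⟩
  have hO : O = ⊤ := IsLocalRing.closed_point_mem_iff.mp hcO
  intro z
  have : z ∈ O := by rw [hO]; trivial
  exact this

/-! ### Characterisation of strictly henselian local rings by sections -/

theorem isSepClosed_of_ringEquiv {K₁ K₂ : Type*} [Field K₁] [Field K₂] (e : K₁ ≃+* K₂)
    [IsSepClosed K₂] : IsSepClosed K₁ := by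
  refine IsSepClosed.of_exists_root K₁ fun p hpm hpi hps => ?_
  have hdeg : (p.map (e : K₁ →+* K₂)).degree ≠ 0 := by
    rw [Polynomial.degree_map]
    exact (Polynomial.degree_pos_of_irreducible hpi).ne'
  obtain ⟨y, hy⟩ := IsSepClosed.exists_root (p.map (e : K₁ →+* K₂)) hdeg (hps.map)
  refine ⟨e.symm y, ?_⟩
  apply e.injective
  have hy' : (p.map (e : K₁ →+* K₂)).eval y = 0 := hy
  rw [Polynomial.eval_map] at hy'
  have h2 : (e : K₁ →+* K₂) (e.symm y) = y := e.apply_symm_apply y
  rw [map_zero, ← hy', ← h2, Polynomial.eval₂_at_apply, h2]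
  rfl

open Polynomial in
theorem exists_algHom_standardEtale (A : Type u) [CommRing A] [IsLocalRing A]
    (H : ∀ (B : Type u) [CommRing B] [Algebra A B] [Algebra.Etale A B] (q : Ideal B) [q.IsPrime],
      q.comap (algebraMap A B) = IsLocalRing.maximalIdeal A →
      ∃ g : B →ₐ[A] A, (IsLocalRing.maximalIdeal A).comap g.toRingHom = q)
    (P : StandardEtalePair A) (L : Type u) [Field L] [Algebra A L]
    (hker : RingHom.ker (algebraMap A L) = IsLocalRing.maximalIdeal A) (α : L)
    (hα : P.HasMap α) :
    ∃ g : P.Ring →ₐ[A] A, ∀ z : P.Ring,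
      P.lift α hα z = 0 ↔ g z ∈ IsLocalRing.maximalIdeal A := by
  have hprime : (RingHom.ker (P.lift α hα).toRingHom).IsPrime := RingHom.ker_isPrime _
  obtain ⟨g, hg⟩ := H P.Ring (RingHom.ker (P.lift α hα).toRingHom) (by
    rw [← hker]
    ext a
    simp only [Ideal.mem_comap, RingHom.mem_ker]
    have : (P.lift α hα).toRingHom (algebraMap A P.Ring a) = algebraMap A L a :=
      (P.lift α hα).commutes a
    rw [this])
  refine ⟨g, fun z => ?_⟩
  have h1 : z ∈ (IsLocalRing.maximalIdeal A).comap g.toRingHom ↔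
      z ∈ RingHom.ker (P.lift α hα).toRingHom := by rw [hg]
  exact h1.symm

open Polynomial in
theorem henselian_sepClosed_of_sections (A : Type u) [CommRing A] [IsLocalRing A]
    (H : ∀ (B : Type u) [CommRing B] [Algebra A B] [Algebra.Etale A B] (q : Ideal B) [q.IsPrime],
      q.comap (algebraMap A B) = IsLocalRing.maximalIdeal A →
      ∃ g : B →ₐ[A] A, (IsLocalRing.maximalIdeal A).comap g.toRingHom = q) :
    HenselianLocalRing A ∧ IsSepClosed (IsLocalRing.ResidueField A) := by
  constructor
  · refine ((HenselianLocalRing.TFAE A).out 1 0).mp fun f hf a₀ h₁ h₂ => ?_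
    let P : StandardEtalePair A := ⟨f, hf, derivative f, ⟨1, 0, 1, by simp⟩⟩
    have hα : P.HasMap a₀ := ⟨h₁, isUnit_iff_ne_zero.mpr h₂⟩
    have hker : RingHom.ker (algebraMap A (IsLocalRing.ResidueField A)) =
        IsLocalRing.maximalIdeal A := IsLocalRing.ker_residue
    obtain ⟨g, hg⟩ := exists_algHom_standardEtale A H P (IsLocalRing.ResidueField A) hker a₀ hα
    refine ⟨g P.X, ?_, ?_⟩
    · have h3 : aeval (g P.X) P.f = 0 := (StandardEtalePair.hasMap_X.map g).1
      rw [Polynomial.IsRoot.def, ← Polynomial.coe_aeval_eq_eval]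
      exact h3
    · obtain ⟨b, hb⟩ := IsLocalRing.residue_surjective a₀
      have h4 : P.lift a₀ hα (P.X - algebraMap A P.Ring b) = 0 := by
        rw [map_sub, StandardEtalePair.lift_X, AlgHom.commutes, ← hb]
        exact sub_self _
      have h5 := (hg _).mp h4
      rw [map_sub, AlgHom.commutes] at h5
      rw [← hb]
      rw [← sub_eq_zero, ← map_sub, IsLocalRing.residue_eq_zero_iff]
      exact h5
  · refine IsSepClosed.of_exists_root _ fun pb hpm hpi hps => ?_
    obtain ⟨p, hp, -, hpmonic⟩ := Polynomial.lifts_and_degree_eq_and_monic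
      (Polynomial.mem_lifts_of_surjective IsLocalRing.residue_surjective pb) hpm
    have : Fact (Irreducible pb) := ⟨hpi⟩
    let L := AdjoinRoot pb
    letI : Algebra A L :=
      ((algebraMap (IsLocalRing.ResidueField A) L).comp (IsLocalRing.residue A)).toAlgebra
    have hAL : ∀ a : A, algebraMap A L a =
        algebraMap (IsLocalRing.ResidueField A) L (IsLocalRing.residue A a) := fun a => rfl
    have hker : RingHom.ker (algebraMap A L) = IsLocalRing.maximalIdeal A := by
      ext a
      rw [RingHom.mem_ker, hAL, ← IsLocalRing.residue_eq_zero_iff]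
      exact map_eq_zero_iff _ (RingHom.injective (algebraMap (IsLocalRing.ResidueField A) L))
    let P : StandardEtalePair A := ⟨p, hpmonic, derivative p, ⟨1, 0, 1, by simp⟩⟩
    have haeval : ∀ r : A[X], aeval (AdjoinRoot.root pb) r =
        aeval (AdjoinRoot.root pb) (r.map (IsLocalRing.residue A)) := by
      intro r
      rw [Polynomial.aeval_def, Polynomial.aeval_def, Polynomial.eval₂_map]
      rfl
    have hα : P.HasMap (AdjoinRoot.root pb) := by
      constructor
      · change aeval (AdjoinRoot.root pb) p = 0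
        rw [haeval, hp, AdjoinRoot.aeval_eq, AdjoinRoot.mk_self]
      · change IsUnit (aeval (AdjoinRoot.root pb) (derivative p))
        rw [haeval, ← Polynomial.derivative_map, hp, isUnit_iff_ne_zero]
        apply hps.aeval_derivative_ne_zero
        rw [AdjoinRoot.aeval_eq, AdjoinRoot.mk_self]
    obtain ⟨g, -⟩ := exists_algHom_standardEtale A H P L hker (AdjoinRoot.root pb) hα
    refine ⟨IsLocalRing.residue A (g P.X), ?_⟩
    have h3 : aeval (g P.X) P.f = 0 := (StandardEtalePair.hasMap_X.map g).1
    have h4 : p.eval (g P.X) = 0 := by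
      rw [← Polynomial.coe_aeval_eq_eval]; exact h3
    rw [← hp, Polynomial.eval_map, Polynomial.eval₂_at_apply, h4, map_zero]

theorem specMap_residue_apply (R : Type u) [CommRing R] [IsLocalRing R]
    (z : ↥(Spec (CommRingCat.of (IsLocalRing.ResidueField R)))) :
    (Spec.map (CommRingCat.ofHom (IsLocalRing.residue R))) z = IsLocalRing.closedPoint R := by
  have hpt : z = IsLocalRing.closedPoint (IsLocalRing.ResidueField R) :=
    Subsingleton.elim (α := PrimeSpectrum (IsLocalRing.ResidueField R)) _ _
  apply PrimeSpectrum.ext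
  change Ideal.comap (IsLocalRing.residue R) z.asIdeal = IsLocalRing.maximalIdeal R
  have hz : z.asIdeal = ⊥ := by
    rw [hpt]
    exact (IsLocalRing.isField_iff_maximalIdeal_eq.mp (Field.toIsField _))
  rw [hz, ← RingHom.ker_eq_comap_bot, IsLocalRing.ker_residue]

/-- Over a strictly henselian local ring, every point of the closed fibre of an étale scheme lies
on a section. -/
theorem exists_section_of_strictlyHenselian (A : Type u) [CommRing A] [HenselianLocalRing A]
    [IsSepClosed (IsLocalRing.ResidueField A)] {X : Scheme.{u}}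
    (f : X ⟶ Spec (CommRingCat.of A)) [Etale f] (x : X)
    (hx : f x = IsLocalRing.closedPoint A) :
    ∃ σ : Spec (CommRingCat.of A) ⟶ X, σ ≫ f = 𝟙 _ ∧ σ (IsLocalRing.closedPoint A) = x := by
  refine exists_section_of_henselian A f x hx ?_
  obtain ⟨ι, hι⟩ : ∃ ι : Spec (CommRingCat.of (IsLocalRing.ResidueField A)) ⟶
      Spec (CommRingCat.of A), ι = Spec.map (CommRingCat.ofHom (IsLocalRing.residue A)) := ⟨_, rfl⟩
  have hρ₀ : Function.Surjective ((Spec (CommRingCat.of A)).descResidueField
      (Scheme.stalkClosedPointTo ι)).hom := by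
    rw [hι]
    exact surjective_descResidueField_SpecMap (IsLocalRing.ResidueField A)
      (CommRingCat.ofHom (IsLocalRing.residue A)) IsLocalRing.residue_surjective
  have h : f x = ι (IsLocalRing.closedPoint (IsLocalRing.ResidueField A)) := by
    rw [hx, hι, specMap_residue_apply]
  obtain ⟨ρ₀, hρ₀s⟩ : ∃ ρ₀ : (Spec (CommRingCat.of A)).residueField
      (ι (IsLocalRing.closedPoint (IsLocalRing.ResidueField A))) ⟶
      CommRingCat.of (IsLocalRing.ResidueField A), Function.Surjective ρ₀.hom := ⟨_, hρ₀⟩
  let ε : (Spec (CommRingCat.of A)).residueField (f x) →+* IsLocalRing.ResidueField A :=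
    ρ₀.hom.comp ((Spec (CommRingCat.of A)).residueFieldCongr h).hom.hom
  have hεsurj : Function.Surjective ε := by
    intro z
    obtain ⟨a, ha⟩ := hρ₀s z
    obtain ⟨b, hb⟩ := (ConcreteCategory.bijective_of_isIso
      ((Spec (CommRingCat.of A)).residueFieldCongr h).hom).2 a
    exact ⟨b, by
      change ρ₀.hom (((Spec (CommRingCat.of A)).residueFieldCongr h).hom.hom b) = z
      erw [hb]; exact ha⟩
  have : IsSepClosed ((Spec (CommRingCat.of A)).residueField (f x)) :=
    isSepClosed_of_ringEquiv (RingEquiv.ofBijective ε ⟨ε.injective, hεsurj⟩)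
  letI := (f.residueFieldMap x).hom.toAlgebra
  have hbij : Function.Bijective (f.residueFieldMap x).hom :=
    IsSepClosed.algebraMap_bijective ((Spec (CommRingCat.of A)).residueField (f x))
      (X.residueField x)
  exact (ConcreteCategory.isIso_iff_bijective _).mpr hbij

end Groth.Agent.Lib.Helper7.HensSection
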