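import Groth.Prelude.Def_MoreMor
import Groth.Agent.Lib.Helper7.FormallyEtaleLift
import Mathlib.RingTheory.Smooth.Basic

set_option autoImplicit false

namespace Groth.Agent.Lib.Helper7

open AlgebraicGeometry CategoryTheory Limits TopologicalSpace

universe u

/-- Scheme-level lifting against affine first order thickenings gives ring-level formal
smoothness on all pairs of affine opens. -/
theorem ringLevel_of_isFormallySmoothHom {X Y : Scheme.{u}} (f : X ⟶ Y)
    (hf : MoreMor.IsFormallySmoothHom f)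
    (U : X.Opens) (V : Y.Opens) (hU : IsAffineOpen U) (hV : IsAffineOpen V) (hUV : U ≤ f ⁻¹ᵁ V) :
    letI := (f.appLE V U hUV).hom.toAlgebra
    Algebra.FormallySmooth Γ(Y, V) Γ(X, U) := by
  letI := (f.appLE V U hUV).hom.toAlgebra
  refine Algebra.FormallySmooth.of_comp_surjective ?_
  intro B _ _ I hI
  have hψ : hU.fromSpec ≫ f = Spec.map (f.appLE V U hUV) ≫ hV.fromSpec :=
    (IsAffineOpen.SpecMap_appLE_fromSpec f hV hU hUV).symm
  have hsurj : Function.Surjective (Spec.map (CommRingCat.ofHom (Ideal.Quotient.mk I))) :=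
    SpecMap_surjective_of_ker_le_nilradical _ Ideal.Quotient.mk_surjective (by
      rw [CommRingCat.hom_ofHom, Ideal.mk_ker]; exact ker_le_nilradical_of_sq_eq_bot I hI)
  let b : Spec (CommRingCat.of B) ⟶ Y :=
    Spec.map (CommRingCat.ofHom (algebraMap Γ(Y, V) B)) ≫ hV.fromSpec
  have key : ∀ g : Γ(X, U) →ₐ[Γ(Y, V)] B ⧸ I,
      Spec.map (CommRingCat.ofHom (Ideal.Quotient.mk I)) ≫ b =
        (Spec.map (CommRingCat.ofHom g.toRingHom) ≫ hU.fromSpec) ≫ f := by
    intro g
    simp only [b, Category.assoc]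
    rw [hψ, ← Spec.map_comp_assoc, ← Spec.map_comp_assoc]
    congr 2
    ext x
    simp only [CommRingCat.hom_comp, CommRingCat.hom_ofHom, RingHom.coe_comp, Function.comp_apply]
    have := g.commutes x
    rw [RingHom.algebraMap_toAlgebra] at this
    rw [AlgHom.toRingHom_eq_coe, RingHom.coe_coe, this]
    rfl
  intro g
  obtain ⟨l, hl1, hl2⟩ := hf B I hI _ b (key g)
  have hrange : Set.range l ⊆ (U : Set X) := by
    rintro _ ⟨p, rfl⟩
    obtain ⟨q, rfl⟩ := hsurj p
    rw [← Scheme.Hom.comp_apply, hl1, Scheme.Hom.comp_apply]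
    have : hU.fromSpec (Spec.map (CommRingCat.ofHom g.toRingHom) q) ∈ Set.range hU.fromSpec :=
      ⟨_, rfl⟩
    rwa [hU.range_fromSpec] at this
  obtain ⟨γ, rfl⟩ := exists_SpecMap_comp_fromSpec hU l hrange
  have hγ1 : γ ≫ CommRingCat.ofHom (Ideal.Quotient.mk I) = CommRingCat.ofHom g.toRingHom := by
    rw [← Spec.map_comp_assoc, cancel_mono, Spec.map_inj] at hl1
    exact hl1
  have hγ2 : f.appLE V U hUV ≫ γ = CommRingCat.ofHom (algebraMap Γ(Y, V) B) := by
    simp only [b, Category.assoc] at hl2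
    rw [hψ, ← Spec.map_comp_assoc, cancel_mono, Spec.map_inj] at hl2
    exact hl2
  refine ⟨⟨γ.hom, fun r => ?_⟩, ?_⟩
  · have := congr($(hγ2).hom r)
    simpa [RingHom.algebraMap_toAlgebra] using this
  · ext x
    exact congr($(hγ1).hom x)

end Groth.Agent.Lib.Helper7
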