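import Mathlib.AlgebraicGeometry.Morphisms.SchemeTheoreticallyDominant
import Mathlib.AlgebraicGeometry.Morphisms.Separated
import Mathlib.CategoryTheory.Monoidal.Cartesian.Over
import Mathlib.Algebra.Category.Ring.Constructions
import Mathlib.RingTheory.TensorProduct.Maps
import Mathlib.CategoryTheory.ConcreteCategory.EpiMono

/-!
# Scheme-theoretic dominance of base changes of split injections

If `b : A' ⟶ A` is a morphism of affine schemes over an affine scheme `Z` whose map on global
sections has an additive, `Γ(Z)`-linear retraction, then for every `c : S ⟶ Z` and every `T` over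
`S`, the morphism `(c^* b) ▷ T` is scheme-theoretically dominant.  Consequences: uniqueness of
extensions to separated targets (`ext_of_isSchemeTheoreticallyDominant`) and factorisation through
closed immersions (`exists_fac_of_isSchemeTheoreticallyDominant`).
-/

set_option autoImplicit false
set_option linter.unusedSectionVars false
set_option linter.style.haveILetI false

namespace Groth.Agent.Lib.Helper7.SchDominant

universe u
open CategoryTheory Limits TensorProduct AlgebraicGeometry MonoidalCategory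
  CartesianMonoidalCategory

theorem tensorMap_injective_of_retraction {K B B' C : Type u} [CommRing K] [CommRing B]
    [CommRing B'] [CommRing C] [Algebra K B] [Algebra K B'] [Algebra K C] (β : B →ₐ[K] B')
    (ρ : B' →ₗ[K] B) (hρ : ∀ b, ρ (β b) = b) :
    Function.Injective (Algebra.TensorProduct.map β (AlgHom.id K C)) := by
  have key : ∀ x : B ⊗[K] C,
      LinearMap.rTensor C ρ (Algebra.TensorProduct.map β (AlgHom.id K C) x) = x := by
    intro x
    induction x using TensorProduct.induction_on with
    | zero => simp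
    | tmul b c => simp [hρ]
    | add x y hx hy => rw [map_add, map_add, hx, hy]
  exact Function.LeftInverse.injective key

theorem injective_of_isPushout {K B B' C Q Q' : CommRingCat.{u}} {f : K ⟶ B} {g : K ⟶ C}
    {inl : B ⟶ Q} {inr : C ⟶ Q} {f' : K ⟶ B'} {inl' : B' ⟶ Q'} {inr' : C ⟶ Q'}
    (H : IsPushout f g inl inr) (H' : IsPushout f' g inl' inr')
    (β : B ⟶ B') (hβ : f ≫ β = f') (q : Q ⟶ Q') (hql : inl ≫ q = β ≫ inl')
    (hqr : inr ≫ q = inr')
    (ρ : B' →+ B) (hρlin : ∀ k b', ρ (f'.hom k * b') = f.hom k * ρ b')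
    (hρ : ∀ b, ρ (β.hom b) = b) :
    Function.Injective q.hom := by
  algebraize [f.hom, g.hom, f'.hom]
  let βₐ : B →ₐ[K] B' := ⟨β.hom, fun k => by
    simp only [RingHom.algebraMap_toAlgebra]
    exact congr($(hβ).hom k)⟩
  let ρₗ : B' →ₗ[K] B := ⟨ρ, fun k b' => by
    simp only [Algebra.smul_def, RingHom.algebraMap_toAlgebra]
    exact hρlin k b'⟩
  have hτ := tensorMap_injective_of_retraction (C := C) βₐ ρₗ hρ
  let e := (CommRingCat.isPushout_tensorProduct K B C).isoIsPushout _ _ H
  let e' := (CommRingCat.isPushout_tensorProduct K B' C).isoIsPushout _ _ H'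
  let τ : CommRingCat.of (B ⊗[K] C) ⟶ CommRingCat.of (B' ⊗[K] C) :=
    CommRingCat.ofHom (Algebra.TensorProduct.map βₐ (AlgHom.id K C)).toRingHom
  have he1 : CommRingCat.ofHom (Algebra.TensorProduct.includeLeftRingHom (R := K) (A := B) (B := C))
      ≫ e.hom = inl := IsPushout.inl_isoIsPushout_hom _ _ _ _
  have he2 : CommRingCat.ofHom (Algebra.TensorProduct.includeRight (R := K) (A := B) (B := C)).toRingHom
      ≫ e.hom = inr := IsPushout.inr_isoIsPushout_hom _ _ _ _
  have he1' : CommRingCat.ofHom
      (Algebra.TensorProduct.includeLeftRingHom (R := K) (A := B') (B := C)) ≫ e'.hom = inl' :=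
    IsPushout.inl_isoIsPushout_hom _ _ _ _
  have he2' : CommRingCat.ofHom
      (Algebra.TensorProduct.includeRight (R := K) (A := B') (B := C)).toRingHom ≫ e'.hom = inr' :=
    IsPushout.inr_isoIsPushout_hom _ _ _ _
  have hcomm : e.hom ≫ q = τ ≫ e'.hom := by
    apply (CommRingCat.isPushout_tensorProduct K B C).hom_ext
    · rw [reassoc_of% he1, hql]
      have : CommRingCat.ofHom (Algebra.TensorProduct.includeLeftRingHom (R := K) (A := B) (B := C)) ≫ τ =
          β ≫ CommRingCat.ofHom (Algebra.TensorProduct.includeLeftRingHom (R := K) (A := B') (B := C)) := by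
        ext x
        simp [τ, βₐ]
      rw [reassoc_of% this, he1']
    · rw [reassoc_of% he2, hqr]
      have : CommRingCat.ofHom (Algebra.TensorProduct.includeRight (R := K) (A := B) (B := C)).toRingHom ≫ τ =
          CommRingCat.ofHom (Algebra.TensorProduct.includeRight (R := K) (A := B') (B := C)).toRingHom := by
        ext x
        simp [τ]
      rw [reassoc_of% this, he2']
  have hq : q = e.inv ≫ τ ≫ e'.hom := by rw [← hcomm, Iso.inv_hom_id_assoc]
  rw [hq]
  have h1 : Function.Injective e'.hom.hom := (ConcreteCategory.bijective_of_isIso e'.hom).1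
  have h2 : Function.Injective e.inv.hom := (ConcreteCategory.bijective_of_isIso e.inv).1
  have h3 : Function.Injective τ.hom := hτ
  intro x y hxy
  simp only [CommRingCat.hom_comp, RingHom.coe_comp, Function.comp_apply] at hxy
  exact h2 (h3 (h1 hxy))

/-- Affine case, at the level of schemes. -/
theorem isSchemeTheoreticallyDominant_of_affine {Z A A' T P P' : Scheme.{u}} [IsAffine Z]
    [IsAffine A] [IsAffine A'] [IsAffine T] {a : A ⟶ Z} {a' : A' ⟶ Z} (b : A' ⟶ A)
    (hb : b ≫ a = a') {t : T ⟶ Z} {fst : P ⟶ A} {snd : P ⟶ T} {fst' : P' ⟶ A'} {snd' : P' ⟶ T}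
    (H : IsPullback fst snd a t) (H' : IsPullback fst' snd' a' t) (u : P' ⟶ P)
    (hu1 : u ≫ fst = fst' ≫ b) (hu2 : u ≫ snd = snd')
    (ρ : Γ(A', ⊤) →+ Γ(A, ⊤))
    (hρlin : ∀ k b', ρ (a'.appTop.hom k * b') = a.appTop.hom k * ρ b')
    (hρ : ∀ x, ρ (b.appTop.hom x) = x) :
    IsSchemeTheoreticallyDominant u := by
  have hP : IsAffine P := IsAffine.of_isPullback H
  have hP' : IsAffine P' := IsAffine.of_isPullback H'
  have hinj : Function.Injective u.appTop.hom := by
    refine injective_of_isPushout (isPushout_appTop_of_isPullback H)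
      (isPushout_appTop_of_isPullback H') b.appTop ?_ u.appTop ?_ ?_ ρ hρlin hρ
    · rw [← Scheme.Hom.comp_appTop, hb]
    · rw [← Scheme.Hom.comp_appTop, ← Scheme.Hom.comp_appTop, hu1]
    · rw [← Scheme.Hom.comp_appTop, hu2]
  rw [isSchemeTheoreticallyDominant_iff]
  apply Scheme.IdealSheafData.ext_of_isAffine
  rw [Scheme.Hom.ker_apply, Scheme.IdealSheafData.ideal_bot, Pi.bot_apply]
  exact (RingHom.injective_iff_ker_eq_bot _).mp hinj

section OverLevel

variable {Z S : Scheme.{u}} [IsAffine Z] {A A' : Over Z} [IsAffine A.left] [IsAffine A'.left]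
  (b : A' ⟶ A) (c : S ⟶ Z)

theorem isPullback_bc_tensor (A : Over Z) (c : S ⟶ Z) (T : Over S) :
    IsPullback (pullback.fst ((Over.pullback c).obj A).hom T.hom ≫ pullback.fst A.hom c)
      (pullback.snd ((Over.pullback c).obj A).hom T.hom) A.hom (T.hom ≫ c) :=
  IsPullback.paste_horiz (IsPullback.of_hasPullback ((Over.pullback c).obj A).hom T.hom)
    (IsPullback.of_hasPullback A.hom c)

theorem isSchemeTheoreticallyDominant_whiskerRight_of_isAffine
    (ρ : Γ(A'.left, ⊤) →+ Γ(A.left, ⊤))
    (hρlin : ∀ k b', ρ (A'.hom.appTop.hom k * b') = A.hom.appTop.hom k * ρ b')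
    (hρ : ∀ x, ρ (b.left.appTop.hom x) = x) (T : Over S) [IsAffine T.left] :
    IsSchemeTheoreticallyDominant (((Over.pullback c).map b) ▷ T).left := by
  refine isSchemeTheoreticallyDominant_of_affine b.left (Over.w b)
    (isPullback_bc_tensor A c T) (isPullback_bc_tensor A' c T) _ ?_ ?_ ρ hρlin hρ
  · rw [Over.whiskerRight_left_fst_assoc, Category.assoc]
    congr 1
    simp only [Over.pullback_obj_left, Over.pullback_map_left]
    exact pullback.lift_fst _ _ _
  · exact Over.whiskerRight_left_snd _

end OverLevel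

section General

theorem exists_of_isPullback' {P X Y Z : Scheme.{u}} {fst' : P ⟶ X} {snd' : P ⟶ Y} {f : X ⟶ Z}
    {g : Y ⟶ Z} (h : IsPullback fst' snd' f g) (x : X) (y : Y) (hxy : f x = g y) :
    ∃ p : P, fst' p = x ∧ snd' p = y := by
  obtain ⟨z, hz1, hz2⟩ := Scheme.Pullback.exists_preimage_pullback x y hxy
  refine ⟨h.isoPullback.inv z, ?_, ?_⟩
  · have : (h.isoPullback.inv ≫ fst') z = x := by rw [h.isoPullback_inv_fst]; exact hz1
    exact this
  · have : (h.isoPullback.inv ≫ snd') z = y := by rw [h.isoPullback_inv_snd]; exact hz2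
    exact this

theorem isPullback_whiskerLeft_snd {S : Scheme.{u}} (X : Over S) {Y Z : Over S} (f : Y ⟶ Z) :
    IsPullback (X ◁ f).left (snd X Y).left (snd X Z).left f.left := by
  have hright : IsPullback (pullback.fst X.hom Z.hom) (pullback.snd X.hom Z.hom) X.hom Z.hom :=
    IsPullback.of_hasPullback _ _
  have houter : IsPullback ((X ◁ f).left ≫ pullback.fst X.hom Z.hom) (pullback.snd X.hom Y.hom)
      X.hom (f.left ≫ Z.hom) := by
    rw [Over.whiskerLeft_left_fst, Over.w f]
    exact IsPullback.of_hasPullback _ _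
  exact IsPullback.of_right houter (Over.whiskerLeft_left_snd f) hright

theorem isPullback_whisker_exchange {S : Scheme.{u}} {X X' : Over S} (m : X' ⟶ X) {T₀ T : Over S}
    (ι : T₀ ⟶ T) :
    IsPullback (m ▷ T₀).left (X' ◁ ι).left (X ◁ ι).left (m ▷ T).left := by
  have hbig : IsPullback (X' ◁ ι).left ((m ▷ T₀).left ≫ (snd X T₀).left)
      ((m ▷ T).left ≫ (snd X T).left) ι.left := by
    have e1 : (m ▷ T₀).left ≫ (snd X T₀).left = (snd X' T₀).left := Over.whiskerRight_left_snd _
    have e2 : (m ▷ T).left ≫ (snd X T).left = (snd X' T).left := Over.whiskerRight_left_snd _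
    rw [e1, e2]
    exact isPullback_whiskerLeft_snd X' ι
  have hw : (X' ◁ ι).left ≫ (m ▷ T).left = (m ▷ T₀).left ≫ (X ◁ ι).left := by
    rw [← Over.comp_left, ← Over.comp_left, whisker_exchange]
  exact (IsPullback.of_bot hbig hw (isPullback_whiskerLeft_snd X ι)).flip

/-- Scheme-theoretic dominance of `m ▷ T` can be checked for affine `T`, when the source and target
of `m` are affine over the base. -/
theorem isSchemeTheoreticallyDominant_whiskerRight_of_forall_isAffine {S : Scheme.{u}}
    {X X' : Over S} [IsAffineHom X.hom] [IsAffineHom X'.hom] (m : X' ⟶ X)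
    (hdom : ∀ T : Over S, IsAffine T.left → IsSchemeTheoreticallyDominant (m ▷ T).left)
    (T : Over S) : IsSchemeTheoreticallyDominant (m ▷ T).left := by
  let 𝒰 := T.left.affineCover
  let Ti : 𝒰.I₀ → Over S := fun i => Over.mk (𝒰.f i ≫ T.hom)
  let ι : ∀ i, Ti i ⟶ T := fun i => Over.homMk (𝒰.f i) rfl
  have hTi : ∀ i, IsAffine (Ti i).left := fun i => (inferInstance : IsAffine (𝒰.X i))
  have haff : ∀ i, IsAffine (X ⊗ Ti i).left := fun i =>
    haveI := hTi i
    (inferInstance : IsAffine (pullback X.hom (Ti i).hom))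
  have hopen : ∀ i, IsOpenImmersion (X ◁ ι i).left := fun i =>
    MorphismProperty.of_isPullback (P := @IsOpenImmersion)
      (isPullback_whiskerLeft_snd X (ι i)).flip (inferInstanceAs (IsOpenImmersion (𝒰.f i)))
  have hsndX : IsAffineHom (snd X T).left := by
    have : IsAffineHom (pullback.snd X.hom T.hom) :=
      MorphismProperty.of_isPullback (IsPullback.of_hasPullback X.hom T.hom) ‹IsAffineHom X.hom›
    exact this
  have hsndX' : IsAffineHom (snd X' T).left := by
    have : IsAffineHom (pullback.snd X'.hom T.hom) :=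
      MorphismProperty.of_isPullback (IsPullback.of_hasPullback X'.hom T.hom) ‹IsAffineHom X'.hom›
    exact this
  have hqc : QuasiCompact (m ▷ T).left := by
    haveI : IsAffineHom ((m ▷ T).left ≫ (snd X T).left) := by
      have e2 : (m ▷ T).left ≫ (snd X T).left = (snd X' T).left := Over.whiskerRight_left_snd _
      rw [e2]
      exact hsndX'
    haveI : IsAffineHom (m ▷ T).left := IsAffineHom.of_comp (m ▷ T).left (snd X T).left
    infer_instance
  rw [isSchemeTheoreticallyDominant_iff]
  refine Scheme.IdealSheafData.ext_of_iSup_eq_top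
    (fun i => ⟨(X ◁ ι i).left ''ᵁ ⊤, (isAffineOpen_top _).image_of_isOpenImmersion _⟩) ?_ ?_
  · rw [eq_top_iff]
    intro x _
    obtain ⟨i, t, ht⟩ := 𝒰.exists_eq ((snd X T).left x)
    obtain ⟨p, hp, -⟩ := exists_of_isPullback' (isPullback_whiskerLeft_snd X (ι i)) x t ht.symm
    rw [TopologicalSpace.Opens.mem_iSup]
    exact ⟨i, p, trivial, hp⟩
  · intro i
    have h := Scheme.ker_ideal_of_isPullback_of_isOpenImmersion (m ▷ T).left
      (m ▷ Ti i).left (X' ◁ ι i).left (X ◁ ι i).left (isPullback_whisker_exchange m (ι i))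
      ⟨⊤, isAffineOpen_top _⟩
    rw [(hdom (Ti i) (hTi i)).ker_eq_bot] at h
    rw [Scheme.IdealSheafData.ideal_bot, Pi.bot_apply, eq_bot_iff]
    intro y hy
    have hbij := ConcreteCategory.bijective_of_isIso ((X ◁ ι i).left.appIso ⊤).inv
    obtain ⟨y', rfl⟩ := hbij.2 y
    have : y' ∈ (⊥ : Ideal _) := by
      rw [Scheme.IdealSheafData.ideal_bot, Pi.bot_apply] at h
      rw [h]
      exact hy
    rw [Ideal.mem_bot] at this
    rw [this, map_zero]
    exact Ideal.zero_mem _

end General

section Final

theorem isSchemeTheoreticallyDominant_whiskerRight_bc {Z S : Scheme.{u}} [IsAffine Z]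
    {A A' : Over Z} [IsAffine A.left] [IsAffine A'.left] (b : A' ⟶ A) (c : S ⟶ Z)
    (ρ : Γ(A'.left, ⊤) →+ Γ(A.left, ⊤))
    (hρlin : ∀ k b', ρ (A'.hom.appTop.hom k * b') = A.hom.appTop.hom k * ρ b')
    (hρ : ∀ x, ρ (b.left.appTop.hom x) = x) (T : Over S) :
    IsSchemeTheoreticallyDominant (((Over.pullback c).map b) ▷ T).left := by
  have h1 : IsAffineHom ((Over.pullback c).obj A).hom :=
    MorphismProperty.of_isPullback (IsPullback.of_hasPullback A.hom c)
      (inferInstance : IsAffineHom A.hom)
  have h2 : IsAffineHom ((Over.pullback c).obj A').hom :=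
    MorphismProperty.of_isPullback (IsPullback.of_hasPullback A'.hom c)
      (inferInstance : IsAffineHom A'.hom)
  exact isSchemeTheoreticallyDominant_whiskerRight_of_forall_isAffine _
    (fun T hT => isSchemeTheoreticallyDominant_whiskerRight_of_isAffine b c ρ hρlin hρ T) T

/-- A closed immersion through which a scheme-theoretically dominant morphism factors is an
isomorphism. -/
theorem isIso_of_isClosedImmersion_of_fac {P' P E : Scheme.{u}} (u : P' ⟶ P)
    [IsSchemeTheoreticallyDominant u] (e : E ⟶ P) [IsClosedImmersion e] (w : P' ⟶ E)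
    (hw : w ≫ e = u) : IsIso e := by
  rw [IsClosedImmersion.isIso_iff_ker_eq_bot, eq_bot_iff, ← u.ker_eq_bot, ← hw]
  exact Scheme.Hom.le_ker_comp w e

/-- Lemma E: morphisms to a separated `S`-scheme that agree on a scheme-theoretically dominant
morphism are equal. -/
theorem ext_of_isSchemeTheoreticallyDominant {S : Scheme.{u}} {P' P X : Over S}
    [IsSeparated X.hom] (u : P' ⟶ P) [IsSchemeTheoreticallyDominant u.left] (φ₁ φ₂ : P ⟶ X)
    (h : u ≫ φ₁ = u ≫ φ₂) : φ₁ = φ₂ := by
  have hiso : IsIso (equalizer.ι φ₁ φ₂).left :=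
    isIso_of_isClosedImmersion_of_fac u.left (equalizer.ι φ₁ φ₂).left
      (equalizer.lift u h).left (by rw [← Over.comp_left, equalizer.lift_ι])
  ext
  rw [← cancel_epi (equalizer.ι φ₁ φ₂).left, ← Over.comp_left, ← Over.comp_left,
    equalizer.condition]

/-- Lemma F: a morphism whose restriction along a scheme-theoretically dominant morphism factors
through a closed immersion factors through it. -/
theorem exists_fac_of_isSchemeTheoreticallyDominant {P' P Z Y : Scheme.{u}} (u : P' ⟶ P)
    [IsSchemeTheoreticallyDominant u] (i : Z ⟶ Y) [IsClosedImmersion i] (φ : P ⟶ Y) (v : P' ⟶ Z)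
    (h : u ≫ φ = v ≫ i) : ∃ ψ : P ⟶ Z, ψ ≫ i = φ := by
  have hiso : IsIso (pullback.fst φ i) :=
    isIso_of_isClosedImmersion_of_fac u (pullback.fst φ i) (pullback.lift u v h)
      (pullback.lift_fst _ _ _)
  refine ⟨inv (pullback.fst φ i) ≫ pullback.snd φ i, ?_⟩
  rw [Category.assoc, ← pullback.condition, IsIso.inv_hom_id_assoc]

end Final

end Groth.Agent.Lib.Helper7.SchDominant
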