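import Groth.Prelude.Def_Magnet2
import Groth.Agent.Lib.Helper7.SchDominant

set_option autoImplicit false
set_option linter.style.haveILetI false
universe u
open CategoryTheory Limits AlgebraicGeometry MonoidalCategory CartesianMonoidalCategory Opposite

namespace Groth.Agent.Lib.Helper7.MagnetDominant

open Groth.Agent.Lib.Helper7.SchDominant

/-- Bridging lemma for spectra. -/
theorem isSchemeTheoreticallyDominant_whiskerRight_bc_Spec {K B B' : CommRingCat.{u}} (φ : K ⟶ B)
    (φ' : K ⟶ B') (β : B ⟶ B') (hβ : φ ≫ β = φ') {S : Scheme.{u}} (c : S ⟶ Spec K)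
    (ρ₀ : B' →+ B) (hlin : ∀ k y, ρ₀ (φ'.hom k * y) = φ.hom k * ρ₀ y)
    (hretr : ∀ x, ρ₀ (β.hom x) = x) (T : Over S) :
    IsSchemeTheoreticallyDominant (((Over.pullback c).map
      (Over.homMk (Spec.map β) (by simp only [Over.mk_hom]; rw [← Spec.map_comp, hβ]) :
        Over.mk (Spec.map φ') ⟶ Over.mk (Spec.map φ))) ▷ T).left := by
  let ρ : Γ(Spec B', ⊤) →+ Γ(Spec B, ⊤) :=
    ((Scheme.ΓSpecIso B).inv.hom : B →+ Γ(Spec B, ⊤)).comp
      (ρ₀.comp ((Scheme.ΓSpecIso B').hom.hom : Γ(Spec B', ⊤) →+ B'))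
  have hih : ∀ (R : CommRingCat.{u}) (x : Γ(Spec R, ⊤)),
      (Scheme.ΓSpecIso R).inv.hom ((Scheme.ΓSpecIso R).hom.hom x) = x :=
    fun R x => congr($((Scheme.ΓSpecIso R).hom_inv_id).hom x)
  have hhi : ∀ (R : CommRingCat.{u}) (y : R),
      (Scheme.ΓSpecIso R).hom.hom ((Scheme.ΓSpecIso R).inv.hom y) = y :=
    fun R y => congr($((Scheme.ΓSpecIso R).inv_hom_id).hom y)
  have happ : ∀ {R R' : CommRingCat.{u}} (ψ : R ⟶ R') (x : Γ(Spec R, ⊤)),
      (Spec.map ψ).appTop.hom x =
        (Scheme.ΓSpecIso R').inv.hom (ψ.hom ((Scheme.ΓSpecIso R).hom.hom x)) := by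
    intro R R' ψ x
    have h := congr($(Scheme.ΓSpecIso_inv_naturality ψ).hom ((Scheme.ΓSpecIso R).hom.hom x))
    simp only [CommRingCat.hom_comp, RingHom.coe_comp, Function.comp_apply] at h
    rw [h, hih]
  haveI : IsAffine (Over.mk (Spec.map φ)).left := (inferInstance : IsAffine (Spec B))
  haveI : IsAffine (Over.mk (Spec.map φ')).left := (inferInstance : IsAffine (Spec B'))
  refine isSchemeTheoreticallyDominant_whiskerRight_bc (Z := Spec K)
    (A := Over.mk (Spec.map φ)) (A' := Over.mk (Spec.map φ')) _ c ρ ?_ ?_ T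
  · intro (k : Γ(Spec K, ⊤)) (y : Γ(Spec B', ⊤))
    show (Scheme.ΓSpecIso B).inv.hom (ρ₀ ((Scheme.ΓSpecIso B').hom.hom ((Spec.map φ').appTop.hom k * y))) =
      (Spec.map φ).appTop.hom k * (Scheme.ΓSpecIso B).inv.hom (ρ₀ ((Scheme.ΓSpecIso B').hom.hom y))
    rw [map_mul, happ, happ, hhi, hlin, map_mul]
  · intro (x : Γ(Spec B, ⊤))
    show (Scheme.ΓSpecIso B).inv.hom (ρ₀ ((Scheme.ΓSpecIso B').hom.hom ((Spec.map β).appTop.hom x))) = x
    rw [happ, hhi, hretr, hih]


section Monoid

variable (K : Type u) [CommRing K] {M N : Type} [AddCommMonoid M] [AddCommMonoid N]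

/-- The additive retraction `K[M] → K[N]` of `mapDomain f` for injective `f : N → M`. -/
noncomputable def retr (f : N →+ M) (hf : Function.Injective f) :
    MonoidAlgebra K (Multiplicative M) →+ MonoidAlgebra K (Multiplicative N) :=
  (MonoidAlgebra.coeffAddEquiv.symm.toAddMonoidHom).comp
    ((Finsupp.comapDomain.addMonoidHom
      (show Function.Injective (AddMonoidHom.toMultiplicative f) from hf)).comp
      MonoidAlgebra.coeffAddEquiv.toAddMonoidHom)

theorem retr_smul (f : N →+ M) (hf : Function.Injective f) (k : K)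
    (y : MonoidAlgebra K (Multiplicative M)) :
    retr K f hf (algebraMap K _ k * y) = algebraMap K _ k * retr K f hf y := by
  rw [← Algebra.smul_def, ← Algebra.smul_def]
  apply MonoidAlgebra.coeff_injective
  ext n
  simp [retr]

theorem retr_mapDomain (f : N →+ M) (hf : Function.Injective f)
    (x : MonoidAlgebra K (Multiplicative N)) :
    retr K f hf (MonoidAlgebra.mapDomainBialgHom K (AddMonoidHom.toMultiplicative f) x) = x := by
  apply MonoidAlgebra.coeff_injective
  ext n
  simp only [retr, AddMonoidHom.coe_comp, Function.comp_apply]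
  have hinj : Function.Injective (⇑Multiplicative.ofAdd ∘ ⇑f ∘ ⇑Multiplicative.toAdd) :=
    Multiplicative.ofAdd.injective.comp (hf.comp Multiplicative.toAdd.injective)
  simpa using Finsupp.mapDomain_apply hinj x.coeff n

end Monoid


/-- `A(M)_S ×_S T ⟶ A(N)_S ×_S T` is scheme-theoretically dominant for injective `N →+ M`. -/
theorem isSchemeTheoreticallyDominant_AMonS_map (S : Scheme.{u}) {M N : Type} [AddCommMonoid M]
    [AddCommMonoid N] (f : N →+ M) (hf : Function.Injective f) (T : Over S) :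
    IsSchemeTheoreticallyDominant ((Magnet.AMonS.map S f) ▷ T).left := by
  let K := ULift.{u} ℤ
  let φ : CommRingCat.of K ⟶ CommRingCat.of (MonoidAlgebra K (Multiplicative N)) :=
    CommRingCat.ofHom (algebraMap K _)
  let φ' : CommRingCat.of K ⟶ CommRingCat.of (MonoidAlgebra K (Multiplicative M)) :=
    CommRingCat.ofHom (algebraMap K _)
  let β : CommRingCat.of (MonoidAlgebra K (Multiplicative N)) ⟶
      CommRingCat.of (MonoidAlgebra K (Multiplicative M)) :=
    CommRingCat.ofHom
      (MonoidAlgebra.mapDomainBialgHom K (AddMonoidHom.toMultiplicative f)).toAlgHom.toRingHom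
  have hβ : φ ≫ β = φ' := by
    refine CommRingCat.hom_ext (RingHom.ext fun k => ?_)
    exact (MonoidAlgebra.mapDomainBialgHom K (AddMonoidHom.toMultiplicative f)).toAlgHom.commutes k
  exact isSchemeTheoreticallyDominant_whiskerRight_bc_Spec φ φ' β hβ
    (Limits.IsTerminal.from specULiftZIsTerminal S) (retr K f hf) (retr_smul K f hf)
    (retr_mapDomain K f hf) T

end Groth.Agent.Lib.Helper7.MagnetDominant
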