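import Groth.Prelude.Def_Magnet3
import Groth.Agent.Lib.Helper7.MagnetDominant

set_option autoImplicit false
set_option linter.style.haveILetI false
universe u
open CategoryTheory Limits AlgebraicGeometry MonoidalCategory CartesianMonoidalCategory Opposite

namespace Groth.Agent.Lib.Helper7.MagnetIso

theorem AMon_map_id (R : Type u) [CommRing R] (M : Type) [AddCommMonoid M] :
    Magnet.AMon.map R (AddMonoidHom.id M) = 𝟙 _ := by
  ext : 1
  rw [Magnet.AMon.map_left]
  have : AddMonoidHom.toMultiplicative (AddMonoidHom.id M) = MonoidHom.id (Multiplicative M) := rfl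
  rw [this, MonoidAlgebra.mapDomainBialgHom_id]
  exact Spec.map_id _

theorem AMonS_map_id (S : Scheme.{u}) (M : Type) [AddCommMonoid M] :
    Magnet.AMonS.map S (AddMonoidHom.id M) = 𝟙 _ := by
  rw [Magnet.AMonS.map, AMon_map_id]
  exact CategoryTheory.Functor.map_id _ _


open Groth.Agent.Lib.Helper7.SchDominant in
/-- Equivariance for a monoid `A` can be checked after restriction along a monoid morphism
`m : A' ⟶ A` all of whose base changes `m ▷ W` are scheme-theoretically dominant, when the target
is separated. -/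
theorem isEquivariant_of_restrict {S : Scheme.{u}} {A A' B X T : Over S} [MonObj A] [MonObj A']
    (m : A' ⟶ A) [IsMonHom m] [IsSeparated X.hom]
    (hm : ∀ W : Over S, IsSchemeTheoreticallyDominant (m ▷ W).left)
    (ρ : Magnet.MonAct A B) (a : Magnet.MonAct A X) (φ : B ⊗ T ⟶ X)
    (h : Magnet.MonAct.IsEquivariant ((ρ.restrict m).prod (Magnet.MonAct.trivial A' T))
      (a.restrict m) φ) :
    Magnet.MonAct.IsEquivariant (ρ.prod (Magnet.MonAct.trivial A T)) a φ := by
  unfold Magnet.MonAct.IsEquivariant at h ⊢
  haveI := hm (B ⊗ T)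
  apply ext_of_isSchemeTheoreticallyDominant (m ▷ (B ⊗ T))
  have e1 : ((ρ.restrict m).prod (Magnet.MonAct.trivial A' T)).act =
      (m ▷ (B ⊗ T)) ≫ (ρ.prod (Magnet.MonAct.trivial A T)).act := by
    apply Magnet.hom_ext_lift₂
    intro T' g z
    rw [← lift_comp_fst_snd z]
    simp only [Magnet.MonAct.lift_prod_act, lift_whiskerRight_assoc,
      Magnet.MonAct.lift_restrict_act, Magnet.MonAct.lift_trivial_act]
  rw [← Category.assoc, ← e1, h, Magnet.MonAct.restrict_act, whisker_exchange_assoc]

end Groth.Agent.Lib.Helper7.MagnetIso
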