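import Mathlib.AlgebraicGeometry.Morphisms.Flat
import Mathlib.AlgebraicGeometry.IdealSheaf.Functorial
import Mathlib.RingTheory.RingHom.Flat

/-!
# Flat base change of schematic dominance / scheme-theoretic image

* `ker_eq_bot_of_isPullback_of_flat`: in a cartesian square `j : A ⟶ W`, `snd : A ⟶ Y`,
  `p : W ⟶ T` flat, `t : Y ⟶ T` quasi-compact with `𝒪_T → t_* 𝒪_Y` injective on a covering family
  of affine opens, then `j.ker = ⊥`.
* `ker_pullback_snd_eq_comap_ker`: `(pullback.snd f g).ker = f.ker.comap g` for `f` quasi-compact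
  and `g` flat.
-/

set_option autoImplicit false

namespace Groth.Agent.Lib.Helper7

open AlgebraicGeometry CategoryTheory Limits

universe u

theorem ker_eq_bot_of_isPullback_of_flat {A W Y T : Scheme.{u}} {j : A ⟶ W} {snd : A ⟶ Y}
    {p : W ⟶ T} {t : Y ⟶ T} (H : IsPullback j snd p t) [Flat p] [QuasiCompact t]
    (𝒱 : Set T.affineOpens) (hcov : ∀ x : T, ∃ V ∈ 𝒱, x ∈ V.1)
    (ht : ∀ V ∈ 𝒱, Function.Injective (t.app V.1)) : j.ker = ⊥ := by
  have hjqc : QuasiCompact j := MorphismProperty.of_isPullback (P := @QuasiCompact) H.flip ‹_›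
  have hinj : ∀ (U₀ : T.affineOpens) (_ : U₀ ∈ 𝒱) (U' : W.affineOpens), U'.1 ≤ p ⁻¹ᵁ U₀.1 →
      Function.Injective (j.app U'.1) := by
    intro U₀ hU₀ U' hU'
    have hUX : IsCompact ((t ⁻¹ᵁ U₀.1 : Y.Opens) : Set Y) := t.isCompact_preimage U₀.2.isCompact
    have hm := mono_pushoutSection_of_isCompact_of_flat_right H.flip hU' le_rfl rfl U₀.2 U'.2 hUX
    have hmi : Function.Injective (pushoutSection H.flip hU' le_rfl rfl) :=
      (ConcreteCategory.mono_iff_injective_of_preservesPullback _).mp hm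
    have hinr := CommRingCat.inr_injective_of_flat
      (t.appLE U₀.1 (t ⁻¹ᵁ U₀.1) le_rfl) (p.appLE U₀.1 U'.1 hU')
      (by rw [Scheme.Hom.appLE_eq_app]; exact ht U₀ hU₀)
      (p.flat_appLE U₀.2 U'.2 hU')
    have hcomp := hmi.comp hinr
    have heq : (pushout.inr _ _ ≫ pushoutSection H.flip hU' le_rfl rfl) =
        j.appLE U'.1 (snd ⁻¹ᵁ (t ⁻¹ᵁ U₀.1) ⊓ j ⁻¹ᵁ U'.1) inf_le_right :=
      pushout.inr_desc _ _ _
    have hinj' : Function.Injective
        (j.appLE U'.1 (snd ⁻¹ᵁ (t ⁻¹ᵁ U₀.1) ⊓ j ⁻¹ᵁ U'.1) inf_le_right) := by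
      rw [← heq]
      exact hcomp
    rw [Scheme.Hom.appLE] at hinj'
    exact Function.Injective.of_comp hinj'
  let 𝒰 := {U' : W.affineOpens // ∃ U₀ ∈ 𝒱, U'.1 ≤ p ⁻¹ᵁ U₀.1}
  refine Scheme.IdealSheafData.ext_of_iSup_eq_top (fun U' : 𝒰 => U'.1) ?_ ?_
  · rw [eq_top_iff]
    intro w _
    obtain ⟨U₀, hU₀, hw₀⟩ := hcov (p w)
    obtain ⟨_, ⟨U', hU', rfl⟩, hwU', hU'le⟩ :=
      W.isBasis_affineOpens.exists_subset_of_mem_open
        (show w ∈ ((p ⁻¹ᵁ U₀.1 : W.Opens) : Set W) from hw₀) (p ⁻¹ᵁ U₀.1).isOpen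
    exact TopologicalSpace.Opens.mem_iSup.mpr ⟨⟨⟨U', hU'⟩, U₀, hU₀, hU'le⟩, hwU'⟩
  · rintro ⟨U', U₀, hU₀, hU'⟩
    rw [Scheme.Hom.ker_apply, Scheme.IdealSheafData.ideal_bot]
    exact (RingHom.injective_iff_ker_eq_bot _).mp (hinj U₀ hU₀ U' hU')

/-- Flat base change of the scheme-theoretic image. -/
theorem ker_pullback_snd_eq_comap_ker {X Y Y' : Scheme.{u}} (f : X ⟶ Y) (g : Y' ⟶ Y)
    [QuasiCompact f] [Flat g] : (pullback.snd f g).ker = f.ker.comap g := by
  let j : pullback f g ⟶ pullback g f.imageι :=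
    pullback.lift (pullback.snd f g) (pullback.fst f g ≫ f.toImage)
      (by rw [Category.assoc, f.toImage_imageι, pullback.condition])
  have hj1 : j ≫ pullback.fst g f.imageι = pullback.snd f g := pullback.lift_fst _ _ _
  have hj2 : j ≫ pullback.snd g f.imageι = pullback.fst f g ≫ f.toImage := pullback.lift_snd _ _ _
  have H : IsPullback j (pullback.fst f g) (pullback.snd g f.imageι) f.toImage := by
    refine IsPullback.of_right ?_ hj2 (IsPullback.of_hasPullback g f.imageι)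
    rw [hj1, f.toImage_imageι]
    exact (IsPullback.of_hasPullback f g).flip
  have hker : j.ker = ⊥ := by
    refine ker_eq_bot_of_isPullback_of_flat H
      (Set.range fun U₀ : Y.affineOpens => (⟨f.imageι ⁻¹ᵁ U₀.1, U₀.2.preimage f.imageι⟩ :
        f.image.affineOpens)) ?_ ?_
    · intro x
      obtain ⟨_, ⟨U₀, hU₀, rfl⟩, hx, -⟩ := Y.isBasis_affineOpens.exists_subset_of_mem_open
        (Set.mem_univ (f.imageι x)) isOpen_univ
      exact ⟨_, ⟨⟨U₀, hU₀⟩, rfl⟩, hx⟩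
    · rintro _ ⟨U₀, rfl⟩
      exact f.toImage_app_injective U₀
  rw [← hj1, Scheme.Hom.ker_comp, hker, Scheme.IdealSheafData.map_bot]
  rfl

end Groth.Agent.Lib.Helper7
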