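import Mathlib
import Groth.Agent.Lib.Helper7.SmoothSlice
import Groth.Agent.H34.PermRegular

/-!
# Sections of smooth algebras are cut out by regular sequences

* `isWeaklyRegular_X`: the variables of a polynomial ring form a weakly regular sequence.
* `exists_regular_chart`: for a smooth algebra `A → R` with a retraction `ρ : R → A` and a prime
  `m ⊇ ker ρ`, there are `h ∉ m` and `y₁, …, y_d ∈ ker ρ` generating `ker ρ` after inverting `h` and
  forming a weakly regular sequence on every localization of `R` away from `h`.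
-/

set_option autoImplicit false

namespace Groth.Agent.Lib.Helper7.SectionRegular

open MvPolynomial RingTheory.Sequence TensorProduct KaehlerDifferential
open Groth.Agent.Lib.Helper7.EtaleChart Groth.Agent.Lib.Helper7.SmoothSlice

universe u

/-- The variables form a weakly regular sequence in a polynomial ring. -/
theorem isWeaklyRegular_X (A : Type*) [CommRing A] (d : ℕ) :
    IsWeaklyRegular (MvPolynomial (Fin d) A)
      (List.ofFn (X : Fin d → MvPolynomial (Fin d) A)) := by
  rw [Groth.Agent.H34.PermRegular.isWeaklyRegular_ofFn_iff]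
  intro k a ha
  rw [MvPolynomial.mem_ideal_span_X_image] at ha ⊢
  intro m hm
  have hm' : m + Finsupp.single k 1 ∈ (X k * a).support := by
    rw [MvPolynomial.mem_support_iff, mul_comm, MvPolynomial.coeff_mul_X]
    exact MvPolynomial.mem_support_iff.mp hm
  obtain ⟨i, hi, hne⟩ := ha _ hm'
  refine ⟨i, hi, ?_⟩
  have hik : i ≠ k := ne_of_lt hi
  simpa [Finsupp.single_apply, hik.symm] using hne

theorem exists_regular_chart (A R : Type u) [CommRing A] [CommRing R] [Algebra A R]
    [Algebra.Smooth A R] (ρ : R →+* A) (hρ : ∀ a, ρ (algebraMap A R a) = a)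
    (m : Ideal R) [m.IsPrime] (hm : RingHom.ker ρ ≤ m) :
    ∃ (d : ℕ) (y : Fin d → R) (h : R), (∀ i, ρ (y i) = 0) ∧ h ∉ m ∧
      (∀ r, ρ r = 0 → ∃ n, h ^ n * r ∈ Ideal.span (Set.range y)) ∧
      ∀ (L : Type u) [CommRing L] [Algebra R L] [IsLocalization.Away h L],
        IsWeaklyRegular L (List.ofFn y) := by
  classical
  have hT : Submodule.span m.ResidueField
      ((fun r : R => (1 : m.ResidueField) ⊗ₜ[R] D A R r) '' {r | ρ r = 0}) = ⊤ := by
    rw [eq_top_iff, ← span_one_tmul_D (k := A) m]
    apply Submodule.span_mono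
    rintro _ ⟨r, rfl⟩
    refine ⟨r - algebraMap A R (ρ r), ?_, ?_⟩
    · simp only [Set.mem_setOf_eq, map_sub, hρ, sub_self]
    · simp only [map_sub, Derivation.map_algebraMap, sub_zero]
  obtain ⟨d, y, g, hy, hg, φ, hφ, hφX⟩ := exists_chart A R m {r | ρ r = 0} hT
  have hy' : ∀ i, ρ (y i) = 0 := hy
  -- the étale quotient
  let ψ : MvPolynomial (Fin d) A →ₐ[A] A := aeval (0 : Fin d → A)
  let Jφ : Ideal (Localization.Away g) := (RingHom.ker ψ.toRingHom).map φ.toRingHom
  have hE : Algebra.Etale A (Localization.Away g ⧸ Jφ) :=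
    etale_quotient_of_retraction A _ _ φ hφ ψ
  let M : Ideal (Localization.Away g) :=
    Ideal.span (Set.range fun i => algebraMap R (Localization.Away g) (y i))
  have hJM : Jφ ≤ M := by
    apply ker_map_le
    intro i
    rw [Pi.zero_apply, map_zero, sub_zero, hφX]
    exact Ideal.subset_span ⟨i, rfl⟩
  -- the localized retraction
  let ρg : Localization.Away g →+* Localization.Away (ρ g) :=
    IsLocalization.Away.map (Localization.Away g) (Localization.Away (ρ g)) ρ g
  have hρg : ∀ r, ρg (algebraMap R (Localization.Away g) r) =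
      algebraMap A (Localization.Away (ρ g)) (ρ r) := fun r => IsLocalization.map_eq _ r
  have hχ : ρg.comp φ.toRingHom = (algebraMap A (Localization.Away (ρ g))).comp ψ.toRingHom := by
    apply MvPolynomial.ringHom_ext
    · intro a
      simp only [RingHom.comp_apply, AlgHom.toRingHom_eq_coe, RingHom.coe_coe,
        ← MvPolynomial.algebraMap_eq, AlgHom.commutes]
      rw [IsScalarTower.algebraMap_apply A R (Localization.Away g), hρg, hρ]
      rfl
    · intro i
      simp only [RingHom.comp_apply, AlgHom.toRingHom_eq_coe, RingHom.coe_coe, hφX, hρg, hy' i,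
        map_zero, ψ, aeval_X, Pi.zero_apply]
  have hJker : Jφ ≤ RingHom.ker ρg := by
    rw [Ideal.map_le_iff_le_comap]
    intro p hp
    rw [Ideal.mem_comap, RingHom.mem_ker]
    have h1 := congr($hχ p)
    simp only [RingHom.comp_apply] at h1
    rw [h1, RingHom.mem_ker.mp hp, map_zero]
  let ρbar : Localization.Away g ⧸ Jφ →+* Localization.Away (ρ g) :=
    Ideal.Quotient.lift Jφ ρg (fun a ha => hJker ha)
  have hρgsurj : Function.Surjective ρg := by
    rw [IsLocalization.Away.map_surjective_iff]
    intro a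
    exact ⟨algebraMap A R a, 0, by rw [hρ, pow_zero, one_mul]⟩
  have hρbarsurj : Function.Surjective ρbar :=
    Ideal.Quotient.lift_surjective_of_surjective _ _ hρgsurj
  letI : Algebra (Localization.Away g ⧸ Jφ) (Localization.Away (ρ g)) := ρbar.toAlgebra
  have htower : IsScalarTower A (Localization.Away g ⧸ Jφ) (Localization.Away (ρ g)) := by
    refine IsScalarTower.of_algebraMap_eq (R := A) (S := Localization.Away g ⧸ Jφ)
      (A := Localization.Away (ρ g)) fun a => ?_
    show algebraMap A (Localization.Away (ρ g)) a =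
      ρbar (Ideal.Quotient.mk Jφ (algebraMap A (Localization.Away g) a))
    rw [Ideal.Quotient.lift_mk, IsScalarTower.algebraMap_apply A R (Localization.Away g), hρg, hρ]
  have hEA' : Algebra.Etale (Localization.Away g ⧸ Jφ) (Localization.Away (ρ g)) :=
    Algebra.Etale.of_restrictScalars A _ _
  have hflat : Module.Flat (Localization.Away g ⧸ Jφ) (Localization.Away (ρ g)) := inferInstance
  have hsurj' : Function.Surjective
      (Algebra.ofId (Localization.Away g ⧸ Jφ) (Localization.Away (ρ g))) := hρbarsurj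
  have hpure : (RingHom.ker (Algebra.ofId (Localization.Away g ⧸ Jφ)
      (Localization.Away (ρ g)))).Pure :=
    Module.Flat.of_linearEquiv (Ideal.quotientKerAlgEquivOfSurjective hsurj').toLinearEquiv
  have hmemker : ∀ z : Localization.Away g ⧸ Jφ, ρbar z = 0 →
      z ∈ RingHom.ker (Algebra.ofId (Localization.Away g ⧸ Jφ) (Localization.Away (ρ g))) :=
    fun z hz => hz
  -- generators of `ker ρ`
  let ρA : R →ₐ[A] A := { ρ with commutes' := hρ }
  have hρAsurj : Function.Surjective ρA := fun a => ⟨algebraMap A R a, hρ a⟩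
  have hfg : (RingHom.ker ρA.toRingHom).FG :=
    Algebra.FinitePresentation.ker_fG_of_surjective ρA hρAsurj
  obtain ⟨s, hs⟩ := hfg
  have hs' : Ideal.span (s : Set R) = RingHom.ker ρ := hs
  let cls : R →+* Localization.Away g ⧸ Jφ :=
    (Ideal.Quotient.mk Jφ).comp (algebraMap R (Localization.Away g))
  have hcls : ∀ x, ρ x = 0 → ρbar (cls x) = 0 := by
    intro x hx
    show ρbar (Ideal.Quotient.mk Jφ _) = 0
    rw [Ideal.Quotient.lift_mk, hρg, hx, map_zero]
  have hex : ∀ x : R, ρ x = 0 → ∃ t : Localization.Away g ⧸ Jφ, ρbar t = 0 ∧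
      cls x = cls x * t := by
    intro x hx
    have := hpure
    obtain ⟨t, ht, hxt⟩ := Ideal.exists_eq_mul_of_pure (hmemker _ (hcls x hx))
    exact ⟨t, ht, hxt⟩
  choose! tt htt1 htt2 using hex
  let h' : Localization.Away g ⧸ Jφ := ∏ x ∈ s, (1 - tt x)
  have hsker : ∀ x ∈ s, ρ x = 0 := by
    intro x hx
    have : x ∈ RingHom.ker ρ := hs' ▸ Ideal.subset_span hx
    exact this
  have hh'1 : ρbar h' = 1 := by
    simp only [h', map_prod, map_sub, map_one]
    apply Finset.prod_eq_one
    intro x hx
    rw [htt1 x (hsker x hx), sub_zero]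
  have hh'0 : ∀ x ∈ s, cls x * h' = 0 := by
    intro x hx
    have h1 : cls x * (1 - tt x) = 0 := by
      rw [mul_sub, mul_one, ← htt2 x (hsker x hx), sub_self]
    simp only [h']
    rw [← Finset.mul_prod_erase s _ hx, ← mul_assoc, h1, zero_mul]
  have hkill' : ∀ r₀ ∈ Ideal.span (s : Set R), cls r₀ * h' = 0 := by
    intro r₀ hmem
    induction hmem using Submodule.span_induction with
    | mem x hx => exact hh'0 x hx
    | zero => rw [map_zero, zero_mul]
    | add a b _ _ ha hb => rw [map_add, add_mul, ha, hb, add_zero]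
    | smul c a _ ha => rw [smul_eq_mul, map_mul, mul_assoc, ha, mul_zero]
  have hkill : ∀ r₀, ρ r₀ = 0 → cls r₀ * h' = 0 := fun r₀ hr₀ =>
    hkill' r₀ (by rw [hs']; exact hr₀)
  -- lift `h'`
  obtain ⟨h'', hh''⟩ := Ideal.Quotient.mk_surjective h'
  obtain ⟨n, r, hr⟩ := IsLocalization.Away.surj g h''
  have hρr : algebraMap A (Localization.Away (ρ g)) (ρ r) =
      algebraMap A (Localization.Away (ρ g)) (ρ g ^ n) := by
    rw [← hρg, ← hr, map_mul, map_pow, hρg, map_pow]
    have : ρg h'' = 1 := by
      have := hh'1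
      rw [← hh''] at this
      exact this
    rw [this, one_mul]
  obtain ⟨k, hk⟩ := IsLocalization.Away.exists_of_eq (ρ g) hρr
  have hrm : r ∉ m := by
    intro hrm
    have h1 : g ^ k * r - g ^ k * g ^ n ∈ RingHom.ker ρ := by
      rw [RingHom.mem_ker, map_sub, map_mul, map_mul, map_pow, map_pow, hk, sub_self]
    have h2 := hm h1
    have h3 : g ^ k * g ^ n ∈ m := by
      have := m.sub_mem (m.mul_mem_left (g ^ k) hrm) h2
      simpa using this
    rw [← pow_add] at h3
    exact hg (‹m.IsPrime›.mem_of_pow_mem _ h3)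
  refine ⟨d, y, g * r, hy', ?_, ?_, ?_⟩
  · exact fun hmem => (‹m.IsPrime›.mem_or_mem hmem).elim hg hrm
  · intro r₀ hr₀
    have h1 : algebraMap R (Localization.Away g) r₀ * h'' ∈ Jφ := by
      rw [← Ideal.Quotient.eq_zero_iff_mem, map_mul, hh'']
      exact hkill r₀ hr₀
    have h2 : algebraMap R (Localization.Away g) (r₀ * r) ∈ M := by
      rw [map_mul, ← hr, ← mul_assoc]
      exact Ideal.mul_mem_right _ _ (hJM h1)
    have hM : M = (Ideal.span (Set.range y)).map (algebraMap R (Localization.Away g)) := by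
      rw [Ideal.map_span, ← Set.range_comp]
      rfl
    rw [hM, IsLocalization.mem_map_algebraMap_iff (Submonoid.powers g)] at h2
    obtain ⟨⟨⟨i, hi⟩, ⟨_, k1, rfl⟩⟩, h3⟩ := h2
    simp only at h3
    rw [← map_mul] at h3
    obtain ⟨k2, hk2⟩ := IsLocalization.Away.exists_of_eq g h3
    have h4 : g ^ k2 * (r₀ * r * g ^ k1) ∈ Ideal.span (Set.range y) := by
      rw [hk2]; exact Ideal.mul_mem_left _ _ hi
    refine ⟨k1 + k2 + 1, ?_⟩
    have : (g * r) ^ (k1 + k2 + 1) * r₀ =
        (g * r ^ (k1 + k2)) * (g ^ k2 * (r₀ * r * g ^ k1)) := by ring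
    rw [this]
    exact Ideal.mul_mem_left _ _ h4
  · intro L _ _ _
    -- weakly regular on `L₀ := (R_g)_r`
    letI : Algebra (MvPolynomial (Fin d) A) (Localization.Away g) := φ.toRingHom.toAlgebra
    have hφflat : Module.Flat (MvPolynomial (Fin d) A) (Localization.Away g) := by
      have : Algebra.Etale (MvPolynomial (Fin d) A) (Localization.Away g) :=
        RingHom.etale_algebraMap.mp hφ
      infer_instance
    let L₀ := Localization.Away (algebraMap R (Localization.Away g) r)
    have : IsScalarTower (MvPolynomial (Fin d) A) (Localization.Away g) L₀ := inferInstance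
    have hflat₀ : Module.Flat (MvPolynomial (Fin d) A) L₀ :=
      Module.Flat.trans (MvPolynomial (Fin d) A) (Localization.Away g) L₀
    have hreg := (isWeaklyRegular_X A d).of_flat (S := L₀)
    have hlist : (List.ofFn (X : Fin d → MvPolynomial (Fin d) A)).map
        (algebraMap (MvPolynomial (Fin d) A) L₀) = (List.ofFn y).map (algebraMap R L₀) := by
      rw [List.map_ofFn, List.map_ofFn]
      congr 1
      funext i
      simp only [Function.comp_apply]
      rw [IsScalarTower.algebraMap_apply (MvPolynomial (Fin d) A) (Localization.Away g) L₀,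
        RingHom.algebraMap_toAlgebra, AlgHom.toRingHom_eq_coe,
        RingHom.coe_coe, hφX, ← IsScalarTower.algebraMap_apply]
    rw [hlist, isWeaklyRegular_map_algebraMap_iff] at hreg
    have hL₀ : IsLocalization.Away (g * r) L₀ := inferInstance
    let e : L₀ ≃ₐ[R] L := IsLocalization.algEquiv (Submonoid.powers (g * r)) L₀ L
    exact (e.toLinearEquiv.isWeaklyRegular_congr _).mp hreg

end Groth.Agent.Lib.Helper7.SectionRegular
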