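import Groth.Agent.Lib.Helper7.FormallyEtaleLift
import Mathlib.AlgebraicGeometry.Gluing

/-!
# Gluing "thickened" local pieces over a locally directed open cover

Abstract version of the gluing used for universal first order thickenings: given a locally
directed open cover `𝒰` of `Z`, schemes `Y k` with bijective-on-points maps `i k : 𝒰.X k ⟶ Y k`
and compatible open immersions `ρ : Y k ⟶ Y l` for `k ⟶ l`, we glue the `Y k` to a scheme
`glued` with a map `gi : Z ⟶ glued`, such that the squares `𝒰.X k → Y k`, `Z → glued` are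
cartesian.
-/

set_option autoImplicit false

namespace Groth.Agent.Lib.Helper7

open AlgebraicGeometry CategoryTheory Limits TopologicalSpace

universe w u

variable {Z : Scheme.{u}} (𝒰 : Scheme.OpenCover.{u} Z) [Category.{w} 𝒰.I₀] [𝒰.LocallyDirected]

/-- Gluing data over a locally directed cover. -/
structure ThickGlueData where
  Y : 𝒰.I₀ → Scheme.{u}
  i : ∀ k, 𝒰.X k ⟶ Y k
  surj : ∀ k, Function.Surjective (i k)
  inj : ∀ k, Function.Injective (i k)
  ρ : ∀ {k l : 𝒰.I₀}, (k ⟶ l) → (Y k ⟶ Y l)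
  ρ_id : ∀ k, ρ (𝟙 k) = 𝟙 (Y k)
  ρ_comp : ∀ {k l m : 𝒰.I₀} (f : k ⟶ l) (g : l ⟶ m), ρ (f ≫ g) = ρ f ≫ ρ g
  i_ρ : ∀ {k l : 𝒰.I₀} (f : k ⟶ l), i k ≫ ρ f = 𝒰.trans f ≫ i l
  ρ_open : ∀ {k l : 𝒰.I₀} (f : k ⟶ l), IsOpenImmersion (ρ f)

namespace ThickGlueData

variable {𝒰} (D : ThickGlueData 𝒰)

/-- The diagram of local pieces. -/
noncomputable def functor : 𝒰.I₀ ⥤ Scheme.{u} where
  obj := D.Y
  map f := D.ρ f
  map_id k := D.ρ_id k
  map_comp f g := D.ρ_comp f g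

instance {k l : 𝒰.I₀} (f : k ⟶ l) : IsOpenImmersion (D.functor.map f) := D.ρ_open f

lemma ρ_i_apply {k l : 𝒰.I₀} (f : k ⟶ l) (z : 𝒰.X k) : D.ρ f (D.i k z) = D.i l (𝒰.trans f z) := by
  rw [← Scheme.Hom.comp_apply, i_ρ, Scheme.Hom.comp_apply]

set_option backward.defeqAttrib.useBackward true in
set_option backward.isDefEq.respectTransparency false in
instance : (D.functor ⋙ Scheme.forget).IsLocallyDirected where
  cond {k l m} fk fl xk xl hx := by
    simp only [Functor.comp_obj, Scheme.forget_obj, Functor.comp_map, Scheme.forget_map,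
      ConcreteCategory.hom_ofHom, TypeCat.Fun.coe_mk] at hx
    obtain ⟨zk, rfl⟩ := D.surj k xk
    obtain ⟨zl, rfl⟩ := D.surj l xl
    have hx' : D.ρ fk (D.i k zk) = D.ρ fl (D.i l zl) := hx
    rw [ρ_i_apply, ρ_i_apply] at hx'
    obtain ⟨n, fnk, fnl, z, rfl, rfl⟩ :=
      𝒰.exists_of_trans_eq_trans fk fl zk zl (D.inj m hx')
    exact ⟨n, fnk, fnl, D.i n z, D.ρ_i_apply fnk z, D.ρ_i_apply fnl z⟩

variable [Quiver.IsThin 𝒰.I₀] [Small.{u} 𝒰.I₀]

/-- The glued scheme. -/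
noncomputable def glued : Scheme.{u} := colimit D.functor

/-- The inclusions of the local pieces. -/
noncomputable def ι (k : 𝒰.I₀) : D.Y k ⟶ D.glued := colimit.ι D.functor k

instance (k : 𝒰.I₀) : IsOpenImmersion (D.ι k) :=
  inferInstanceAs <| IsOpenImmersion (colimit.ι D.functor k)

lemma ρ_ι {k l : 𝒰.I₀} (f : k ⟶ l) : D.ρ f ≫ D.ι l = D.ι k := colimit.w D.functor f

lemma gi_compat {k l : 𝒰.I₀} (f : k ⟶ l) : 𝒰.trans f ≫ D.i l ≫ D.ι l = D.i k ≫ D.ι k := by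
  rw [← Category.assoc, ← i_ρ, Category.assoc, ρ_ι]

/-- The glued map. -/
noncomputable def gi : Z ⟶ D.glued :=
  𝒰.glueMorphismsOfLocallyDirected (fun k => D.i k ≫ D.ι k) (fun f => D.gi_compat f)

lemma f_gi (k : 𝒰.I₀) : 𝒰.f k ≫ D.gi = D.i k ≫ D.ι k :=
  𝒰.map_glueMorphismsOfLocallyDirected (fun k => D.i k ≫ D.ι k) (fun f => D.gi_compat f) k

/-- Morphisms out of the glued scheme. -/
noncomputable def desc {X : Scheme.{u}} (g : ∀ k, D.Y k ⟶ X)
    (hg : ∀ {k l : 𝒰.I₀} (f : k ⟶ l), D.ρ f ≫ g l = g k) : D.glued ⟶ X :=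
  colimit.desc D.functor
    { pt := X
      ι :=
        { app := g
          naturality := fun k l f => by
            simp only [Functor.const_obj_obj, Functor.const_obj_map, Category.comp_id]
            exact hg f } }

lemma ι_desc {X : Scheme.{u}} (g : ∀ k, D.Y k ⟶ X)
    (hg : ∀ {k l : 𝒰.I₀} (f : k ⟶ l), D.ρ f ≫ g l = g k) (k : 𝒰.I₀) :
    D.ι k ≫ D.desc g hg = g k := colimit.ι_desc _ _

/-- The open cover of the glued scheme by the local pieces. -/
@[reducible]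
noncomputable def cover : D.glued.OpenCover where
  I₀ := 𝒰.I₀
  X := D.Y
  f := D.ι
  mem₀ := by
    rw [Scheme.presieve₀_mem_precoverage_iff]
    refine ⟨fun x => ?_, fun k => inferInstance⟩
    obtain ⟨k, y, hy⟩ := Scheme.IsLocallyDirected.ι_jointly_surjective D.functor x
    exact ⟨k, y, hy⟩

lemma hom_ext {X : Scheme.{u}} (a b : D.glued ⟶ X) (h : ∀ k, D.ι k ≫ a = D.ι k ≫ b) : a = b :=
  D.cover.hom_ext _ _ h

lemma gi_f_apply (k : 𝒰.I₀) (z : 𝒰.X k) : D.gi (𝒰.f k z) = D.ι k (D.i k z) := by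
  rw [← Scheme.Hom.comp_apply, f_gi, Scheme.Hom.comp_apply]

lemma isPullback (k : 𝒰.I₀) : IsPullback (D.i k) (𝒰.f k) (D.ι k) D.gi := by
  apply IsOpenImmersion.isPullback
  · exact D.f_gi k
  · ext z
    constructor
    · rintro ⟨y, hy⟩
      obtain ⟨zk, rfl⟩ := D.surj k y
      obtain ⟨zl, hzl⟩ := 𝒰.covers z
      rw [← hzl, gi_f_apply] at hy
      obtain ⟨n, fk, fl, x, hxk, hxl⟩ :=
        (Scheme.IsLocallyDirected.ι_eq_ι_iff D.functor).mp hy
      obtain ⟨zn, rfl⟩ := D.surj n x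
      have h1 : D.ρ fl (D.i n zn) = D.i _ zl := hxl
      rw [ρ_i_apply] at h1
      have h2 := D.inj _ h1
      refine ⟨𝒰.trans fk zn, ?_⟩
      rw [← hzl, ← h2, ← Scheme.Hom.comp_apply, ← Scheme.Hom.comp_apply, 𝒰.trans_map,
        𝒰.trans_map]
    · rintro ⟨zk, rfl⟩
      exact ⟨D.i k zk, (D.gi_f_apply k zk).symm⟩

end ThickGlueData

end Groth.Agent.Lib.Helper7
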