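/-
Helper7: étale charts to affine space over a base (scheme level).
* `smooth_affineSpace_over`: `𝔸(n; S) ↘ S` is smooth for finite `n`.
* `smooth_appLE_of_le_smoothLocus`: ring maps of affine pieces inside the smooth locus are smooth.
* `exists_chart_retraction`: étale chart of a smooth algebra with a retraction, coordinates in the kernel.
* `etale_homOfVector_of_isAffine`: affine criterion for `homOfVector` to be étale.
* `etale_homOfVector_restrict`: restriction of an étale chart to smaller opens.
-/
import Mathlib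
import Groth.Agent.Lib.Helper7.SmoothSlice

set_option autoImplicit false
universe u

open AlgebraicGeometry CategoryTheory CategoryTheory.Limits MvPolynomial TensorProduct KaehlerDifferential

namespace Groth.Agent.Lib.Helper7.AffineChart

open AlgebraicGeometry.AffineSpace in
set_option backward.isDefEq.respectTransparency.types false in
/-- Affine space over any base is smooth. -/
theorem smooth_affineSpace_over (n : Type u) [Finite n] (S : Scheme.{u}) :
    Smooth (𝔸(n; S) ↘ S) :=
  MorphismProperty.pullback_fst _ _ <| by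
  have := isIso_of_isTerminal specULiftZIsTerminal.{u} terminalIsTerminal (terminal.from _)
  rw [← terminal.comp_from (Spec.map (CommRingCat.ofHom C)),
    MorphismProperty.cancel_right_of_respectsIso (P := @Smooth),
    HasRingHomProperty.Spec_iff (P := @Smooth), RingHom.Smooth]
  have hsm : Algebra.Smooth (ULift ℤ) (MvPolynomial n (ULift ℤ)) := ⟨inferInstance, inferInstance⟩
  convert! hsm
  exact Algebra.algebra_ext _ _ fun _ ↦ rfl

/-- Every prime of the ring of an affine open is the prime of a point. -/
theorem primeIdealOf_surjective {X : Scheme.{u}} {V : X.Opens} (hV : IsAffineOpen V)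
    (p : PrimeSpectrum Γ(X, V)) : ∃ z : V, hV.primeIdealOf z = p := by
  refine ⟨hV.isoSpec.inv p, ?_⟩
  rw [IsAffineOpen.primeIdealOf, ← Scheme.Hom.comp_apply, Iso.inv_hom_id]
  rfl

/-- On affine opens inside the smooth locus the ring map is smooth. -/
theorem smooth_appLE_of_le_smoothLocus {X Y : Scheme.{u}} (f : X ⟶ Y)
    [LocallyOfFinitePresentation f] {U : Y.Opens} (hU : IsAffineOpen U) {V : X.Opens}
    (hV : IsAffineOpen V) (e : V ≤ f ⁻¹ᵁ U) (hs : V ≤ f.smoothLocus) :
    (f.appLE U V e).hom.Smooth := by
  have hfp := f.finitePresentation_appLE hU hV e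
  algebraize [(f.appLE U V e).hom]
  have hloc : Algebra.smoothLocus Γ(Y, U) Γ(X, V) = Set.univ := by
    ext p
    simp only [Set.mem_univ, iff_true]
    obtain ⟨z, rfl⟩ := primeIdealOf_surjective hV p
    exact (formallySmooth_stalkMap_iff U hU V hV e z.2).mp (hs z.2)
  exact ⟨Algebra.smoothLocus_eq_univ_iff.mp hloc, inferInstance⟩

open AlgebraicGeometry.AffineSpace in
/-- Affine criterion: `homOfVector f v` is étale as soon as the polynomial ring map is. -/
theorem etale_homOfVector_of_isAffine {X S : Scheme.{u}} [IsAffine X] [IsAffine S] {n : Type u}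
    (f : X ⟶ S) (v : n → Γ(X, ⊤))
    (h : (MvPolynomial.eval₂Hom f.appTop.hom v).Etale) :
    Etale (AffineSpace.homOfVector f v) := by
  rw [← MorphismProperty.cancel_right_of_respectsIso (P := @Etale) _
    (AffineSpace.isoOfIsAffine n S).hom, HasRingHomProperty.iff_of_isAffine (P := @Etale),
    Scheme.Hom.comp_appTop, AffineSpace.isoOfIsAffine_hom_appTop]
  have key : CommRingCat.ofHom (eval₂Hom ((𝔸(n; S) ↘ S).appTop).hom (coord S)) ≫
      (homOfVector f v).appTop = CommRingCat.ofHom (eval₂Hom f.appTop.hom v) := by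
    ext : 1
    apply MvPolynomial.ringHom_ext
    · intro a
      simp only [CommRingCat.hom_comp, CommRingCat.hom_ofHom, RingHom.comp_apply, coe_eval₂Hom,
        eval₂_C]
      rw [← CommRingCat.comp_apply, ← Scheme.Hom.comp_appTop, homOfVector_over]
    · intro j
      simp only [CommRingCat.hom_comp, CommRingCat.hom_ofHom, RingHom.comp_apply, coe_eval₂Hom,
        eval₂_X]
      exact homOfVector_appTop_coord f v j
  rw [Category.assoc, key]
  exact (RingHom.Etale.respectsIso.cancel_left_isIso _ _).mpr h

open Groth.Agent.Lib.Helper7.EtaleChart Groth.Agent.Lib.Helper7.SmoothSlice in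
/-- **Étale chart along a section** (ring level): a smooth algebra `A → R` with a retraction
`ρ : R → A` has, near any prime, an étale chart whose coordinates lie in `ker ρ`. -/
theorem exists_chart_retraction (A R : Type u) [CommRing A] [CommRing R] [Algebra A R]
    [Algebra.Smooth A R] (ρ : R →+* A) (hρ : ∀ a, ρ (algebraMap A R a) = a)
    (m : Ideal R) [m.IsPrime] :
    ∃ (d : ℕ) (y : Fin d → R) (g : R), (∀ i, ρ (y i) = 0) ∧ g ∉ m ∧
      ∀ (L : Type u) [CommRing L] [Algebra R L] [Algebra A L] [IsScalarTower A R L]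
        [IsLocalization.Away g L],
        (MvPolynomial.eval₂Hom (algebraMap A L)
          (fun j : ULift.{u} (Fin d) => algebraMap R L (y j.down))).Etale := by
  have hT : Submodule.span m.ResidueField
      ((fun r : R => (1 : m.ResidueField) ⊗ₜ[R] D A R r) '' {r | ρ r = 0}) = ⊤ := by
    rw [eq_top_iff, ← span_one_tmul_D (k := A) m]
    apply Submodule.span_mono
    rintro _ ⟨r, rfl⟩
    refine ⟨r - algebraMap A R (ρ r), ?_, ?_⟩
    · simp only [Set.mem_setOf_eq, map_sub, hρ, sub_self]
    · simp only [map_sub, Derivation.map_algebraMap, sub_zero]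
  obtain ⟨d, y, g, hy, hg, φ, hφ, hφX⟩ := exists_chart A R m {r | ρ r = 0} hT
  refine ⟨d, y, g, hy, hg, ?_⟩
  intro L _ _ _ _ _
  let e : Localization.Away g ≃ₐ[R] L := IsLocalization.algEquiv (Submonoid.powers g) _ _
  have heq : MvPolynomial.eval₂Hom (algebraMap A L)
      (fun j : ULift.{u} (Fin d) => algebraMap R L (y j.down)) =
      (e.toRingEquiv.toRingHom.comp φ.toRingHom).comp
        (MvPolynomial.renameEquiv A (Equiv.ulift.{u, 0} (α := Fin d))).toRingEquiv.toRingHom := by
    apply MvPolynomial.ringHom_ext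
    · intro a
      simp only [coe_eval₂Hom, eval₂_C, RingHom.comp_apply, RingEquiv.toRingHom_eq_coe,
        RingHom.coe_coe, AlgEquiv.coe_ringEquiv, AlgHom.toRingHom_eq_coe,
        MvPolynomial.renameEquiv_apply, MvPolynomial.rename_C]
      rw [← MvPolynomial.algebraMap_eq, AlgHom.commutes,
        IsScalarTower.algebraMap_apply A R (Localization.Away g), AlgEquiv.commutes,
        ← IsScalarTower.algebraMap_apply]
    · intro j
      simp only [coe_eval₂Hom, eval₂_X, RingHom.comp_apply, RingEquiv.toRingHom_eq_coe,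
        RingHom.coe_coe, AlgEquiv.coe_ringEquiv, AlgHom.toRingHom_eq_coe,
        MvPolynomial.renameEquiv_apply, MvPolynomial.rename_X, Equiv.ulift_apply]
      rw [hφX, AlgEquiv.commutes]
  rw [heq]
  exact RingHom.Etale.respectsIso.2 _ _ (RingHom.Etale.respectsIso.1 _ _ hφ)

open AlgebraicGeometry.AffineSpace in
/-- Affine space is functorial for open immersions: `map n j` is an open immersion. -/
theorem isOpenImmersion_map (n : Type u) {S T : Scheme.{u}} (j : S ⟶ T) [IsOpenImmersion j] :
    IsOpenImmersion (AffineSpace.map n j) :=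
  MorphismProperty.of_isPullback (P := @IsOpenImmersion) (AffineSpace.isPullback_map (n := n) j).flip
    inferInstance

open AlgebraicGeometry.AffineSpace in
/-- **Restriction of an étale chart** to smaller opens. -/
theorem etale_homOfVector_restrict {X Y : Scheme.{u}} (f : X ⟶ Y) {n : Type u}
    {U₁ U : Y.Opens} {V₁ V : X.Opens} (hV₁U₁ : V₁ ≤ f ⁻¹ᵁ U₁) (hVU : V ≤ f ⁻¹ᵁ U)
    (hU : U ≤ U₁) (hV : V ≤ V₁) (v₁ : n → Γ(V₁, ⊤))
    (h : Etale (AffineSpace.homOfVector (f.resLE U₁ V₁ hV₁U₁) v₁)) :
    Etale (AffineSpace.homOfVector (f.resLE U V hVU) ((X.homOfLE hV).appTop ∘ v₁)) := by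
  have hcomm : AffineSpace.homOfVector (f.resLE U V hVU) ((X.homOfLE hV).appTop ∘ v₁) ≫
      AffineSpace.map n (Y.homOfLE hU) =
      X.homOfLE hV ≫ AffineSpace.homOfVector (f.resLE U₁ V₁ hV₁U₁) v₁ := by
    rw [comp_homOfVector, AffineSpace.map, comp_homOfVector]
    congr 1
    · rw [homOfVector_over_assoc, Scheme.Hom.resLE_map, Scheme.Hom.map_resLE]
    · ext j
      simp only [Function.comp_apply, homOfVector_appTop_coord]
  have h1 : IsOpenImmersion (AffineSpace.map n (Y.homOfLE hU)) := isOpenImmersion_map n _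
  have h2 : Etale (AffineSpace.homOfVector (f.resLE U V hVU) ((X.homOfLE hV).appTop ∘ v₁) ≫
      AffineSpace.map n (Y.homOfLE hU)) := by
    rw [hcomm]; infer_instance
  exact MorphismProperty.of_postcomp (W := @Etale) (W' := @Etale) _
    (AffineSpace.map n (Y.homOfLE hU)) inferInstance h2

end Groth.Agent.Lib.Helper7.AffineChart
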