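import Groth.Agent.Lib.Helper7.EtaleNbhd

/-!
# Étale neighbourhoods adapted to a locally quasi-finite subscheme (helper7)
-/

set_option autoImplicit false
set_option linter.style.haveILetI false
open CategoryTheory CategoryTheory.Limits AlgebraicGeometry
universe u

namespace Groth.Agent.Lib.Helper7.AdaptedNbhd

open Groth.Agent.Lib.Helper7.EtaleNbhd

variable {Z X S T : Scheme.{u}}

/-- base change of `i` along `X ×_S T ⟶ X` -/
noncomputable def iT (f : X ⟶ S) (i : Z ⟶ X) (g : T ⟶ S) : pullback (i ≫ f) g ⟶ pullback f g :=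
  pullback.lift (pullback.fst (i ≫ f) g ≫ i) (pullback.snd (i ≫ f) g)
    (by rw [Category.assoc, pullback.condition])

@[reassoc (attr := simp)]
theorem iT_fst (f : X ⟶ S) (i : Z ⟶ X) (g : T ⟶ S) :
    iT f i g ≫ pullback.fst f g = pullback.fst (i ≫ f) g ≫ i := pullback.lift_fst _ _ _

@[reassoc (attr := simp)]
theorem iT_snd (f : X ⟶ S) (i : Z ⟶ X) (g : T ⟶ S) :
    iT f i g ≫ pullback.snd f g = pullback.snd (i ≫ f) g := pullback.lift_snd _ _ _

theorem isPullback_iT (f : X ⟶ S) (i : Z ⟶ X) (g : T ⟶ S) :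
    IsPullback (iT f i g) (pullback.fst (i ≫ f) g) (pullback.fst f g) i := by
  have s : IsPullback (iT f i g ≫ pullback.snd f g) (pullback.fst (i ≫ f) g) g (i ≫ f) := by
    rw [iT_snd]
    exact (IsPullback.of_hasPullback (i ≫ f) g).flip
  exact IsPullback.of_right s (iT_fst f i g) (IsPullback.of_hasPullback f g).flip

instance (f : X ⟶ S) (i : Z ⟶ X) [IsImmersion i] (g : T ⟶ S) : IsImmersion (iT f i g) :=
  MorphismProperty.of_isPullback (isPullback_iT f i g).flip inferInstance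

instance (f : X ⟶ S) (i : Z ⟶ X) [IsOpenImmersion i] (g : T ⟶ S) : IsOpenImmersion (iT f i g) :=
  MorphismProperty.of_isPullback (isPullback_iT f i g).flip inferInstance

theorem main (f : X ⟶ S) [LocallyOfFiniteType f] (i : Z ⟶ X) [IsImmersion i]
    [LocallyQuasiFinite (i ≫ f)] (z : Z) :
    ∃ (T : Scheme.{u}) (g : T ⟶ S) (U : (pullback f g).Opens)
      (u : ↥(pullback (U.ι ≫ pullback.fst f g) i)),
      Etale g ∧
      IsFinite (pullback.fst (U.ι ≫ pullback.fst f g) i ≫ U.ι ≫ pullback.snd f g) ∧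
      (pullback.snd (U.ι ≫ pullback.fst f g) i).base u = z ∧
      IsIso ((pullback.snd (U.ι ≫ pullback.fst f g) i).residueFieldMap u) ∧
      ∀ u' : ↥(pullback (U.ι ≫ pullback.fst f g) i),
        (pullback.fst (U.ι ≫ pullback.fst f g) i ≫ U.ι ≫ pullback.snd f g).base u' =
          (pullback.fst (U.ι ≫ pullback.fst f g) i ≫ U.ι ≫ pullback.snd f g).base u → u' = u := by
  classical
  obtain ⟨Z₀, hZ₀, hzZ₀, -⟩ := exists_isAffineOpen_mem_and_subset (x := z) (U := ⊤) trivial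
  haveI : IsAffine (Z₀ : Scheme.{u}) := hZ₀
  set h : Z ⟶ S := i ≫ f with hh
  haveI : LocallyOfFiniteType h := by rw [hh]; infer_instance
  haveI : LocallyQuasiFinite h := ‹_›
  set h₀ : (Z₀ : Scheme.{u}) ⟶ S := Z₀.ι ≫ h with hh₀
  haveI : LocallyOfFiniteType h₀ := by rw [hh₀]; infer_instance
  haveI : LocallyQuasiFinite h₀ := by rw [hh₀]; infer_instance
  haveI : IsSeparated h₀ := inferInstance
  obtain ⟨T, g, t, hg, hgt, hκ, V, W, v, hVW, hVfin, hv1, hv2, hvuniq⟩ :=
    exists_etale_isCompl_of_quasiFiniteAt' h₀ (x := ⟨z, hzZ₀⟩) (h₀.quasiFiniteAt _)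
  -- the open immersion `Z₀ ×_S T ⟶ Z ×_S T` and the immersion `Z ×_S T ⟶ X ×_S T`
  set o : pullback h₀ g ⟶ pullback h g := iT h Z₀.ι g with ho
  set iT' : pullback h g ⟶ pullback f g := iT f i g with hiT'
  -- an open of `X ×_S T` cutting out the image of `V`
  obtain ⟨U₀, hU₀o, hU₀⟩ := (iT'.isEmbedding.isInducing.isOpen_iff
    (s := ((o ''ᵁ V : (pullback h g).Opens) : Set ↥(pullback h g)))).mp (o ''ᵁ V).2
  set U : (pullback f g).Opens := ⟨U₀, hU₀o⟩ with hU
  have hUpre : iT' ⁻¹ᵁ U = o ''ᵁ V := TopologicalSpace.Opens.ext hU₀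
  -- `V ⟶ U`
  have hrange : Set.range ((V.ι ≫ o) ≫ iT') ⊆ Set.range U.ι := by
    rintro _ ⟨p, rfl⟩
    rw [Scheme.Opens.range_ι]
    have : o (V.ι p) ∈ iT' ⁻¹ᵁ U := by
      rw [hUpre]
      exact ⟨V.ι p, p.2, rfl⟩
    exact this
  set top : (V : Scheme.{u}) ⟶ U := IsOpenImmersion.lift U.ι ((V.ι ≫ o) ≫ iT') hrange with htop
  have htop_ι : top ≫ U.ι = (V.ι ≫ o) ≫ iT' := IsOpenImmersion.lift_fac _ _ _
  have hA : IsPullback top (V.ι ≫ o) U.ι iT' := by
    refine IsOpenImmersion.isPullback top (V.ι ≫ o) U.ι iT' htop_ι.symm ?_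
    rw [Scheme.Opens.opensRange_ι, hUpre, Scheme.Hom.opensRange_comp, Scheme.Opens.opensRange_ι]
  have hB : IsPullback iT' (pullback.fst h g) (pullback.fst f g) i := isPullback_iT f i g
  have hpb : IsPullback top ((V.ι ≫ o) ≫ pullback.fst h g) (U.ι ≫ pullback.fst f g) i :=
    hA.paste_vert hB
  set e : (V : Scheme.{u}) ≅ pullback (U.ι ≫ pullback.fst f g) i := hpb.isoPullback with he
  have he_fst : e.hom ≫ pullback.fst (U.ι ≫ pullback.fst f g) i = top := hpb.isoPullback_hom_fst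
  have he_snd : e.hom ≫ pullback.snd (U.ι ≫ pullback.fst f g) i = (V.ι ≫ o) ≫ pullback.fst h g :=
    hpb.isoPullback_hom_snd
  have ho_fst : o ≫ pullback.fst h g = pullback.fst h₀ g ≫ Z₀.ι := iT_fst h Z₀.ι g
  have ho_snd : o ≫ pullback.snd h g = pullback.snd h₀ g := iT_snd h Z₀.ι g
  have hT : e.hom ≫ (pullback.fst (U.ι ≫ pullback.fst f g) i ≫ U.ι ≫ pullback.snd f g) =
      V.ι ≫ pullback.snd h₀ g := by
    rw [reassoc_of% he_fst, reassoc_of% htop_ι, hiT', iT_snd, ho_snd]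
  -- the section through `v`
  haveI : IsIso (g.residueFieldMap t) := hκ
  obtain ⟨τ, hτ, hτpt⟩ := exists_section_of_isIso g t
  have hβr : Set.range (Z.fromSpecResidueField z) ⊆ Set.range Z₀.ι := by
    rintro _ ⟨p, rfl⟩
    rw [Scheme.Opens.range_ι, Scheme.fromSpecResidueField_apply]
    exact hzZ₀
  set β : Spec (Z.residueField z) ⟶ (Z₀ : Scheme.{u}) :=
    IsOpenImmersion.lift Z₀.ι (Z.fromSpecResidueField z) hβr with hβdef
  have hβ : β ≫ Z₀.ι = Z.fromSpecResidueField z := IsOpenImmersion.lift_fac _ _ _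
  have hgt' : g t = h z := hgt
  set γ : Spec (Z.residueField z) ⟶ T :=
    Spec.map (h.residueFieldMap z) ≫ Spec.map (S.residueFieldCongr hgt').hom ≫ τ with hγdef
  have hγ : γ ≫ g = Z.fromSpecResidueField z ≫ h := by
    rw [hγdef, Category.assoc, Category.assoc, hτ, Scheme.residueFieldCongr_fromSpecResidueField,
      Scheme.Hom.SpecMap_residueFieldMap_fromSpecResidueField]
  set σ₀ : Spec (Z.residueField z) ⟶ pullback h₀ g :=
    pullback.lift β γ (by rw [hh₀, reassoc_of% hβ, hγ]) with hσ₀def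
  have hσ₀_fst : σ₀ ≫ pullback.fst h₀ g = β := pullback.lift_fst _ _ _
  have hσ₀_snd : σ₀ ≫ pullback.snd h₀ g = γ := pullback.lift_snd _ _ _
  obtain ⟨cp, hcp⟩ : ∃ cp : ↥(Spec (Z.residueField z)),
      cp = IsLocalRing.closedPoint (Z.residueField z) := ⟨_, rfl⟩
  have hγcp : γ cp = t := by
    simp only [hγdef, Scheme.Hom.comp_apply]
    exact hτpt _
  have hβcp : β cp = ⟨z, hzZ₀⟩ := by
    apply Subtype.ext
    have := congrArg (fun φ : Spec (Z.residueField z) ⟶ Z => φ cp) hβ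
    simp only [Scheme.Hom.comp_apply, Scheme.fromSpecResidueField_apply] at this
    exact this
  have hwv : σ₀ cp = v.1 := by
    refine eq_of_fst_eq_of_snd_eq h₀ g _ _ ?_ ?_ ?_
    · rw [← Scheme.Hom.comp_apply, hσ₀_fst, hβcp, hv1]
    · rw [← Scheme.Hom.comp_apply, hσ₀_snd, hγcp, hv2]
    · rw [hv2]
      exact hκ
  have hσ₀r : Set.range σ₀ ⊆ Set.range V.ι := by
    rintro _ ⟨p, rfl⟩
    rw [Scheme.Opens.range_ι]
    have hp : p = cp := Subsingleton.elim _ _
    rw [hp, hwv]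
    exact v.2
  set σV : Spec (Z.residueField z) ⟶ (V : Scheme.{u}) := IsOpenImmersion.lift V.ι σ₀ hσ₀r with hσVdef
  have hσV : σV ≫ V.ι = σ₀ := IsOpenImmersion.lift_fac _ _ _
  have hσVcp : σV cp = v := by
    apply Subtype.ext
    have := congrArg (fun φ : Spec (Z.residueField z) ⟶ pullback h₀ g => φ cp) hσV
    simp only [Scheme.Hom.comp_apply] at this
    rw [← hwv]
    exact this
  set σ : Spec (Z.residueField z) ⟶ pullback (U.ι ≫ pullback.fst f g) i := σV ≫ e.hom with hσdef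
  have hσ : σ ≫ pullback.snd (U.ι ≫ pullback.fst f g) i = Z.fromSpecResidueField z := by
    rw [hσdef, Category.assoc, he_snd, Category.assoc, ho_fst, reassoc_of% hσV,
      reassoc_of% hσ₀_fst, hβ]
  obtain ⟨hu1, hu2⟩ := isIso_residueFieldMap_of_section (pullback.snd (U.ι ≫ pullback.fst f g) i) z σ hσ
  rw [← hcp] at hu1 hu2
  have hσcp : σ cp = e.hom v := by
    rw [hσdef, Scheme.Hom.comp_apply, hσVcp]
  have key : ∀ q : ↥(pullback (U.ι ≫ pullback.fst f g) i),
      (pullback.fst (U.ι ≫ pullback.fst f g) i ≫ U.ι ≫ pullback.snd f g) q = t → q = e.hom v := by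
    intro q hq
    have h1 : (V.ι ≫ pullback.snd h₀ g) (e.inv q) = t := by
      rw [← hT, Scheme.Hom.comp_apply, ← Scheme.Hom.comp_apply e.inv e.hom, e.inv_hom_id]
      exact hq
    have h2 : e.inv q = v := hvuniq _ h1
    rw [← h2, ← Scheme.Hom.comp_apply, e.inv_hom_id]
    rfl
  have hut : (pullback.fst (U.ι ≫ pullback.fst f g) i ≫ U.ι ≫ pullback.snd f g) (e.hom v) = t := by
    have h3 := congrArg (fun φ : (V : Scheme.{u}) ⟶ T => φ v) hT
    simp only [Scheme.Hom.comp_apply] at h3 ⊢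
    exact h3.trans hv2
  refine ⟨T, g, U, σ cp, hg, ?_, hu1, hu2, ?_⟩
  · haveI : MorphismProperty.RespectsIso (@IsFinite : MorphismProperty Scheme.{u}) :=
      MorphismProperty.IsStableUnderBaseChange.respectsIso
    rw [← MorphismProperty.cancel_left_of_respectsIso (@IsFinite : MorphismProperty Scheme.{u})
      e.hom, hT]
    exact hVfin
  · intro u' hu'
    rw [hσcp] at hu' ⊢
    exact key u' (hu'.trans hut)

end Groth.Agent.Lib.Helper7.AdaptedNbhd
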