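import Mathlib.AlgebraicGeometry.IdealSheaf.Basic
import Mathlib.AlgebraicGeometry.Noetherian
import Mathlib.RingTheory.Ideal.KrullsHeightTheorem
import Mathlib.RingTheory.Ideal.Height

set_option autoImplicit false

namespace Groth.Agent.Lib.Helper7

open AlgebraicGeometry CategoryTheory Limits TopologicalSpace

universe u

variable {X : Scheme.{u}} {U : X.Opens} (hU : IsAffineOpen U)

include hU in
theorem mem_zeroLocus_iff_le_primeIdealOf (s : Set Γ(X, U)) (x : X) (hx : x ∈ U) :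
    x ∈ X.zeroLocus s ↔ s ⊆ (hU.primeIdealOf ⟨x, hx⟩).asIdeal := by
  have h1 : hU.fromSpec (hU.primeIdealOf ⟨x, hx⟩) = x := hU.fromSpec_primeIdealOf ⟨x, hx⟩
  have h2 := Set.ext_iff.mp (hU.fromSpec_preimage_zeroLocus s) (hU.primeIdealOf ⟨x, hx⟩)
  rw [Set.mem_preimage, h1] at h2
  exact h2.trans (PrimeSpectrum.mem_zeroLocus _ _)

include hU in
theorem primeIdealOf_fromSpec (q : PrimeSpectrum Γ(X, U)) (hq : hU.fromSpec q ∈ U) :
    hU.primeIdealOf ⟨hU.fromSpec q, hq⟩ = q := by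
  have h1 : hU.fromSpec (hU.primeIdealOf ⟨hU.fromSpec q, hq⟩) = hU.fromSpec q :=
    hU.fromSpec_primeIdealOf ⟨hU.fromSpec q, hq⟩
  exact hU.fromSpec.isOpenEmbedding.injective h1

include hU in
theorem fromSpec_mem (q : PrimeSpectrum Γ(X, U)) : hU.fromSpec q ∈ U := by
  have : hU.fromSpec q ∈ Set.range hU.fromSpec := ⟨q, rfl⟩
  rwa [hU.range_fromSpec] at this

include hU in
theorem fromSpec_specializes (q : PrimeSpectrum Γ(X, U)) (x : X) (hx : x ∈ U)
    (hle : q ≤ hU.primeIdealOf ⟨x, hx⟩) : hU.fromSpec q ⤳ x := by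
  have h1 : hU.fromSpec (hU.primeIdealOf ⟨x, hx⟩) = x := hU.fromSpec_primeIdealOf ⟨x, hx⟩
  rw [← h1]
  exact ((PrimeSpectrum.le_iff_specializes _ _).mp hle).map hU.fromSpec.continuous

end Groth.Agent.Lib.Helper7

namespace Groth.Agent.Lib.Helper7

open AlgebraicGeometry CategoryTheory Limits TopologicalSpace

universe u

/-- A point of the support of an ideal sheaf which is maximal under generisation inside the support
corresponds, on an affine open where the ideal is `I`, to a minimal prime over `I`. -/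
theorem primeIdealOf_mem_minimalPrimes {X : Scheme.{u}} (D : X.IdealSheafData) (ξ : X)
    (hξ : ξ ∈ (D.support : Set X)) (hgen : ∀ y ∈ (D.support : Set X), y ⤳ ξ → y = ξ)
    (U : X.affineOpens) (hξU : ξ ∈ U.1) :
    (U.2.primeIdealOf ⟨ξ, hξU⟩).asIdeal ∈ (D.ideal U).minimalPrimes := by
  have hU := U.2
  have h1 : (D.ideal U : Set Γ(X, U.1)) ⊆ (hU.primeIdealOf ⟨ξ, hξU⟩).asIdeal := by
    rw [← mem_zeroLocus_iff_le_primeIdealOf hU]
    exact (Scheme.IdealSheafData.mem_support_iff_of_mem hξU).mp hξ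
  refine ⟨⟨(hU.primeIdealOf ⟨ξ, hξU⟩).2, h1⟩, ?_⟩
  rintro q ⟨hqp, hqI⟩ hle
  let q' : PrimeSpectrum Γ(X, U.1) := ⟨q, hqp⟩
  have hyU : hU.fromSpec q' ∈ U.1 := fromSpec_mem hU q'
  have hy : hU.fromSpec q' ∈ (D.support : Set X) := by
    rw [SetLike.mem_coe, Scheme.IdealSheafData.mem_support_iff_of_mem hyU,
      mem_zeroLocus_iff_le_primeIdealOf hU _ _ hyU, primeIdealOf_fromSpec hU q' hyU]
    exact hqI
  have hsp : hU.fromSpec q' ⤳ ξ := fromSpec_specializes hU q' ξ hξU hle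
  have heq := hgen _ hy hsp
  have : hU.primeIdealOf ⟨ξ, hξU⟩ = q' := by
    rw [← primeIdealOf_fromSpec hU q' hyU]
    congr 1
    exact Subtype.ext heq.symm
  rw [this]

theorem ringKrullDim_stalk_eq_height {X : Scheme.{u}} (U : X.affineOpens) (ξ : X) (hξU : ξ ∈ U.1) :
    ringKrullDim (X.presheaf.stalk ξ) = (U.2.primeIdealOf ⟨ξ, hξU⟩).asIdeal.height := by
  letI : Algebra Γ(X, U.1) (X.presheaf.stalk ξ) :=
    TopCat.Presheaf.algebra_section_stalk X.presheaf (⟨ξ, hξU⟩ : U.1)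
  have : IsLocalization.AtPrime (X.presheaf.stalk ξ) (U.2.primeIdealOf ⟨ξ, hξU⟩).asIdeal :=
    U.2.isLocalization_stalk ⟨ξ, hξU⟩
  exact IsLocalization.AtPrime.ringKrullDim_eq_height (U.2.primeIdealOf ⟨ξ, hξU⟩).asIdeal
    (X.presheaf.stalk ξ)

end Groth.Agent.Lib.Helper7
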