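import Groth.Agent.Lib.Helper7.DescentIdeal
import Mathlib

/-!
# Descent of closed subschemes along flat surjective open morphisms (helper7)

Let `f : U ⟶ X` be flat, surjective and open, and `J` an ideal sheaf on `U` satisfying the
descent condition on functors of points (`DescCond`): for `a b : T ⟶ U` with `a ≫ f = b ≫ f`, `a`
factors through `V(J)` iff `b` does.  Then `J = I.comap f` for an ideal sheaf `I` on `X`, i.e. the
closed subscheme `V(J)` is the preimage of a closed subscheme of `X`.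
-/

set_option autoImplicit false
set_option backward.isDefEq.respectTransparency false
universe u
open AlgebraicGeometry CategoryTheory Limits TensorProduct

namespace Groth.Agent.Lib.Helper7.ClosedDescent

open Groth.Agent.Lib.Helper7

lemma appLE_SpecMap_fromSpec {X : Scheme.{u}} {W : X.Opens} (hW : IsAffineOpen W)
    {R : CommRingCat.{u}} (ψ : Γ(X, W) ⟶ R) (e : ⊤ ≤ (Spec.map ψ ≫ hW.fromSpec) ⁻¹ᵁ W) :
    (Spec.map ψ ≫ hW.fromSpec).appLE W ⊤ e ≫ (Scheme.ΓSpecIso R).hom = ψ := by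
  have e' : ⊤ ≤ Spec.map ψ ⁻¹ᵁ hW.fromSpec ⁻¹ᵁ W := e
  have key : (Spec.map ψ ≫ hW.fromSpec).appLE W ⊤ e =
      hW.fromSpec.app W ≫ (Spec.map ψ).appLE (hW.fromSpec ⁻¹ᵁ W) ⊤ e' :=
    Scheme.Hom.comp_appLE _ _ _ _ _
  rw [key, hW.fromSpec_app_self]
  simp only [Category.assoc]
  rw [Scheme.Hom.map_appLE_assoc]
  have : (Spec.map ψ).appLE ⊤ ⊤ (by simp) = (Spec.map ψ).appTop := by
    rw [Scheme.Hom.appTop, Scheme.Hom.app_eq_appLE]; rfl
  rw [this, Scheme.ΓSpecIso_naturality, Iso.inv_hom_id_assoc]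

/-- A morphism `Spec R ⟶ X` through an affine open `W` factors through `V(J)` iff the ring map
kills `J(W)`. -/
lemma le_ker_SpecMap_fromSpec_iff {X : Scheme.{u}} (J : X.IdealSheafData) {W : X.Opens}
    (hW : IsAffineOpen W)
    {R : CommRingCat.{u}} (ψ : Γ(X, W) ⟶ R) :
    J ≤ (Spec.map ψ ≫ hW.fromSpec).ker ↔ J.ideal ⟨W, hW⟩ ≤ RingHom.ker ψ.hom := by
  constructor
  · intro h x hx
    have h1 := (Scheme.Hom.ideal_ker_le (Spec.map ψ ≫ hW.fromSpec) ⟨W, hW⟩) (h ⟨W, hW⟩ hx)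
    rw [RingHom.mem_ker] at h1 ⊢
    have e : ⊤ ≤ (Spec.map ψ ≫ hW.fromSpec) ⁻¹ᵁ W := by
      rw [Scheme.Hom.comp_preimage, hW.fromSpec_preimage_self]; simp
    have h2 := appLE_SpecMap_fromSpec hW ψ e
    rw [← h2]
    simp only [Scheme.Hom.appLE, CommRingCat.hom_comp, RingHom.coe_comp, Function.comp_apply]
    rw [h1, map_zero, map_zero]
  · intro h
    let ψ' : CommRingCat.of (Γ(X, W) ⧸ J.ideal ⟨W, hW⟩) ⟶ R :=
      CommRingCat.ofHom (Ideal.Quotient.lift (J.ideal ⟨W, hW⟩) ψ.hom (fun x hx => h hx))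
    have hψ : ψ = CommRingCat.ofHom (Ideal.Quotient.mk (J.ideal ⟨W, hW⟩)) ≫ ψ' := by
      ext x
      exact (Ideal.Quotient.lift_mk (J.ideal ⟨W, hW⟩) ψ.hom (fun x hx => h hx)).symm
    have : Spec.map ψ ≫ hW.fromSpec =
        (Spec.map ψ' ≫ J.subschemeCover.f ⟨W, hW⟩) ≫ J.subschemeι := by
      rw [Category.assoc, J.subschemeCover_map_subschemeι, J.glueDataObjι_ι, hψ, Spec.map_comp,
        Category.assoc]
    rw [this]
    conv_lhs => rw [← J.ker_subschemeι]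
    exact Scheme.Hom.le_ker_comp _ _

variable {U X : Scheme.{u}} (f : U ⟶ X) (J : U.IdealSheafData)

/-- The functor-of-points descent condition. -/
def DescCond : Prop :=
  ∀ {T : Scheme.{u}} (a b : T ⟶ U), a ≫ f = b ≫ f → J ≤ a.ker → J ≤ b.ker

variable {f J}

lemma desc_le (hD : DescCond f J) {V : X.Opens} (hV : IsAffineOpen V) {U₁ U₂ : U.Opens}
    (hU₁ : IsAffineOpen U₁) (hU₂ : IsAffineOpen U₂) (h₁ : U₁ ≤ f ⁻¹ᵁ V) (h₂ : U₂ ≤ f ⁻¹ᵁ V) :
    letI := (f.appLE V U₁ h₁).hom.toAlgebra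
    letI := (f.appLE V U₂ h₂).hom.toAlgebra
    (J.ideal ⟨U₁, hU₁⟩).map
      (Algebra.TensorProduct.includeLeft : Γ(U, U₁) →ₐ[Γ(X, V)] Γ(U, U₁) ⊗[Γ(X, V)] Γ(U, U₂)) ≤
    (J.ideal ⟨U₂, hU₂⟩).map
      (Algebra.TensorProduct.includeRight : Γ(U, U₂) →ₐ[Γ(X, V)] Γ(U, U₁) ⊗[Γ(X, V)] Γ(U, U₂)) := by
  let _ := (f.appLE V U₁ h₁).hom.toAlgebra
  let _ := (f.appLE V U₂ h₂).hom.toAlgebra
  set K : Ideal (Γ(U, U₁) ⊗[Γ(X, V)] Γ(U, U₂)) := (J.ideal ⟨U₂, hU₂⟩).map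
      (Algebra.TensorProduct.includeRight : Γ(U, U₂) →ₐ[Γ(X, V)] Γ(U, U₁) ⊗[Γ(X, V)] Γ(U, U₂)) with hK
  let ψ₁ : Γ(U, U₁) ⟶ CommRingCat.of ((Γ(U, U₁) ⊗[Γ(X, V)] Γ(U, U₂)) ⧸ K) :=
    CommRingCat.ofHom ((Ideal.Quotient.mk K).comp
      (Algebra.TensorProduct.includeLeft : Γ(U, U₁) →ₐ[Γ(X, V)] Γ(U, U₁) ⊗[Γ(X, V)] Γ(U, U₂)).toRingHom)
  let ψ₂ : Γ(U, U₂) ⟶ CommRingCat.of ((Γ(U, U₁) ⊗[Γ(X, V)] Γ(U, U₂)) ⧸ K) :=
    CommRingCat.ofHom ((Ideal.Quotient.mk K).comp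
      (Algebra.TensorProduct.includeRight : Γ(U, U₂) →ₐ[Γ(X, V)] Γ(U, U₁) ⊗[Γ(X, V)] Γ(U, U₂)).toRingHom)
  have hψ : f.appLE V U₁ h₁ ≫ ψ₁ = f.appLE V U₂ h₂ ≫ ψ₂ := by
    ext x
    simp only [CommRingCat.hom_comp, CommRingCat.hom_ofHom, RingHom.coe_comp, Function.comp_apply,
      ψ₁, ψ₂, AlgHom.toRingHom_eq_coe, RingHom.coe_coe]
    congr 1
    have e1 : (f.appLE V U₁ h₁).hom x = algebraMap Γ(X, V) Γ(U, U₁) x := rfl
    have e2 : (f.appLE V U₂ h₂).hom x = algebraMap Γ(X, V) Γ(U, U₂) x := rfl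
    rw [e1, e2, AlgHom.commutes, AlgHom.commutes]
  have hab : (Spec.map ψ₂ ≫ hU₂.fromSpec) ≫ f = (Spec.map ψ₁ ≫ hU₁.fromSpec) ≫ f := by
    rw [Category.assoc, Category.assoc, ← IsAffineOpen.SpecMap_appLE_fromSpec f hV hU₂ h₂,
      ← IsAffineOpen.SpecMap_appLE_fromSpec f hV hU₁ h₁, ← Spec.map_comp_assoc,
      ← Spec.map_comp_assoc, hψ]
  have hb : J ≤ (Spec.map ψ₂ ≫ hU₂.fromSpec).ker := by
    rw [le_ker_SpecMap_fromSpec_iff]
    intro x hx
    rw [RingHom.mem_ker]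
    simp only [ψ₂, CommRingCat.hom_ofHom, RingHom.coe_comp, Function.comp_apply]
    rw [Ideal.Quotient.eq_zero_iff_mem]
    exact Ideal.mem_map_of_mem _ hx
  have ha := hD _ _ hab hb
  rw [le_ker_SpecMap_fromSpec_iff] at ha
  rw [Ideal.map_le_iff_le_comap]
  intro x hx
  have := ha hx
  rw [RingHom.mem_ker] at this
  simp only [ψ₁, CommRingCat.hom_ofHom, RingHom.coe_comp, Function.comp_apply] at this
  rw [Ideal.Quotient.eq_zero_iff_mem] at this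
  exact this

lemma desc_ge (hD : DescCond f J) {V : X.Opens} (hV : IsAffineOpen V) {U₁ U₂ : U.Opens}
    (hU₁ : IsAffineOpen U₁) (hU₂ : IsAffineOpen U₂) (h₁ : U₁ ≤ f ⁻¹ᵁ V) (h₂ : U₂ ≤ f ⁻¹ᵁ V) :
    letI := (f.appLE V U₁ h₁).hom.toAlgebra
    letI := (f.appLE V U₂ h₂).hom.toAlgebra
    (J.ideal ⟨U₂, hU₂⟩).map
      (Algebra.TensorProduct.includeRight : Γ(U, U₂) →ₐ[Γ(X, V)] Γ(U, U₁) ⊗[Γ(X, V)] Γ(U, U₂)) ≤
    (J.ideal ⟨U₁, hU₁⟩).map
      (Algebra.TensorProduct.includeLeft : Γ(U, U₁) →ₐ[Γ(X, V)] Γ(U, U₁) ⊗[Γ(X, V)] Γ(U, U₂)) := by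
  let _ := (f.appLE V U₁ h₁).hom.toAlgebra
  let _ := (f.appLE V U₂ h₂).hom.toAlgebra
  set K : Ideal (Γ(U, U₁) ⊗[Γ(X, V)] Γ(U, U₂)) := (J.ideal ⟨U₁, hU₁⟩).map
      (Algebra.TensorProduct.includeLeft : Γ(U, U₁) →ₐ[Γ(X, V)] Γ(U, U₁) ⊗[Γ(X, V)] Γ(U, U₂)) with hK
  let ψ₁ : Γ(U, U₁) ⟶ CommRingCat.of ((Γ(U, U₁) ⊗[Γ(X, V)] Γ(U, U₂)) ⧸ K) :=
    CommRingCat.ofHom ((Ideal.Quotient.mk K).comp
      (Algebra.TensorProduct.includeLeft : Γ(U, U₁) →ₐ[Γ(X, V)] Γ(U, U₁) ⊗[Γ(X, V)] Γ(U, U₂)).toRingHom)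
  let ψ₂ : Γ(U, U₂) ⟶ CommRingCat.of ((Γ(U, U₁) ⊗[Γ(X, V)] Γ(U, U₂)) ⧸ K) :=
    CommRingCat.ofHom ((Ideal.Quotient.mk K).comp
      (Algebra.TensorProduct.includeRight : Γ(U, U₂) →ₐ[Γ(X, V)] Γ(U, U₁) ⊗[Γ(X, V)] Γ(U, U₂)).toRingHom)
  have hψ : f.appLE V U₁ h₁ ≫ ψ₁ = f.appLE V U₂ h₂ ≫ ψ₂ := by
    ext x
    simp only [CommRingCat.hom_comp, CommRingCat.hom_ofHom, RingHom.coe_comp, Function.comp_apply,
      ψ₁, ψ₂, AlgHom.toRingHom_eq_coe, RingHom.coe_coe]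
    congr 1
    have e1 : (f.appLE V U₁ h₁).hom x = algebraMap Γ(X, V) Γ(U, U₁) x := rfl
    have e2 : (f.appLE V U₂ h₂).hom x = algebraMap Γ(X, V) Γ(U, U₂) x := rfl
    rw [e1, e2, AlgHom.commutes, AlgHom.commutes]
  have hab : (Spec.map ψ₁ ≫ hU₁.fromSpec) ≫ f = (Spec.map ψ₂ ≫ hU₂.fromSpec) ≫ f := by
    rw [Category.assoc, Category.assoc, ← IsAffineOpen.SpecMap_appLE_fromSpec f hV hU₂ h₂,
      ← IsAffineOpen.SpecMap_appLE_fromSpec f hV hU₁ h₁, ← Spec.map_comp_assoc,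
      ← Spec.map_comp_assoc, hψ]
  have ha : J ≤ (Spec.map ψ₁ ≫ hU₁.fromSpec).ker := by
    rw [le_ker_SpecMap_fromSpec_iff]
    intro x hx
    rw [RingHom.mem_ker]
    simp only [ψ₁, CommRingCat.hom_ofHom, RingHom.coe_comp, Function.comp_apply]
    rw [Ideal.Quotient.eq_zero_iff_mem]
    exact Ideal.mem_map_of_mem _ hx
  have hb := hD _ _ hab ha
  rw [le_ker_SpecMap_fromSpec_iff] at hb
  rw [Ideal.map_le_iff_le_comap]
  intro x hx
  have := hb hx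
  rw [RingHom.mem_ker] at this
  simp only [ψ₂, CommRingCat.hom_ofHom, RingHom.coe_comp, Function.comp_apply] at this
  rw [Ideal.Quotient.eq_zero_iff_mem] at this
  exact this

variable (f) in
/-- Affine opens of the source lying over a given open of the target. -/
abbrev AffBelow (V : X.Opens) := {W : U.affineOpens // W.1 ≤ f ⁻¹ᵁ V}

lemma map_ne_top_of_mem {V : X.Opens} (hV : IsAffineOpen V) (k : AffBelow f V) (u : U)
    (hu : u ∈ k.1.1) (𝔭 : PrimeSpectrum Γ(X, V)) (h : hV.fromSpec 𝔭 = f u) :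
    𝔭.asIdeal.map (f.appLE V k.1.1 k.2).hom ≠ ⊤ := by
  have h1 := IsAffineOpen.comap_primeIdealOf_appLE (f := f) (x := u) V hV k.1.1 k.1.2 k.2 hu
  have h2 : hV.primeIdealOf ⟨f u, k.2 hu⟩ = 𝔭 := by
    apply hV.fromSpec.isOpenEmbedding.injective
    rw [hV.fromSpec_primeIdealOf, h]
  rw [h2] at h1
  intro htop
  have hle : 𝔭.asIdeal.map (f.appLE V k.1.1 k.2).hom ≤ (k.1.2.primeIdealOf ⟨u, hu⟩).asIdeal := by
    rw [Ideal.map_le_iff_le_comap]
    have := congrArg PrimeSpectrum.asIdeal h1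
    simp only [PrimeSpectrum.comap_asIdeal] at this
    rw [← this]
  rw [htop, top_le_iff] at hle
  exact (k.1.2.primeIdealOf ⟨u, hu⟩).2.ne_top hle

lemma exists_affBelow_map_ne_top [Surjective f] {V : X.Opens} (hV : IsAffineOpen V)
    (𝔭 : Ideal Γ(X, V)) (h𝔭 : 𝔭.IsMaximal) :
    ∃ k : AffBelow f V, 𝔭.map (f.appLE V k.1.1 k.2).hom ≠ ⊤ := by
  let p : PrimeSpectrum Γ(X, V) := ⟨𝔭, h𝔭.isPrime⟩
  have hx : hV.fromSpec p ∈ (V : Set X) := by
    rw [← hV.range_fromSpec]; exact ⟨p, rfl⟩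
  obtain ⟨u, hu⟩ := f.surjective (hV.fromSpec p)
  have hu' : u ∈ f ⁻¹ᵁ V := by
    change f u ∈ V
    rw [hu]; exact hx
  obtain ⟨W, hW, huW, hWV⟩ :=
    TopologicalSpace.Opens.isBasis_iff_nbhd.mp U.isBasis_affineOpens hu'
  exact ⟨⟨⟨W, hW⟩, hWV⟩, map_ne_top_of_mem hV ⟨⟨W, hW⟩, hWV⟩ u huW p hu.symm⟩

lemma exists_finset_jointly_surjective [Surjective f] (hopen : IsOpenMap f) {V : X.Opens}
    (hV : IsAffineOpen V) :
    ∃ F : Finset (AffBelow f V), ∀ 𝔭 : Ideal Γ(X, V), 𝔭.IsMaximal →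
      ∃ k ∈ F, 𝔭.map (f.appLE V k.1.1 k.2).hom ≠ ⊤ := by
  classical
  have key : ∀ x : V, ∃ k : AffBelow f V, (x : X) ∈ f '' (k.1.1 : Set U) := by
    intro x
    obtain ⟨u, hu⟩ := f.surjective x.1
    have hu' : u ∈ f ⁻¹ᵁ V := by
      change f u ∈ V
      rw [hu]; exact x.2
    obtain ⟨W, hW, huW, hWV⟩ :=
      TopologicalSpace.Opens.isBasis_iff_nbhd.mp U.isBasis_affineOpens hu'
    exact ⟨⟨⟨W, hW⟩, hWV⟩, u, huW, hu⟩
  choose k hk using key
  obtain ⟨t, ht⟩ := hV.isCompact.elim_finite_subcover (fun x : V => f '' ((k x).1.1 : Set U))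
    (fun x => hopen _ (k x).1.1.isOpen) (fun y hy => Set.mem_iUnion.mpr ⟨⟨y, hy⟩, hk ⟨y, hy⟩⟩)
  refine ⟨t.image k, fun 𝔭 h𝔭 => ?_⟩
  let p : PrimeSpectrum Γ(X, V) := ⟨𝔭, h𝔭.isPrime⟩
  have hx : hV.fromSpec p ∈ (V : Set X) := by
    rw [← hV.range_fromSpec]; exact ⟨p, rfl⟩
  obtain ⟨i, hi⟩ := Set.mem_iUnion.mp (ht hx)
  obtain ⟨hit, u, hu, hfu⟩ := Set.mem_iUnion.mp hi
  exact ⟨k i, Finset.mem_image_of_mem _ hit, map_ne_top_of_mem hV (k i) u hu p hfu.symm⟩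

variable (f J) in
/-- The candidate descended ideal on an affine open of the target. -/
def Kf (V : X.affineOpens) : Ideal Γ(X, V.1) :=
  ⨅ k : AffBelow f V.1, (J.ideal k.1).comap (f.appLE V.1 k.1.1 k.2).hom

lemma mem_Kf {V : X.affineOpens} {y : Γ(X, V.1)} :
    y ∈ Kf f J V ↔ ∀ k : AffBelow f V.1, (f.appLE V.1 k.1.1 k.2).hom y ∈ J.ideal k.1 := by
  simp [Kf, Ideal.mem_iInf]

lemma exists_finset_descent [Flat f] [Surjective f] (hopen : IsOpenMap f) (hD : DescCond f J)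
    (V : X.affineOpens) :
    ∃ F : Finset (AffBelow f V.1),
      (∀ y : Γ(X, V.1), (∀ k ∈ F, (f.appLE V.1 k.1.1 k.2).hom y ∈ J.ideal k.1) → y ∈ Kf f J V) ∧
      ∀ l : AffBelow f V.1, (Kf f J V).map (f.appLE V.1 l.1.1 l.2).hom = J.ideal l.1 := by
  obtain ⟨F, hF⟩ := exists_finset_jointly_surjective (f := f) hopen V.2
  letI alg : ∀ k : AffBelow f V.1, Algebra Γ(X, V.1) Γ(U, k.1.1) :=
    fun k => (f.appLE V.1 k.1.1 k.2).hom.toAlgebra
  haveI : ∀ k : AffBelow f V.1, Module.Flat Γ(X, V.1) Γ(U, k.1.1) :=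
    fun k => Scheme.Hom.flat_appLE f V.2 k.1.2 k.2
  have main := DescentIdeal.map_descIdeal_eq (A := Γ(X, V.1))
    (fun k : AffBelow f V.1 => Γ(U, k.1.1)) (fun k => J.ideal k.1)
    (fun k l => le_antisymm (desc_le hD V.2 k.1.2 l.1.2 k.2 l.2)
      (desc_ge hD V.2 k.1.2 l.1.2 k.2 l.2)) F hF
  have hsub : ∀ y : Γ(X, V.1), (∀ k ∈ F, (f.appLE V.1 k.1.1 k.2).hom y ∈ J.ideal k.1) →
      y ∈ Kf f J V := by
    intro y hy
    rw [mem_Kf]
    intro l
    have hy' : y ∈ DescentIdeal.descIdeal (fun k : AffBelow f V.1 => Γ(U, k.1.1))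
        (fun k => J.ideal k.1) F := by
      rw [DescentIdeal.mem_descIdeal]
      exact hy
    have := Ideal.mem_map_of_mem (algebraMap Γ(X, V.1) Γ(U, l.1.1)) hy'
    rw [main l] at this
    exact this
  refine ⟨F, hsub, fun l => ?_⟩
  have hK : Kf f J V = DescentIdeal.descIdeal (fun k : AffBelow f V.1 => Γ(U, k.1.1))
      (fun k => J.ideal k.1) F := by
    apply le_antisymm
    · intro y hy
      rw [DescentIdeal.mem_descIdeal]
      intro k _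
      exact mem_Kf.mp hy k
    · intro y hy
      rw [DescentIdeal.mem_descIdeal] at hy
      exact hsub y hy
  rw [hK]
  exact main l


lemma exists_pow_mul_mem (V : X.affineOpens) (s x' : Γ(X, V.1))
    (hres : (X.presheaf.map (homOfLE (X.basicOpen_le s)).op).hom x' ∈
      Kf f J (X.affineBasicOpen s)) (k : AffBelow f V.1) :
    ∃ n : ℕ, (f.appLE V.1 k.1.1 k.2).hom s ^ n * (f.appLE V.1 k.1.1 k.2).hom x' ∈ J.ideal k.1 := by
  set r := (f.appLE V.1 k.1.1 k.2).hom s with hr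
  have hW' : U.basicOpen r ≤ f ⁻¹ᵁ X.basicOpen s := by
    simp [r, Scheme.Hom.appLE]
  have h1 : (f.appLE (X.basicOpen s) (U.basicOpen r) hW').hom
      ((X.presheaf.map (homOfLE (X.basicOpen_le s)).op).hom x') ∈ J.ideal (U.affineBasicOpen r) :=
    mem_Kf.mp hres ⟨U.affineBasicOpen r, hW'⟩
  have e1 : X.presheaf.map (homOfLE (X.basicOpen_le s)).op ≫
      f.appLE (X.basicOpen s) (U.basicOpen r) hW' =
      f.appLE V.1 k.1.1 k.2 ≫ U.presheaf.map (homOfLE (U.basicOpen_le r)).op :=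
    (Scheme.Hom.map_appLE f _ _).trans (Scheme.Hom.appLE_map f _ _).symm
  have e2 : (f.appLE (X.basicOpen s) (U.basicOpen r) hW').hom
      ((X.presheaf.map (homOfLE (X.basicOpen_le s)).op).hom x') =
      (U.presheaf.map (homOfLE (U.basicOpen_le r)).op).hom ((f.appLE V.1 k.1.1 k.2).hom x') :=
    congrArg (fun φ => φ.hom x') e1
  have h2 : (U.presheaf.map (homOfLE (U.basicOpen_le r)).op).hom
      ((f.appLE V.1 k.1.1 k.2).hom x') ∈ J.ideal (U.affineBasicOpen r) := e2 ▸ h1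
  rw [← J.map_ideal_basicOpen k.1 r] at h2
  have := k.1.2.isLocalization_basicOpen r
  obtain ⟨m, ⟨n, rfl⟩, hm⟩ := (IsLocalization.algebraMap_mem_map_algebraMap_iff
    (Submonoid.powers r) (S := Γ(U, U.basicOpen r)) (J.ideal k.1) _).mp h2
  exact ⟨n, hm⟩

lemma map_Kf_basicOpen [Flat f] [Surjective f] (hopen : IsOpenMap f) (hD : DescCond f J)
    (V : X.affineOpens) (s : Γ(X, V.1)) :
    (Kf f J V).map (X.presheaf.map (homOfLE (X.basicOpen_le s)).op).hom =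
      Kf f J (X.affineBasicOpen s) := by
  apply le_antisymm
  · rw [Ideal.map_le_iff_le_comap]
    intro y hy
    rw [Ideal.mem_comap, mem_Kf]
    intro k'
    have hk'' : k'.1.1 ≤ f ⁻¹ᵁ V.1 := k'.2.trans (f.preimage_mono (X.basicOpen_le s))
    have := mem_Kf.mp hy ⟨k'.1, hk''⟩
    have e : X.presheaf.map (homOfLE (X.basicOpen_le s)).op ≫
        f.appLE (X.affineBasicOpen s).1 k'.1.1 k'.2 = f.appLE V.1 k'.1.1 hk'' :=
      Scheme.Hom.map_appLE f _ _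
    rw [← e] at this
    exact this
  · intro x hx
    obtain ⟨F, hF, -⟩ := exists_finset_descent hopen hD V
    have := V.2.isLocalization_basicOpen s
    obtain ⟨x', ⟨_, n, rfl⟩, rfl⟩ := IsLocalization.exists_mk'_eq (.powers s) x
    refine (IsLocalization.mk'_mem_map_algebraMap_iff _ _ _ _ _).mpr ?_
    have hres : (X.presheaf.map (homOfLE (X.basicOpen_le s)).op).hom x' ∈
        Kf f J (X.affineBasicOpen s) := by
      have := Ideal.mul_mem_right ((X.presheaf.map (homOfLE (X.basicOpen_le s)).op).hom (s ^ n))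
        _ hx
      rwa [show (X.presheaf.map (homOfLE (X.basicOpen_le s)).op).hom (s ^ n) =
        algebraMap Γ(X, V.1) Γ(X, X.basicOpen s) ((⟨s ^ n, n, rfl⟩ : Submonoid.powers s) : Γ(X, V.1))
        from rfl, IsLocalization.mk'_spec] at this
    choose N hN using exists_pow_mul_mem (f := f) (J := J) V s x' hres
    refine ⟨s ^ (F.sup N), ⟨_, rfl⟩, hF _ (fun k hk => ?_)⟩
    rw [map_mul, map_pow]
    have hle : N k ≤ F.sup N := Finset.le_sup hk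
    obtain ⟨d, hd⟩ := Nat.exists_eq_add_of_le hle
    rw [hd, pow_add, mul_comm ((f.appLE V.1 k.1.1 k.2).hom s ^ N k), mul_assoc]
    exact Ideal.mul_mem_left _ _ (hN k)


lemma Kf_le_ker (V : X.affineOpens) :
    Kf f J V ≤ RingHom.ker ((J.subschemeι ≫ f).app V.1).hom := by
  intro y hy
  rw [RingHom.mem_ker]
  rw [mem_Kf] at hy
  have hle : ∀ k : AffBelow f V.1, J.subschemeι ⁻¹ᵁ k.1.1 ≤ (J.subschemeι ≫ f) ⁻¹ᵁ V.1 := by
    intro k
    rw [Scheme.Hom.comp_preimage]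
    exact J.subschemeι.preimage_mono k.2
  fapply J.subscheme.sheaf.eq_of_locally_eq' (fun k : AffBelow f V.1 => J.subschemeι ⁻¹ᵁ k.1.1) _
    (fun k => homOfLE (hle k))
  · intro x hx
    have hx' : J.subschemeι x ∈ f ⁻¹ᵁ V.1 := hx
    obtain ⟨W, hW, hxW, hWV⟩ :=
      TopologicalSpace.Opens.isBasis_iff_nbhd.mp U.isBasis_affineOpens hx'
    exact TopologicalSpace.Opens.mem_iSup.mpr ⟨⟨⟨W, hW⟩, hWV⟩, hxW⟩
  · intro k
    change (J.subscheme.presheaf.map _).hom _ = (J.subscheme.presheaf.map _).hom _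
    rw [map_zero]
    have e1 : (J.subschemeι ≫ f).app V.1 ≫ J.subscheme.presheaf.map (homOfLE (hle k)).op =
        f.appLE V.1 k.1.1 k.2 ≫ J.subschemeι.app k.1.1 := by
      rw [← Scheme.Hom.appLE, ← Scheme.Hom.appLE_eq_app (f := J.subschemeι),
        Scheme.Hom.appLE_comp_appLE]
    have e2 := congrArg (fun φ => φ.hom y) e1
    simp only [CommRingCat.hom_comp, RingHom.coe_comp, Function.comp_apply] at e2
    rw [e2]
    have := hy k
    rw [← J.ker_subschemeι_app k.1, RingHom.mem_ker] at this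
    exact this


lemma appLE_congr {P X : Scheme.{u}} {a b : P ⟶ X} (hab : a = b) (V : X.Opens) (O : P.Opens)
    (e₁ : O ≤ a ⁻¹ᵁ V) (e₂ : O ≤ b ⁻¹ᵁ V) : a.appLE V O e₁ = b.appLE V O e₂ := by
  subst hab; rfl

/-- The easy half of the affine-local description of the pullback of an ideal sheaf. -/
lemma map_ideal_le_comap_ideal (I : X.IdealSheafData) (V : X.affineOpens) (W : U.affineOpens)
    (e : W.1 ≤ f ⁻¹ᵁ V.1) :
    (I.ideal V).map (f.appLE V.1 W.1 e).hom ≤ (I.comap f).ideal W := by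
  rw [Ideal.map_le_iff_le_comap]
  intro y hy
  rw [Ideal.mem_comap]
  change _ ∈ (pullback.fst f I.subschemeι).ker.ideal W
  rw [Scheme.Hom.ker_apply, RingHom.mem_ker]
  have h1 : pullback.fst f I.subschemeι ⁻¹ᵁ W.1 ≤ (pullback.fst f I.subschemeι ≫ f) ⁻¹ᵁ V.1 := by
    rw [Scheme.Hom.comp_preimage]
    exact (pullback.fst f I.subschemeι).preimage_mono e
  have h2 : pullback.fst f I.subschemeι ⁻¹ᵁ W.1 ≤
      (pullback.snd f I.subschemeι ≫ I.subschemeι) ⁻¹ᵁ V.1 := by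
    rw [← pullback.condition]; exact h1
  have e1 : f.appLE V.1 W.1 e ≫ (pullback.fst f I.subschemeι).app W.1 =
      I.subschemeι.app V.1 ≫ (pullback.snd f I.subschemeι).appLE (I.subschemeι ⁻¹ᵁ V.1)
        (pullback.fst f I.subschemeι ⁻¹ᵁ W.1) h2 := by
    rw [← Scheme.Hom.appLE_eq_app (f := pullback.fst f I.subschemeι), Scheme.Hom.appLE_comp_appLE,
      ← Scheme.Hom.comp_appLE]
    exact appLE_congr pullback.condition _ _ _ _
  have e2 := congrArg (fun φ => φ.hom y) e1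
  simp only [CommRingCat.hom_comp, RingHom.coe_comp, Function.comp_apply] at e2
  rw [e2]
  rw [← I.ker_subschemeι_app V, RingHom.mem_ker] at hy
  rw [hy, map_zero]


/-- The descended ideal sheaf. -/
def descSheaf [Flat f] [Surjective f] (hopen : IsOpenMap f) (hD : DescCond f J) :
    X.IdealSheafData where
  ideal := Kf f J
  map_ideal_basicOpen V s := map_Kf_basicOpen hopen hD V s

theorem comap_descSheaf [Flat f] [Surjective f] (hopen : IsOpenMap f) (hD : DescCond f J) :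
    (descSheaf hopen hD).comap f = J := by
  apply le_antisymm
  · rw [← Scheme.IdealSheafData.le_map_iff_comap_le]
    change _ ≤ (J.subschemeι ≫ f).ker
    exact Scheme.IdealSheafData.le_ofIdeals_iff.mpr (fun V => Kf_le_ker V)
  · refine Scheme.IdealSheafData.le_of_iSup_eq_top
      (ι := Σ V : X.affineOpens, AffBelow f V.1) (fun p => p.2.1) ?_ ?_
    · rw [eq_top_iff]
      intro u _
      obtain ⟨V, hV, huV, -⟩ := TopologicalSpace.Opens.isBasis_iff_nbhd.mp X.isBasis_affineOpens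
        (show f u ∈ (⊤ : X.Opens) from trivial)
      have hu' : u ∈ f ⁻¹ᵁ V := huV
      obtain ⟨W, hW, huW, hWV⟩ :=
        TopologicalSpace.Opens.isBasis_iff_nbhd.mp U.isBasis_affineOpens hu'
      exact TopologicalSpace.Opens.mem_iSup.mpr ⟨⟨⟨V, hV⟩, ⟨⟨W, hW⟩, hWV⟩⟩, huW⟩
    · rintro ⟨V, l⟩
      obtain ⟨F, -, hmap⟩ := exists_finset_descent hopen hD V
      have h1 : (Kf f J V).map (f.appLE V.1 l.1.1 l.2).hom ≤
          ((descSheaf hopen hD).comap f).ideal l.1 :=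
        map_ideal_le_comap_ideal (f := f) (descSheaf hopen hD) V l.1 l.2
      exact (hmap l).symm.le.trans h1

/-- **Descent of closed subschemes** along a flat surjective open morphism. -/
theorem exists_isPullback_of_descCond (f : U ⟶ X) [Flat f] [Surjective f] (hopen : IsOpenMap f)
    {W' : Scheme.{u}} (i' : W' ⟶ U) [IsClosedImmersion i'] (hD : DescCond f i'.ker) :
    ∃ (W : Scheme.{u}) (i : W ⟶ X) (p : W' ⟶ W), IsClosedImmersion i ∧ IsPullback i' p f i := by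
  have hc := comap_descSheaf hopen hD
  have hle : (descSheaf hopen hD).subschemeι.ker ≤ (i' ≫ f).ker := by
    rw [Scheme.IdealSheafData.ker_subschemeι, ← Scheme.IdealSheafData.map_ker,
      Scheme.IdealSheafData.le_map_iff_comap_le, hc]
  refine ⟨(descSheaf hopen hD).subscheme, (descSheaf hopen hD).subschemeι,
    IsClosedImmersion.lift (descSheaf hopen hD).subschemeι (i' ≫ f) hle, inferInstance, ?_⟩
  refine isPullback_of_isClosedImmersion i' (descSheaf hopen hD).subschemeι _ f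
    (IsClosedImmersion.lift_fac _ _ _).symm ?_
  rw [Scheme.IdealSheafData.ker_subschemeι, hc]


/-- A flat surjective morphism is scheme-theoretically dominant (no quasi-compactness needed). -/
theorem ker_eq_bot_of_flat_of_surjective {T' T : Scheme.{u}} (t : T' ⟶ T) [Flat t] [Surjective t] :
    t.ker = ⊥ := by
  rw [eq_bot_iff]
  intro V y hy
  have h1 := Scheme.Hom.ideal_ker_le t V hy
  rw [RingHom.mem_ker] at h1
  rw [Scheme.IdealSheafData.ideal_bot, Pi.bot_apply, Ideal.mem_bot]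
  letI alg : ∀ k : AffBelow t V.1, Algebra Γ(T, V.1) Γ(T', k.1.1) :=
    fun k => (t.appLE V.1 k.1.1 k.2).hom.toAlgebra
  haveI : ∀ k : AffBelow t V.1, Module.Flat Γ(T, V.1) Γ(T', k.1.1) :=
    fun k => Scheme.Hom.flat_appLE t V.2 k.1.2 k.2
  refine DescentIdeal.eq_zero_of_forall_one_tmul_eq_zero (A := Γ(T, V.1))
    (fun k : AffBelow t V.1 => Γ(T', k.1.1))
    (fun 𝔭 h𝔭 => exists_affBelow_map_ne_top V.2 𝔭 h𝔭) (M := Γ(T, V.1)) y (fun k => ?_)
  have h2 : (t.appLE V.1 k.1.1 k.2).hom y = 0 := by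
    simp only [Scheme.Hom.appLE, CommRingCat.hom_comp, RingHom.coe_comp, Function.comp_apply]
    rw [h1, map_zero]
  have h3 : ((1 : Γ(T', k.1.1)) ⊗ₜ[Γ(T, V.1)] y) =
      ((algebraMap Γ(T, V.1) Γ(T', k.1.1) y) ⊗ₜ[Γ(T, V.1)] (1 : Γ(T, V.1))) := by
    rw [Algebra.algebraMap_eq_smul_one, TensorProduct.smul_tmul, smul_eq_mul, mul_one]
  rw [h3]
  have h4 : algebraMap Γ(T, V.1) Γ(T', k.1.1) y = 0 := h2
  rw [h4, TensorProduct.zero_tmul]

end Groth.Agent.Lib.Helper7.ClosedDescent
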