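import Groth.Agent.Lib.Helper13.ConormalStalk
import Groth.Agent.Lib.Helper13.OmegaZero

/-!
# The conormal sheaf of a first order thickening vanishes iff the thickening is an isomorphism
-/

set_option autoImplicit false
universe u
open AlgebraicGeometry CategoryTheory Limits TopologicalSpace

namespace Groth.Agent.Lib.Helper7.ConormalIso

open TensorProduct Groth.Agent.Lib.Helper13.ConormalStalk Groth.Agent.Lib.Helper13.OmegaZero

/-- For a surjection `B → A` with square-zero kernel `I`, vanishing of `A ⊗[B] I` forces `I = 0`. -/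
theorem ker_eq_bot_of_subsingleton_tensor {B A : Type u} [CommRing B] [CommRing A] [Algebra B A]
    (hπ : Function.Surjective (algebraMap B A))
    (hsq : ∀ x y : B, x ∈ RingHom.ker (algebraMap B A) → y ∈ RingHom.ker (algebraMap B A) →
      x * y = 0)
    (h : Subsingleton (A ⊗[B] (RingHom.ker (algebraMap B A)))) :
    RingHom.ker (algebraMap B A) = ⊥ := by
  set I := RingHom.ker (algebraMap B A) with hI
  let e₁ : (B ⧸ RingHom.ker (Algebra.ofId B A)) ≃ₐ[B] A :=
    Ideal.quotientKerAlgEquivOfSurjective (f := Algebra.ofId B A) hπ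
  let G : (A ⊗[B] I) ≃ₗ[B] (I ⧸ (I • ⊤ : Submodule B I)) :=
    (TensorProduct.congr e₁.symm.toLinearEquiv (LinearEquiv.refl B I)) ≪≫ₗ
      TensorProduct.quotTensorEquivQuotSMul I I
  have h1 : Subsingleton (I ⧸ (I • ⊤ : Submodule B I)) := G.symm.toEquiv.subsingleton
  have h2 : (I • ⊤ : Submodule B I) = ⊤ := Submodule.Quotient.subsingleton_iff.mp h1
  have h3 : ∀ z ∈ (I • ⊤ : Submodule B I), z = 0 := by
    intro z hz
    refine Submodule.smul_induction_on hz ?_ ?_
    · intro r hr n _
      apply Subtype.ext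
      show r * (n : B) = 0
      exact hsq r n hr n.2
    · intro x y hx hy
      rw [hx, hy, add_zero]
  rw [eq_bot_iff]
  intro x hx
  have := h3 ⟨x, hx⟩ (by rw [h2]; exact Submodule.mem_top)
  exact (Submodule.mem_bot B).mpr (congrArg Subtype.val this)

theorem subsingleton_tensor_right {R M N : Type*} [CommRing R] [AddCommGroup M] [AddCommGroup N]
    [Module R M] [Module R N] [Subsingleton N] : Subsingleton (M ⊗[R] N) := by
  refine ⟨fun a b => ?_⟩
  have hz : ∀ c : M ⊗[R] N, c = 0 := by
    intro c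
    induction c using TensorProduct.induction_on with
    | zero => rfl
    | tmul s k => rw [Subsingleton.elim k 0, TensorProduct.tmul_zero]
    | add c d hc hd => rw [hc, hd, add_zero]
  rw [hz a, hz b]

/-- The conormal sheaf of an isomorphism is zero. -/
theorem isZero_conormal_of_isIso {X X' : Scheme.{u}} (i : X ⟶ X') [IsIso i] :
    IsZero (Omega.conormal i) := by
  apply isZero_of_forall_exists_isZero_pullback
  intro x
  obtain ⟨_, ⟨W, hW, rfl⟩, hxW, -⟩ := X'.isBasis_affineOpens.exists_subset_of_mem_open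
    (Set.mem_univ (i x)) isOpen_univ
  have hU : IsAffineOpen (i ⁻¹ᵁ W) := hW.preimage i
  obtain ⟨e⟩ := nonempty_conormal_chart_iso i hW hU
  refine ⟨_, hU.fromSpec, inferInstance, ?_, ?_⟩
  · rw [hU.opensRange_fromSpec]
    exact hxW
  · refine IsZero.of_iso ?_ e
    rw [isZero_tilde_iff]
    have hinj : Function.Injective (i.app W).hom :=
      (ConcreteCategory.bijective_of_isIso (i.app W)).1
    have hker : RingHom.ker (i.app W).hom = ⊥ := (RingHom.injective_iff_ker_eq_bot _).mp hinj
    haveI : Subsingleton (RingHom.ker (i.app W).hom) := by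
      rw [hker]; infer_instance
    exact @subsingleton_tensor_right Γ(X', W) _ _ _ _ _ _ _ this

/-- A first order thickening with vanishing conormal sheaf is an isomorphism. -/
theorem isIso_of_isZero_conormal {X X' : Scheme.{u}} (i : X ⟶ X') [IsClosedImmersion i]
    (hsq : i.ker * i.ker = ⊥) (hz : IsZero (Omega.conormal i)) : IsIso i := by
  rw [IsClosedImmersion.isIso_iff_ker_eq_bot]
  refine Scheme.IdealSheafData.ext (funext fun W => ?_)
  rw [Scheme.Hom.ker_apply, Scheme.IdealSheafData.ideal_bot, Pi.bot_apply]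
  have hU : IsAffineOpen (i ⁻¹ᵁ W.1) := W.2.preimage i
  obtain ⟨e⟩ := nonempty_conormal_chart_iso i W.2 hU
  have h1 : IsZero ((Scheme.Modules.pullback hU.fromSpec).obj (Omega.conormal i)) :=
    (Scheme.Modules.pullback hU.fromSpec).map_isZero hz
  have h2 := (isZero_tilde_iff _).mp (h1.of_iso e.symm)
  letI := (i.app W.1).hom.toAlgebra
  have hsq' : ∀ x y : Γ(X', W.1), x ∈ RingHom.ker (i.app W.1).hom →
      y ∈ RingHom.ker (i.app W.1).hom → x * y = 0 := by
    intro x y hx hy
    have h3 : x * y ∈ (i.ker * i.ker).ideal W := by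
      rw [Scheme.IdealSheafData.ideal_mul, Pi.mul_apply, Scheme.Hom.ker_apply]
      exact Ideal.mul_mem_mul hx hy
    rw [hsq, Scheme.IdealSheafData.ideal_bot, Pi.bot_apply] at h3
    exact h3
  exact ker_eq_bot_of_subsingleton_tensor (B := Γ(X', W.1)) (A := Γ(X, i ⁻¹ᵁ W.1))
    (i.app_surjective W.1 W.2) hsq' h2

end Groth.Agent.Lib.Helper7.ConormalIso
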