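import Groth.Prelude.Def_W4stkflatp2Cpct
import Mathlib.AlgebraicGeometry.Morphisms.Immersion
import Mathlib.AlgebraicGeometry.Morphisms.Separated
import Mathlib.AlgebraicGeometry.Morphisms.QuasiSeparated
import Mathlib.AlgebraicGeometry.Morphisms.Proper
import Mathlib.CategoryTheory.Localization.CalculusOfFractions

/-!
# The category of compactifications: fractions
-/

set_option autoImplicit false
set_option linter.style.haveILetI false
set_option linter.unusedSectionVars false

namespace Groth.Agent.Lib.Helper7.CpctFrac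

universe u
open CategoryTheory Limits AlgebraicGeometry Cpct

variable {S : Scheme.{u}}

theorem restr_ι {A B : Pair S} (f : A ⟶ B) :
    restr f ≫ B.U.ι = A.U.ι ≫ (Pair.Hom.bar f).left := by
  simp [restr]

theorem restr_eq {A B : Pair S} (f : A ⟶ B) : restr f = (openOver.map f).left := rfl

theorem restr_id (A : Pair S) : restr (𝟙 A) = 𝟙 _ := by
  rw [restr_eq, openOver.map_id]; rfl

theorem restr_comp {A B C : Pair S} (f : A ⟶ B) (g : B ⟶ C) :
    restr (f ≫ g) = restr f ≫ restr g := by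
  rw [restr_eq, openOver.map_comp]; rfl

instance : (isoOpen S).IsMultiplicative where
  id_mem A := by
    show IsIso (restr (𝟙 A))
    rw [restr_id]; infer_instance
  comp_mem f g hf hg := by
    have hf' : IsIso (restr f) := hf
    have hg' : IsIso (restr g) := hg
    show IsIso (restr (f ≫ g))
    rw [restr_comp]; infer_instance

/-- Faithfulness up to fractions: two morphisms with the same open part are equalized by a
morphism whose open part is an isomorphism. -/
theorem exists_equalizing {A B : Pair S} (f₁ f₂ : A ⟶ B) (h : restr f₁ = restr f₂) :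
    ∃ (A' : Pair S) (t : A' ⟶ A), isoOpen S t ∧ t ≫ f₁ = t ≫ f₂ := by
  haveI := B.isProper
  haveI := A.isProper
  obtain ⟨ι, hι⟩ : ∃ ι, ι = equalizer.ι (Pair.Hom.bar f₁) (Pair.Hom.bar f₂) := ⟨_, rfl⟩
  haveI : IsClosedImmersion ι.left := by rw [hι]; infer_instance
  have hEproper : IsProper (equalizer (Pair.Hom.bar f₁) (Pair.Hom.bar f₂)).hom := by
    rw [← Over.w ι]; infer_instance
  let A' : Pair S := ⟨equalizer (Pair.Hom.bar f₁) (Pair.Hom.bar f₂), ι.left ⁻¹ᵁ A.U, hEproper,
    ι.left.isCompact_preimage A.isCompact⟩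
  let t : A' ⟶ A := ⟨ι, fun x hx => hx⟩
  have hcond : (Over.homMk A.U.ι rfl : openOver.obj A ⟶ A.bar) ≫ Pair.Hom.bar f₁ =
      (Over.homMk A.U.ι rfl : openOver.obj A ⟶ A.bar) ≫ Pair.Hom.bar f₂ := by
    ext
    have e1 := restr_ι f₁
    have e2 := restr_ι f₂
    rw [h] at e1
    exact e1.symm.trans e2
  obtain ⟨σl, hσl⟩ : ∃ σl : (A.U : Scheme.{u}) ⟶
      (equalizer (Pair.Hom.bar f₁) (Pair.Hom.bar f₂)).left, σl ≫ ι.left = A.U.ι := by
    refine ⟨(equalizer.lift _ hcond).left, ?_⟩
    have := congrArg CommaMorphism.left (equalizer.lift_ι _ hcond)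
    rw [hι]
    exact this
  have hrange : Set.range σl.base ⊆ Set.range (ι.left ⁻¹ᵁ A.U).ι.base := by
    rintro _ ⟨x, rfl⟩
    rw [Scheme.Opens.range_ι]
    show ι.left.base (σl.base x) ∈ A.U
    have : (σl ≫ ι.left).base x = A.U.ι.base x := by rw [hσl]
    rw [Scheme.Hom.comp_base, TopCat.comp_app] at this
    rw [this]
    exact x.2
  have hrt : restr t ≫ A.U.ι = (ι.left ⁻¹ᵁ A.U).ι ≫ ι.left := restr_ι t
  refine ⟨A', t, ?_, ?_⟩
  · show IsIso (restr t)
    refine ⟨IsOpenImmersion.lift (ι.left ⁻¹ᵁ A.U).ι σl hrange, ?_, ?_⟩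
    · rw [← cancel_mono ((ι.left ⁻¹ᵁ A.U).ι ≫ ι.left), Category.assoc,
        IsOpenImmersion.lift_fac_assoc, hσl, hrt, Category.id_comp]
    · rw [← cancel_mono A.U.ι, Category.assoc, hrt, IsOpenImmersion.lift_fac_assoc, hσl,
        Category.id_comp]
  · apply Pair.Hom.ext
    show ι ≫ Pair.Hom.bar f₁ = ι ≫ Pair.Hom.bar f₂
    rw [hι]
    exact equalizer.condition _ _

/-- Fullness up to fractions: every morphism between open parts is the open part of a right
fraction (closure of the graph). -/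
theorem exists_fraction [QuasiSeparatedSpace S] {A B : Pair S}
    (φ : openOver.obj A ⟶ openOver.obj B) :
    ∃ (A' : Pair S) (s : A' ⟶ A) (_ : isoOpen S s) (f : A' ⟶ B),
      openOver.map s ≫ φ = openOver.map f := by
  haveI := B.isProper
  haveI := A.isProper
  obtain ⟨φl, hφl⟩ : ∃ φl : (A.U : Scheme.{u}) ⟶ (B.U : Scheme.{u}),
      φl ≫ B.U.ι ≫ B.bar.hom = A.U.ι ≫ A.bar.hom ∧ φl = φ.left := ⟨φ.left, Over.w φ, rfl⟩
  -- the graph
  let γ : (A.U : Scheme.{u}) ⟶ pullback A.bar.hom B.bar.hom :=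
    pullback.lift A.U.ι (φl ≫ B.U.ι) (by rw [Category.assoc, hφl.1])
  have hγ1 : γ ≫ pullback.fst _ _ = A.U.ι := pullback.lift_fst _ _ _
  have hγ2 : γ ≫ pullback.snd _ _ = φl ≫ B.U.ι := pullback.lift_snd _ _ _
  haveI : IsImmersion (γ ≫ pullback.fst A.bar.hom B.bar.hom) := by rw [hγ1]; infer_instance
  haveI : IsImmersion γ := IsImmersion.of_comp γ (pullback.fst A.bar.hom B.bar.hom)
  haveI : CompactSpace (A.U : Scheme.{u}) := isCompact_iff_compactSpace.mp A.isCompact
  haveI : QuasiSeparatedSpace ↥(pullback A.bar.hom B.bar.hom) :=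
    quasiSeparatedSpace_of_quasiSeparated (pullback.fst A.bar.hom B.bar.hom ≫ A.bar.hom)
  haveI : QuasiCompact γ := inferInstance
  haveI : IsOpenImmersion γ.toImage := inferInstance
  have hproper : IsProper (γ.imageι ≫ pullback.fst A.bar.hom B.bar.hom ≫ A.bar.hom) :=
    inferInstance
  have hcpt : IsCompact (γ.toImage.opensRange : Set γ.image) := by
    rw [Scheme.Hom.coe_opensRange]
    exact isCompact_range γ.toImage.continuous
  let A' : Pair S := ⟨Over.mk (γ.imageι ≫ pullback.fst A.bar.hom B.bar.hom ≫ A.bar.hom),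
    γ.toImage.opensRange, hproper, hcpt⟩
  have hmem : ∀ x : A'.bar.left, x ∈ A'.U → ∃ a : (A.U : Scheme.{u}), γ.toImage.base a = x :=
    fun x hx => hx
  let s : A' ⟶ A := ⟨Over.homMk (γ.imageι ≫ pullback.fst A.bar.hom B.bar.hom) (by simp [A']),
    fun x hx => by
      obtain ⟨a, rfl⟩ := hmem x hx
      show (γ.imageι ≫ pullback.fst A.bar.hom B.bar.hom).base (γ.toImage.base a) ∈ A.U
      have : (γ.toImage ≫ γ.imageι ≫ pullback.fst A.bar.hom B.bar.hom).base a = A.U.ι.base a := by
        rw [Scheme.Hom.toImage_imageι_assoc, hγ1]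
      rw [Scheme.Hom.comp_base, TopCat.comp_app] at this
      rw [this]
      exact a.2⟩
  let f : A' ⟶ B := ⟨Over.homMk (γ.imageι ≫ pullback.snd A.bar.hom B.bar.hom)
      (by simp [A', pullback.condition]),
    fun x hx => by
      obtain ⟨a, rfl⟩ := hmem x hx
      show (γ.imageι ≫ pullback.snd A.bar.hom B.bar.hom).base (γ.toImage.base a) ∈ B.U
      have : (γ.toImage ≫ γ.imageι ≫ pullback.snd A.bar.hom B.bar.hom).base a =
          (φl ≫ B.U.ι).base a := by
        rw [Scheme.Hom.toImage_imageι_assoc, hγ2]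
      rw [Scheme.Hom.comp_base, TopCat.comp_app] at this
      rw [this, Scheme.Hom.comp_base, TopCat.comp_app]
      exact (φl.base a).2⟩
  have hs : restr s ≫ A.U.ι = γ.toImage.opensRange.ι ≫ γ.imageι ≫ pullback.fst _ _ := restr_ι s
  have hf : restr f ≫ B.U.ι = γ.toImage.opensRange.ι ≫ γ.imageι ≫ pullback.snd _ _ := restr_ι f
  -- the isomorphism `A.U ≅ A'.U`
  obtain ⟨θ, hθ⟩ : ∃ θ : (A.U : Scheme.{u}) ≅ (γ.toImage.opensRange : Scheme.{u}),
      θ.hom ≫ γ.toImage.opensRange.ι = γ.toImage :=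
    ⟨γ.toImage.isoOpensRange, γ.toImage.isoOpensRange_hom_ι⟩
  have hθs : θ.hom ≫ restr s = 𝟙 _ := by
    rw [← cancel_mono A.U.ι, Category.assoc, hs, reassoc_of% hθ, Scheme.Hom.toImage_imageι_assoc,
      hγ1, Category.id_comp]
  have hsθ : restr s = θ.inv := by
    rw [← cancel_epi θ.hom, hθs, Iso.hom_inv_id]
  have e1 : θ.inv ≫ γ = γ.toImage.opensRange.ι ≫ γ.imageι := by
    rw [Iso.inv_comp_eq, reassoc_of% hθ, Scheme.Hom.toImage_imageι]
  have key : restr s ≫ φl = restr f := by
    rw [← cancel_mono B.U.ι, Category.assoc, hf, hsθ, ← hγ2, reassoc_of% e1]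
  refine ⟨A', s, ?_, f, ?_⟩
  · show IsIso (restr s)
    rw [hsθ]; infer_instance
  · ext
    exact (congrArg (fun m : (A.U : Scheme.{u}) ⟶ (B.U : Scheme.{u}) => restr s ≫ m)
      hφl.2).symm.trans key

theorem isIso_openOver_map {A B : Pair S} (f : A ⟶ B) (hf : isoOpen S f) :
    IsIso (openOver.map f) := by
  haveI : IsIso ((Over.forget S).map (openOver.map f)) := hf
  exact isIso_of_reflects_iso _ (Over.forget S)

theorem hasRightCalculusOfFractions [QuasiSeparatedSpace S] :
    (isoOpen S).HasRightCalculusOfFractions where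
  exists_rightFraction X Y φ := by
    haveI : IsIso (openOver.map φ.s) := isIso_openOver_map φ.s φ.hs
    obtain ⟨X', s', hs', g, hg⟩ := exists_fraction (openOver.map φ.f ≫ inv (openOver.map φ.s))
    have h1 : openOver.map (s' ≫ φ.f) = openOver.map (g ≫ φ.s) := by
      rw [Functor.map_comp, Functor.map_comp, ← hg]
      simp
    obtain ⟨X'', t, ht, hteq⟩ := exists_equalizing (s' ≫ φ.f) (g ≫ φ.s)
      (congrArg CommaMorphism.left h1)
    exact ⟨⟨t ≫ s', MorphismProperty.comp_mem _ _ _ ht hs', t ≫ g⟩, by simpa using hteq⟩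
  ext X Y Y' f₁ f₂ s hs h := by
    have hs' : IsIso (restr s) := hs
    have : restr f₁ = restr f₂ := by
      have := congrArg restr h
      rw [restr_comp, restr_comp] at this
      exact (cancel_mono (restr s)).1 this
    obtain ⟨X', t, ht, h'⟩ := exists_equalizing f₁ f₂ this
    exact ⟨X', t, ht, h'⟩

end Groth.Agent.Lib.Helper7.CpctFrac
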