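import Mathlib

/-!
# Descent of ideals along a jointly faithfully flat family (helper7)

Ring-level input for descent of closed subschemes along flat surjective open morphisms:
given flat `A`-algebras `B k` with ideals `J k` satisfying the descent condition on all
`B k ⊗[A] B l`, and a finite jointly surjective subfamily `F`, the ideal
`I = ⨅ k ∈ F, (J k).comap _` satisfies `I · B l = J l` for every `l`.
-/

set_option autoImplicit false
universe u v w
open TensorProduct

namespace Groth.Agent.Lib.Helper7.DescentIdeal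

variable {A : Type u} [CommRing A]

/-- Flatness: if `b ⊗ ψ 1 = 0` in `B ⊗ M` then `b ∈ (ker ψ) B`. -/
theorem mem_map_ker_of_tmul_eq_zero {B : Type u} [CommRing B] [Algebra A B] [Module.Flat A B]
    {M : Type w} [AddCommGroup M] [Module A M] (ψ : A →ₗ[A] M) (b : B)
    (h : b ⊗ₜ[A] ψ 1 = 0) :
    b ∈ Ideal.map (algebraMap A B) (LinearMap.ker ψ) := by
  have hk := Module.Flat.ker_lTensor_eq B B ψ
  have hb : (b ⊗ₜ[A] (1 : A)) ∈ LinearMap.ker (AlgebraTensorModule.lTensor B B ψ) := by
    rw [LinearMap.mem_ker]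
    simpa using h
  rw [hk] at hb
  obtain ⟨z, hz⟩ := hb
  have key : ∀ z : B ⊗[A] ↥(LinearMap.ker ψ),
      (Algebra.TensorProduct.rid A B B)
        (AlgebraTensorModule.lTensor B B (LinearMap.ker ψ).subtype z) ∈
        Ideal.map (algebraMap A B) (LinearMap.ker ψ) := by
    intro z
    induction z using TensorProduct.induction_on with
    | zero => simp
    | tmul x y =>
      simp only [AlgebraTensorModule.lTensor_tmul, Submodule.subtype_apply,
        Algebra.TensorProduct.rid_tmul]
      rw [Algebra.smul_def]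
      exact Ideal.mul_mem_right _ _ (Ideal.mem_map_of_mem _ y.2)
    | add x y hx hy =>
      rw [map_add, map_add]
      exact Ideal.add_mem _ hx hy
  have := key z
  rw [hz] at this
  simpa using this


/-- Joint faithful flatness of a family of flat algebras which is jointly surjective on
maximal spectra. -/
theorem eq_zero_of_forall_one_tmul_eq_zero {ι : Type v} (B : ι → Type u) [∀ k, CommRing (B k)]
    [∀ k, Algebra A (B k)] [∀ k, Module.Flat A (B k)]
    (hsurj : ∀ 𝔭 : Ideal A, 𝔭.IsMaximal → ∃ k, 𝔭.map (algebraMap A (B k)) ≠ ⊤)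
    {M : Type w} [AddCommGroup M] [Module A M] (m : M)
    (h : ∀ k, (1 : B k) ⊗ₜ[A] m = 0) : m = 0 := by
  by_contra hm
  have hne : (LinearMap.ker (LinearMap.toSpanSingleton A M m) : Ideal A) ≠ ⊤ := by
    intro htop
    have h1 : (1 : A) ∈ LinearMap.ker (LinearMap.toSpanSingleton A M m) := by
      rw [htop]; trivial
    rw [LinearMap.mem_ker] at h1
    simp at h1
    exact hm h1
  obtain ⟨𝔭, h𝔭, hle⟩ := Ideal.exists_le_maximal _ hne
  obtain ⟨k, hk⟩ := hsurj 𝔭 h𝔭
  apply hk
  rw [Ideal.eq_top_iff_one]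
  have := mem_map_ker_of_tmul_eq_zero (LinearMap.toSpanSingleton A M m) (1 : B k)
    (by simpa using h k)
  exact Ideal.map_mono hle this

/-- Independence: membership in the descended ideal can be tested on a jointly surjective
family. -/
theorem algebraMap_mem_of_desc {ι : Type v} (B : ι → Type u) [∀ k, CommRing (B k)]
    [∀ k, Algebra A (B k)] [∀ k, Module.Flat A (B k)]
    (hsurj : ∀ 𝔭 : Ideal A, 𝔭.IsMaximal → ∃ k, 𝔭.map (algebraMap A (B k)) ≠ ⊤)
    {B'' : Type u} [CommRing B''] [Algebra A B''] (J : ∀ k, Ideal (B k)) (J'' : Ideal B'')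
    (desc : ∀ k, (J k).map (Algebra.TensorProduct.includeLeft : B k →ₐ[A] B k ⊗[A] B'') ≤
      J''.map (Algebra.TensorProduct.includeRight : B'' →ₐ[A] B k ⊗[A] B''))
    (y : A) (hy : ∀ k, algebraMap A (B k) y ∈ J k) : algebraMap A B'' y ∈ J'' := by
  rw [← Ideal.Quotient.eq_zero_iff_mem]
  refine eq_zero_of_forall_one_tmul_eq_zero B hsurj (M := B'' ⧸ J'') _ (fun k => ?_)
  have hker := Algebra.TensorProduct.lTensor_ker (A := B k) (Ideal.Quotient.mkₐ A J'')
    (Ideal.Quotient.mkₐ_surjective A J'')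
  have hmem : ((1 : B k) ⊗ₜ[A] (algebraMap A B'' y)) ∈
      RingHom.ker (Algebra.TensorProduct.map (AlgHom.id A (B k)) (Ideal.Quotient.mkₐ A J'')) := by
    have hk2 : RingHom.ker (Ideal.Quotient.mkₐ A J'') = J'' := by
      ext x
      rw [RingHom.mem_ker, Ideal.Quotient.mkₐ_eq_mk, Ideal.Quotient.eq_zero_iff_mem]
    rw [hker, hk2]
    apply desc k
    have : ((1 : B k) ⊗ₜ[A] (algebraMap A B'' y)) =
        (Algebra.TensorProduct.includeLeft : B k →ₐ[A] B k ⊗[A] B'') (algebraMap A (B k) y) := by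
      rw [Algebra.TensorProduct.includeLeft_apply, Algebra.algebraMap_eq_smul_one,
        Algebra.algebraMap_eq_smul_one, TensorProduct.smul_tmul]
    rw [this]
    exact Ideal.mem_map_of_mem _ (hy k)
  rw [RingHom.mem_ker] at hmem
  simpa using hmem


section Family

variable {ι : Type v} (B : ι → Type u) [∀ k, CommRing (B k)]
    [∀ k, Algebra A (B k)] [∀ k, Module.Flat A (B k)] (J : ∀ k, Ideal (B k))

/-- The descended ideal attached to a finite subfamily. -/
def descIdeal (F : Finset ι) : Ideal A := ⨅ k ∈ F, (J k).comap (algebraMap A (B k))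

theorem mem_descIdeal {F : Finset ι} {y : A} :
    y ∈ descIdeal B J F ↔ ∀ k ∈ F, algebraMap A (B k) y ∈ J k := by
  simp [descIdeal, Ideal.mem_iInf]

/-- `b ⊗ 1 = 0` in `B k ⊗ (B l / J l)` for `b ∈ J k`, under the descent condition. -/
theorem tmul_one_eq_zero
    (desc : ∀ k l, (J k).map (Algebra.TensorProduct.includeLeft : B k →ₐ[A] B k ⊗[A] B l) ≤
      (J l).map (Algebra.TensorProduct.includeRight : B l →ₐ[A] B k ⊗[A] B l))
    (k l : ι) (b : B k) (hb : b ∈ J k) : b ⊗ₜ[A] (1 : B l ⧸ J l) = 0 := by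
  have hker := Algebra.TensorProduct.lTensor_ker (A := B k) (Ideal.Quotient.mkₐ A (J l))
    (Ideal.Quotient.mkₐ_surjective A (J l))
  have hk2 : RingHom.ker (Ideal.Quotient.mkₐ A (J l)) = J l := by
    ext x
    rw [RingHom.mem_ker, Ideal.Quotient.mkₐ_eq_mk, Ideal.Quotient.eq_zero_iff_mem]
  have hmem : (b ⊗ₜ[A] (1 : B l)) ∈
      RingHom.ker (Algebra.TensorProduct.map (AlgHom.id A (B k)) (Ideal.Quotient.mkₐ A (J l))) := by
    rw [hker, hk2]
    apply desc k l
    exact Ideal.mem_map_of_mem _ hb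
  rw [RingHom.mem_ker] at hmem
  simpa using hmem

/-- Effectivity for members of the finite family. -/
theorem le_map_descIdeal_of_mem
    (desc : ∀ k l, (J k).map (Algebra.TensorProduct.includeLeft : B k →ₐ[A] B k ⊗[A] B l) ≤
      (J l).map (Algebra.TensorProduct.includeRight : B l →ₐ[A] B k ⊗[A] B l))
    (F : Finset ι) (k₀ : ι) :
    J k₀ ≤ (descIdeal B J F).map (algebraMap A (B k₀)) := by
  classical
  intro b hb
  let ψ : A →ₗ[A] (∀ k : F, B k ⧸ J k) :=
    LinearMap.pi (fun k => ((Ideal.Quotient.mkₐ A (J k)).toLinearMap).comp (Algebra.linearMap A (B k)))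
  have hkerψ : (LinearMap.ker ψ : Ideal A) = descIdeal B J F := by
    ext y
    rw [LinearMap.mem_ker, mem_descIdeal]
    constructor
    · intro h k hk
      have h1 : Ideal.Quotient.mk (J k) (algebraMap A (B k) y) = 0 := congrFun h ⟨k, hk⟩
      exact Ideal.Quotient.eq_zero_iff_mem.mp h1
    · intro h
      funext k
      exact Ideal.Quotient.eq_zero_iff_mem.mpr (h k.1 k.2)
  have hψ1 : ψ 1 = ∑ k : F, Pi.single k (1 : B k ⧸ J k) := by
    funext k
    rw [Finset.sum_apply, Finset.sum_eq_single k (fun j _ hj => Pi.single_eq_of_ne' hj _)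
      (fun h => absurd (Finset.mem_univ k) h), Pi.single_eq_same]
    change Ideal.Quotient.mk (J k) (algebraMap A (B k) 1) = 1
    rw [map_one, map_one]
  have h0 : b ⊗ₜ[A] ψ 1 = 0 := by
    rw [hψ1, TensorProduct.tmul_sum]
    refine Finset.sum_eq_zero (fun k _ => ?_)
    have : b ⊗ₜ[A] (Pi.single k (1 : B k ⧸ J k) : ∀ k : F, B k ⧸ J k) =
        (LinearMap.lTensor (B k₀) (LinearMap.single A (fun k : F => B k ⧸ J k) k))
          (b ⊗ₜ[A] (1 : B k ⧸ J k)) := by
      simp
    rw [this, tmul_one_eq_zero B J desc k₀ k b hb, map_zero]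
  have := mem_map_ker_of_tmul_eq_zero ψ b h0
  rwa [hkerψ] at this

/-- **Descent of ideals**: under the descent condition and joint surjectivity of the finite
subfamily `F`, the descended ideal generates every `J l`. -/
theorem map_descIdeal_eq
    (desc : ∀ k l, (J k).map (Algebra.TensorProduct.includeLeft : B k →ₐ[A] B k ⊗[A] B l) =
      (J l).map (Algebra.TensorProduct.includeRight : B l →ₐ[A] B k ⊗[A] B l))
    (F : Finset ι)
    (hF : ∀ 𝔭 : Ideal A, 𝔭.IsMaximal → ∃ k ∈ F, 𝔭.map (algebraMap A (B k)) ≠ ⊤) (l : ι) :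
    (descIdeal B J F).map (algebraMap A (B l)) = J l := by
  have hF' : ∀ 𝔭 : Ideal A, 𝔭.IsMaximal → ∃ k : F, 𝔭.map (algebraMap A (B k)) ≠ ⊤ := by
    intro 𝔭 h𝔭
    obtain ⟨k, hk, h⟩ := hF 𝔭 h𝔭
    exact ⟨⟨k, hk⟩, h⟩
  apply le_antisymm
  · rw [Ideal.map_le_iff_le_comap]
    intro y hy
    rw [mem_descIdeal] at hy
    exact algebraMap_mem_of_desc (fun k : F => B k) hF' (fun k : F => J k) (J l)
      (fun k => (desc k l).le) y (fun k => hy k.1 k.2)
  · intro b hb
    rw [← Ideal.Quotient.eq_zero_iff_mem]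
    refine eq_zero_of_forall_one_tmul_eq_zero (fun k : F => B k) hF'
      (M := B l ⧸ (descIdeal B J F).map (algebraMap A (B l))) _ (fun k => ?_)
    have hker := Algebra.TensorProduct.lTensor_ker (A := B k)
      (Ideal.Quotient.mkₐ A ((descIdeal B J F).map (algebraMap A (B l))))
      (Ideal.Quotient.mkₐ_surjective A _)
    have hk2 : RingHom.ker (Ideal.Quotient.mkₐ A ((descIdeal B J F).map (algebraMap A (B l)))) =
        (descIdeal B J F).map (algebraMap A (B l)) := by
      ext x
      rw [RingHom.mem_ker, Ideal.Quotient.mkₐ_eq_mk, Ideal.Quotient.eq_zero_iff_mem]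
    have hmem : ((1 : B k) ⊗ₜ[A] b) ∈ RingHom.ker (Algebra.TensorProduct.map (AlgHom.id A (B k))
        (Ideal.Quotient.mkₐ A ((descIdeal B J F).map (algebraMap A (B l))))) := by
      rw [hker, hk2]
      have h1 : ((1 : B k) ⊗ₜ[A] b) ∈
          (J l).map (Algebra.TensorProduct.includeRight : B l →ₐ[A] B k ⊗[A] B l) :=
        Ideal.mem_map_of_mem _ hb
      rw [← desc k l] at h1
      have h2 : (J k).map (Algebra.TensorProduct.includeLeft : B k →ₐ[A] B k ⊗[A] B l) ≤
          ((descIdeal B J F).map (algebraMap A (B l))).map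
            (Algebra.TensorProduct.includeRight : B l →ₐ[A] B k ⊗[A] B l) := by
        refine (Ideal.map_mono (le_map_descIdeal_of_mem B J (fun k l => (desc k l).le) F k)).trans ?_
        rw [Ideal.map_le_iff_le_comap, Ideal.map_le_iff_le_comap]
        intro a ha
        rw [Ideal.mem_comap, Ideal.mem_comap]
        have : (Algebra.TensorProduct.includeLeft : B k →ₐ[A] B k ⊗[A] B l) (algebraMap A (B k) a) =
            (Algebra.TensorProduct.includeRight : B l →ₐ[A] B k ⊗[A] B l) (algebraMap A (B l) a) := by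
          rw [Algebra.TensorProduct.includeLeft_apply, Algebra.TensorProduct.includeRight_apply,
            Algebra.algebraMap_eq_smul_one, Algebra.algebraMap_eq_smul_one, TensorProduct.smul_tmul]
        rw [this]
        exact Ideal.mem_map_of_mem _ (Ideal.mem_map_of_mem _ ha)
      exact h2 h1
    rw [RingHom.mem_ker] at hmem
    simpa using hmem

end Family

end Groth.Agent.Lib.Helper7.DescentIdeal
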