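import Mathlib
import Groth.Agent.S18416

/-!
# Étale closed slices through a subscheme closed in source and target of a smooth morphism (helper7)
-/

set_option autoImplicit false
set_option linter.style.haveILetI false
universe u
open CategoryTheory AlgebraicGeometry

namespace Groth.Agent.Lib.Helper7.EtaleSlice

variable {X Y Z : Scheme.{u}}

/-- Shrinking: compatible affine opens around a point of a subscheme closed in both `X` and `Y`. -/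
theorem exists_affine_pair (f : X ⟶ Y) (i : Z ⟶ X) [IsClosedImmersion (i ≫ f)] (z : Z) :
    ∃ (Y₀ : Y.Opens) (X₀ : X.Opens), IsAffineOpen Y₀ ∧ IsAffineOpen X₀ ∧ i z ∈ X₀ ∧
      X₀ ≤ f ⁻¹ᵁ Y₀ ∧ i ⁻¹ᵁ X₀ = (i ≫ f) ⁻¹ᵁ Y₀ := by
  obtain ⟨Y₁, hY₁, hyY₁, -⟩ := exists_isAffineOpen_mem_and_subset (x := f (i z)) (U := ⊤) trivial
  obtain ⟨X₁, hX₁, hxX₁, hX₁Y₁'⟩ :=
    exists_isAffineOpen_mem_and_subset (x := i z) (U := f ⁻¹ᵁ Y₁) hyY₁
  have hX₁Y₁ : X₁ ≤ f ⁻¹ᵁ Y₁ := hX₁Y₁'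
  -- an open of `Y` cutting out `i⁻¹ X₁`
  obtain ⟨O₀, hO₀o, hO₀⟩ := ((i ≫ f).isEmbedding.isInducing.isOpen_iff
    (s := ((i ⁻¹ᵁ X₁ : Z.Opens) : Set Z))).mp (i ⁻¹ᵁ X₁).2
  set O : Y.Opens := ⟨O₀, hO₀o⟩ with hO
  have hzO : f (i z) ∈ O := by
    have : z ∈ (i ≫ f) ⁻¹' O₀ := by rw [hO₀]; exact hxX₁
    exact this
  obtain ⟨c, hcO, hzc⟩ := hY₁.exists_basicOpen_le (V := O) ⟨f (i z), hzO⟩ hyY₁
  refine ⟨Y.basicOpen c, X.basicOpen (f.appLE Y₁ X₁ hX₁Y₁ c), hY₁.basicOpen c, hX₁.basicOpen _,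
    ?_, ?_, ?_⟩
  · rw [Scheme.basicOpen_appLE]
    exact ⟨hxX₁, hzc⟩
  · rw [Scheme.basicOpen_appLE]
    exact inf_le_right
  · rw [Scheme.basicOpen_appLE]
    apply le_antisymm
    · intro p hp
      exact hp.2
    · intro p hp
      refine ⟨?_, hp⟩
      have h1 : (i ≫ f) p ∈ O := hcO hp
      have h2 : p ∈ (i ≫ f) ⁻¹' O₀ := h1
      rw [hO₀] at h2
      exact h2

set_option maxHeartbeats 1600000 in
theorem main (f : X ⟶ Y) [Smooth f] (i : Z ⟶ X) [IsClosedImmersion i]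
    [IsClosedImmersion (i ≫ f)] (z : Z) :
    ∃ (U : X.Opens) (_ : i.base z ∈ U) (W : Scheme.{u}) (j : W ⟶ (U : Scheme.{u}))
      (_ : IsClosedImmersion j) (_ : Etale (j ≫ U.ι ≫ f))
      (g : ((i ⁻¹ᵁ U : Z.Opens) : Scheme.{u}) ⟶ W), g ≫ j = i ∣_ U := by
  classical
  obtain ⟨Y₀, X₀, hY₀, hX₀, hzX₀, hXY, hpre⟩ := exists_affine_pair f i z
  set φ : Γ(Y, Y₀) ⟶ Γ(X, X₀) := f.appLE Y₀ X₀ hXY with hφ
  letI : Algebra Γ(Y, Y₀) Γ(X, X₀) := φ.hom.toAlgebra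
  have hsm : Algebra.Smooth Γ(Y, Y₀) Γ(X, X₀) :=
    HasRingHomProperty.appLE @Smooth f inferInstance ⟨Y₀, hY₀⟩ ⟨X₀, hX₀⟩ hXY
  set π : Γ(X, X₀) →+* Γ(Z, i ⁻¹ᵁ X₀) := (i.app X₀).hom with hπdef
  have hπ : Function.Surjective π := i.app_surjective X₀ hX₀
  set J : Ideal Γ(X, X₀) := RingHom.ker π with hJ
  have hle : i ⁻¹ᵁ X₀ ≤ (i ≫ f) ⁻¹ᵁ Y₀ := hpre.le
  have hcomp : φ ≫ i.app X₀ = (i ≫ f).appLE Y₀ (i ⁻¹ᵁ X₀) hle := by
    rw [hφ, i.app_eq_appLE, Scheme.Hom.appLE_comp_appLE]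
  have hsurj' : Function.Surjective ((i ≫ f).appLE Y₀ (i ⁻¹ᵁ X₀) hle).hom := by
    have h1 : (i ≫ f).appLE Y₀ (i ⁻¹ᵁ X₀) hle =
        (i ≫ f).app Y₀ ≫ Z.presheaf.map (eqToHom hpre).op := by
      rw [(i ≫ f).app_eq_appLE, Scheme.Hom.appLE_map]
    rw [h1, CommRingCat.hom_comp, RingHom.coe_comp]
    exact (ConcreteCategory.bijective_of_isIso (Z.presheaf.map (eqToHom hpre).op)).2.comp
      ((i ≫ f).app_surjective Y₀ hY₀)
  have hsurj : Function.Surjective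
      ((Ideal.Quotient.mk J).comp (algebraMap Γ(Y, Y₀) Γ(X, X₀))) := by
    intro q
    obtain ⟨b, rfl⟩ := Ideal.Quotient.mk_surjective q
    obtain ⟨c, hc⟩ := hsurj' (π b)
    refine ⟨c, ?_⟩
    rw [RingHom.comp_apply, Ideal.Quotient.eq, hJ, RingHom.mem_ker, map_sub, sub_eq_zero, ← hc,
      ← hcomp]
    rfl
  -- the prime of `B ⧸ J` at `z`
  have hzZ : z ∈ i ⁻¹ᵁ X₀ := hzX₀
  have hZ₀ : IsAffineOpen (i ⁻¹ᵁ X₀) := hX₀.preimage i
  set 𝔮 : PrimeSpectrum Γ(Z, i ⁻¹ᵁ X₀) := hZ₀.primeIdealOf ⟨z, hzZ⟩ with h𝔮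
  set x : PrimeSpectrum (Γ(X, X₀) ⧸ J) := PrimeSpectrum.comap (RingHom.kerLift π) 𝔮 with hx
  obtain ⟨b, hb, J₀, hJ₀, hét⟩ :=
    Groth.Agent.S18416.result Γ(Y, Y₀) Γ(Y, Y₀) Γ(X, X₀) J hsurj x
  have hzb : i z ∈ X.basicOpen b := by
    have h1 : π b ∉ 𝔮.asIdeal := by
      intro h
      apply hb
      rw [hx, PrimeSpectrum.comap_asIdeal, Ideal.mem_comap]
      exact h
    have h2 : 𝔮 ∈ PrimeSpectrum.basicOpen (π b) := h1
    rw [← hZ₀.fromSpec_preimage_basicOpen] at h2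
    have h3 : hZ₀.fromSpec 𝔮 ∈ Z.basicOpen (π b) := h2
    rw [h𝔮, hZ₀.fromSpec_primeIdealOf] at h3
    have h4 : Z.basicOpen (π b) = i ⁻¹ᵁ X.basicOpen b := (Scheme.preimage_basicOpen i b).symm
    rw [h4] at h3
    exact h3
  set U : X.Opens := X.basicOpen b with hUdef
  have hU : IsAffineOpen U := hX₀.basicOpen b
  have hUX₀ : U ≤ X₀ := X.basicOpen_le b
  haveI : IsLocalization.Away b Γ(X, U) := hX₀.isLocalization_basicOpen b
  set ψ : Localization.Away b ≃ₐ[Γ(X, X₀)] Γ(X, U) :=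
    IsLocalization.algEquiv (Submonoid.powers b) _ _ with hψ
  set ρ : Γ(X, U) →+* Localization.Away b ⧸ J₀ :=
    (Ideal.Quotient.mk J₀).comp (ψ.symm : Γ(X, U) →+* Localization.Away b) with hρdef
  have hρ : Function.Surjective ρ := Ideal.Quotient.mk_surjective.comp ψ.symm.surjective
  set j : Spec (.of (Localization.Away b ⧸ J₀)) ⟶ (U : Scheme.{u}) :=
    Spec.map (CommRingCat.ofHom ρ) ≫ hU.isoSpec.inv with hj
  haveI : IsClosedImmersion (Spec.map (CommRingCat.ofHom ρ)) :=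
    IsClosedImmersion.spec_of_surjective _ hρ
  haveI : IsClosedImmersion j := by rw [hj]; infer_instance
  have hUY : U ≤ f ⁻¹ᵁ Y₀ := hUX₀.trans hXY
  have hj1 : j ≫ U.ι ≫ f =
      Spec.map (f.appLE Y₀ U hUY ≫ CommRingCat.ofHom ρ) ≫ hY₀.fromSpec := by
    have h1 : Spec.map (f.appLE Y₀ U hUY ≫ CommRingCat.ofHom ρ) ≫ hY₀.fromSpec =
        Spec.map (CommRingCat.ofHom ρ) ≫ (Spec.map (f.appLE Y₀ U hUY) ≫ hY₀.fromSpec) := by
      rw [Spec.map_comp, Category.assoc]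
    rw [h1, IsAffineOpen.SpecMap_appLE_fromSpec f hY₀ hU hUY, hj, Category.assoc,
      ← hU.isoSpec_inv_ι, Category.assoc]
  have hres : f.appLE Y₀ U hUY = φ ≫ X.presheaf.map (homOfLE hUX₀).op := by
    rw [hφ, Scheme.Hom.appLE_map]
  have hring : (f.appLE Y₀ U hUY ≫ CommRingCat.ofHom ρ).hom =
      (Ideal.Quotient.mk J₀).comp ((algebraMap Γ(X, X₀) (Localization.Away b)).comp
        (algebraMap Γ(Y, Y₀) Γ(X, X₀))) := by
    ext c
    rw [hres]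
    simp only [CommRingCat.hom_comp, CommRingCat.hom_ofHom, RingHom.comp_apply, hρdef]
    congr 1
    exact ψ.symm.commutes (φ.hom c)
  haveI : Etale (Spec.map (f.appLE Y₀ U hUY ≫ CommRingCat.ofHom ρ)) := by
    rw [HasRingHomProperty.Spec_iff (P := @Etale), hring]
    exact hét
  have hE : Etale (j ≫ U.ι ≫ f) := by
    rw [hj1]
    infer_instance
  -- the factorisation of `Z ∩ U` through `W`
  set Zu : Z.Opens := i ⁻¹ᵁ U with hZu
  have hZuA : IsAffineOpen Zu := hU.preimage i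
  haveI : IsAffine (Zu : Scheme.{u}) := hZuA
  have hκle : (⊤ : (Zu : Scheme.{u}).Opens) ≤ (Zu.ι ≫ i) ⁻¹ᵁ U := by
    intro p _
    exact p.2
  set κ : Γ(X, U) ⟶ Γ((Zu : Scheme.{u}), ⊤) := (Zu.ι ≫ i).appLE U ⊤ hκle with hκ
  have hle2 : (⊤ : (Zu : Scheme.{u}).Opens) ≤ Zu.ι ⁻¹ᵁ (i ⁻¹ᵁ X₀) := by
    intro p _
    exact hUX₀ p.2
  have h3 : X.presheaf.map (homOfLE hUX₀).op ≫ κ =
      i.app X₀ ≫ Zu.ι.appLE (i ⁻¹ᵁ X₀) ⊤ hle2 := by
    rw [hκ, Scheme.Hom.map_appLE, i.app_eq_appLE, Scheme.Hom.appLE_comp_appLE]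
  have hkill : ∀ l ∈ J₀, (κ.hom.comp (ψ : Localization.Away b →+* Γ(X, U))) l = 0 := by
    intro l hl
    have h1 : l ∈ J.map (algebraMap Γ(X, X₀) (Localization.Away b)) := hJ₀ hl
    have h2 : J.map (algebraMap Γ(X, X₀) (Localization.Away b)) ≤
        RingHom.ker (κ.hom.comp (ψ : Localization.Away b →+* Γ(X, U))) := by
      rw [Ideal.map_le_iff_le_comap]
      intro s hs
      rw [Ideal.mem_comap, RingHom.mem_ker, RingHom.comp_apply]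
      have h4 : (ψ : Localization.Away b →+* Γ(X, U)) (algebraMap Γ(X, X₀) (Localization.Away b) s) =
          (X.presheaf.map (homOfLE hUX₀).op).hom s := ψ.commutes s
      rw [h4]
      have h5 := congrArg (fun t => t.hom s) h3
      simp only [CommRingCat.hom_comp, RingHom.comp_apply] at h5
      rw [h5]
      have h6 : (i.app X₀).hom s = 0 := hs
      rw [h6, map_zero]
    exact h2 h1
  set θ : Localization.Away b ⧸ J₀ →+* Γ((Zu : Scheme.{u}), ⊤) :=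
    Ideal.Quotient.lift J₀ (κ.hom.comp (ψ : Localization.Away b →+* Γ(X, U))) hkill with hθ
  have hθρ : CommRingCat.ofHom ρ ≫ CommRingCat.ofHom θ = κ := by
    ext s
    simp only [CommRingCat.hom_comp, CommRingCat.hom_ofHom, RingHom.comp_apply, hρdef, hθ,
      Ideal.Quotient.lift_mk]
    congr 1
    exact ψ.apply_symm_apply s
  set g : (Zu : Scheme.{u}) ⟶ Spec (.of (Localization.Away b ⧸ J₀)) :=
    (Zu : Scheme.{u}).isoSpec.hom ≫ Spec.map (CommRingCat.ofHom θ) with hg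
  refine ⟨U, hzb, _, j, inferInstance, hE, g, ?_⟩
  rw [← cancel_mono U.ι, Category.assoc, morphismRestrict_ι]
  have h7 : Spec.map κ ≫ hU.fromSpec = (Zu : Scheme.{u}).isoSpec.inv ≫ Zu.ι ≫ i := by
    rw [hκ, IsAffineOpen.SpecMap_appLE_fromSpec (Zu.ι ≫ i) hU (isAffineOpen_top _) hκle,
      IsAffineOpen.fromSpec_top]
  have h8 : Spec.map (CommRingCat.ofHom θ) ≫ Spec.map (CommRingCat.ofHom ρ) ≫ hU.fromSpec =
      Spec.map κ ≫ hU.fromSpec := by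
    rw [← Category.assoc, ← Spec.map_comp, hθρ]
  have h9 : (Zu : Scheme.{u}).isoSpec.hom ≫ Spec.map (CommRingCat.ofHom θ) ≫
      Spec.map (CommRingCat.ofHom ρ) ≫ hU.fromSpec = Zu.ι ≫ i := by
    have h10 := congrArg (fun t => (Zu : Scheme.{u}).isoSpec.hom ≫ t) h8
    refine h10.trans ?_
    rw [h7, Iso.hom_inv_id_assoc]
  rw [hg, hj, Category.assoc, Category.assoc, hU.isoSpec_inv_ι]
  exact h9

end Groth.Agent.Lib.Helper7.EtaleSlice
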