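import Groth.Prelude.Def_Magnet3
import Groth.Agent.Lib.Helper7.ClosedDescent

/-!
# Descent of the fixed-point locus along a fixed-point-reflecting flat open cover (helper7)
-/

set_option autoImplicit false
set_option linter.style.haveILetI false
set_option backward.isDefEq.respectTransparency false
universe u
open CategoryTheory Limits AlgebraicGeometry MonoidalCategory CartesianMonoidalCategory Opposite

namespace Groth.Agent.Lib.Helper7.FixedDescent

open Magnet Groth.Agent.Lib.Helper7

variable {S : Scheme.{u}} {A X U : Over S} [MonObj A]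

/-- Fixedness of a `T`-point. -/
def IsFixedPt (a : MonAct A X) {T : Over S} (x : T ⟶ X) : Prop :=
  ∀ (T' : Over S) (t : T' ⟶ T) (g : T' ⟶ A), lift g (t ≫ x) ≫ a.act = t ≫ x

theorem IsFixedPt.comp {a : MonAct A X} {T T' : Over S} {x : T ⟶ X} (hx : IsFixedPt a x)
    (t : T' ⟶ T) : IsFixedPt a (t ≫ x) := by
  intro T'' s g
  rw [← Category.assoc]
  exact hx T'' (s ≫ t) g

theorem isFixedPt_map {aU : MonAct A U} {aX : MonAct A X} {f : U ⟶ X}
    (hf : MonAct.IsEquivariant aU aX f) {T : Over S} {u : T ⟶ U} (hu : IsFixedPt aU u) :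
    IsFixedPt aX (u ≫ f) :=
  ((MonAct.fixedPsh.map f hf).app (op T) ⟨u, hu⟩).2

theorem isFixedPt_of_fpr {aU : MonAct A U} {aX : MonAct A X} {f : U ⟶ X}
    (hf : MonAct.IsEquivariant aU aX f)
    (hfpr : IsPullback (MonAct.fixedPsh.map f hf) (MonAct.fixedPshι aU) (MonAct.fixedPshι aX)
      (yoneda.map f)) {T : Over S} {u : T ⟶ U} (hu : IsFixedPt aX (u ≫ f)) : IsFixedPt aU u := by
  have h := hfpr.map ((evaluation (Over S)ᵒᵖ (Type u)).obj (op T))
  obtain ⟨w, -, hw⟩ := Limits.Types.exists_of_isPullback h (⟨u ≫ f, hu⟩ : (MonAct.fixedPsh aX).obj (op T))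
    (u : (yoneda.obj U).obj (op T)) rfl
  have : w.1 = u := hw
  rw [← this]
  exact w.2

/-- Fixedness descends along flat surjective morphisms. -/
theorem isFixedPt_of_flat_surjective (a : MonAct A X) {T T' : Over S} (t : T' ⟶ T) [Flat t.left]
    [Surjective t.left] (x : T ⟶ X) (h : IsFixedPt a (t ≫ x)) : IsFixedPt a x := by
  intro T'' s g
  have hpb := (IsPullback.of_hasPullback s t).map (Over.forget S)
  have hfl : Flat (pullback.fst s t).left :=
    MorphismProperty.of_isPullback (P := @Flat) hpb.flip (inferInstanceAs (Flat t.left))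
  have hsj : Surjective (pullback.fst s t).left :=
    MorphismProperty.of_isPullback (P := @Surjective) hpb.flip (inferInstanceAs (Surjective t.left))
  have hepi : Epi (pullback.fst s t).left := Flat.epi_of_flat_of_surjective _
  have hepi' : Epi (pullback.fst s t) := Over.epi_of_epi_left _
  rw [← cancel_epi (pullback.fst s t), ← Category.assoc, comp_lift]
  have e1 : pullback.fst s t ≫ s ≫ x = pullback.snd s t ≫ t ≫ x := by
    rw [← Category.assoc, pullback.condition, Category.assoc]
  rw [e1]
  exact h _ (pullback.snd s t) (pullback.fst s t ≫ g)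


/-- **Descent of the fixed locus**: if `f : U ⟶ X` is an equivariant, flat, surjective, open,
fixed-point reflecting morphism and the fixed-point functor of `U` is represented by a closed
subscheme of `U`, then the fixed-point functor of `X` is represented by a closed subscheme of
`X`. -/
theorem exists_representableBy_fixedPsh {aU : MonAct A U} {aX : MonAct A X} (f : U ⟶ X)
    [Flat f.left] [Surjective f.left] (hopen : IsOpenMap f.left)
    (hf : MonAct.IsEquivariant aU aX f)
    (hfpr : IsPullback (MonAct.fixedPsh.map f hf) (MonAct.fixedPshι aU) (MonAct.fixedPshι aX)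
      (yoneda.map f))
    (hU : ∃ (W' : Over S) (i' : W' ⟶ U) (e' : (MonAct.fixedPsh aU).RepresentableBy W'),
      IsClosedImmersion i'.left ∧ ∀ (T : Over S) (w : T ⟶ W'),
        (MonAct.fixedPshι aU).app (op T) (e'.homEquiv w) = w ≫ i') :
    ∃ (W : Over S) (i : W ⟶ X) (e : (MonAct.fixedPsh aX).RepresentableBy W),
      IsClosedImmersion i.left ∧ ∀ (T : Over S) (w : T ⟶ W),
        (MonAct.fixedPshι aX).app (op T) (e.homEquiv w) = w ≫ i := by
  obtain ⟨W', i', e', hi', he'⟩ := hU
  haveI := hi'
  -- fixed points of `U` are the points factoring through `W'`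
  have hU_iff : ∀ {T : Over S} (u : T ⟶ U), IsFixedPt aU u ↔ ∃ w : T ⟶ W', w ≫ i' = u := by
    intro T u
    constructor
    · intro hu
      refine ⟨e'.homEquiv.symm ⟨u, hu⟩, ?_⟩
      have := he' T (e'.homEquiv.symm ⟨u, hu⟩)
      rw [Equiv.apply_symm_apply] at this
      exact this.symm
    · rintro ⟨w, rfl⟩
      have := he' T w
      have h2 : (e'.homEquiv w).1 = w ≫ i' := this
      rw [← h2]
      exact (e'.homEquiv w).2
  -- the descent condition
  have hD : ClosedDescent.DescCond f.left i'.left.ker := by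
    intro T a b hab ha
    have hb_w : b ≫ U.hom = a ≫ U.hom := by
      rw [← Over.w f, ← Category.assoc, ← hab, Category.assoc]
    let TO : Over S := Over.mk (a ≫ U.hom)
    let a' : TO ⟶ U := Over.homMk a rfl
    let b' : TO ⟶ U := Over.homMk b hb_w
    let w' : TO ⟶ W' := Over.homMk (IsClosedImmersion.lift i'.left a ha) (by
      change IsClosedImmersion.lift i'.left a ha ≫ W'.hom = a ≫ U.hom
      rw [← Over.w i', ← Category.assoc, IsClosedImmersion.lift_fac])
    have hw' : w' ≫ i' = a' := by
      apply Over.OverMorphism.ext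
      exact IsClosedImmersion.lift_fac _ _ _
    have h1 : IsFixedPt aU a' := (hU_iff a').2 ⟨w', hw'⟩
    have h2 : IsFixedPt aX (a' ≫ f) := isFixedPt_map hf h1
    have h3 : a' ≫ f = b' ≫ f := by
      apply Over.OverMorphism.ext
      exact hab
    rw [h3] at h2
    obtain ⟨w₂, hw₂⟩ := (hU_iff b').1 (isFixedPt_of_fpr hf hfpr h2)
    have h4 : b = w₂.left ≫ i'.left := by
      have := congrArg (fun φ => φ.left) hw₂
      exact this.symm
    rw [h4]
    exact Scheme.Hom.le_ker_comp _ _
  obtain ⟨W₀, i₀, p₀, hi₀, hpb⟩ :=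
    ClosedDescent.exists_isPullback_of_descCond f.left hopen i'.left hD
  haveI := hi₀
  let W : Over S := Over.mk (i₀ ≫ X.hom)
  let i : W ⟶ X := Over.homMk i₀ rfl
  have hp₀fl : Flat p₀ := MorphismProperty.of_isPullback (P := @Flat) hpb inferInstance
  have hp₀sj : Surjective p₀ := MorphismProperty.of_isPullback (P := @Surjective) hpb inferInstance
  -- fixed points of `X` are the points factoring through `W`
  have hX_of : ∀ {T : Over S} (w : T ⟶ W), IsFixedPt aX (w ≫ i) := by
    intro T w
    let t₀ := pullback.fst w.left p₀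
    let b₀ := pullback.snd w.left p₀
    have hcond : t₀ ≫ w.left = b₀ ≫ p₀ := pullback.condition
    let PO : Over S := Over.mk (t₀ ≫ T.hom)
    let t : PO ⟶ T := Over.homMk t₀ rfl
    have hb₀ : b₀ ≫ W'.hom = t₀ ≫ T.hom := by
      have h1 : W'.hom = p₀ ≫ i₀ ≫ X.hom := by
        rw [← Over.w i', ← Over.w f, ← Category.assoc, ← Category.assoc, hpb.w, Category.assoc]
      have h2 : T.hom = w.left ≫ i₀ ≫ X.hom := (Over.w w).symm
      rw [h1, h2, ← Category.assoc, ← hcond, Category.assoc]
    let b : PO ⟶ W' := Over.homMk b₀ hb₀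
    have e1 : t ≫ w ≫ i = (b ≫ i') ≫ f := by
      apply Over.OverMorphism.ext
      change t₀ ≫ w.left ≫ i₀ = (b₀ ≫ i'.left) ≫ f.left
      rw [← Category.assoc, hcond, Category.assoc, Category.assoc, hpb.w]
    have h1 : IsFixedPt aU (b ≫ i') := (hU_iff _).2 ⟨b, rfl⟩
    have h2 : IsFixedPt aX (t ≫ w ≫ i) := by
      rw [e1]; exact isFixedPt_map hf h1
    haveI : Flat t.left := inferInstanceAs (Flat (pullback.fst w.left p₀))
    haveI : Surjective t.left := inferInstanceAs (Surjective (pullback.fst w.left p₀))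
    exact isFixedPt_of_flat_surjective aX t (w ≫ i) h2
  have hX_ex : ∀ {T : Over S} (x : T ⟶ X), IsFixedPt aX x → ∃ w : T ⟶ W, w ≫ i = x := by
    intro T x hx
    let t₀ := pullback.fst x.left f.left
    let a₀ := pullback.snd x.left f.left
    have hcond : t₀ ≫ x.left = a₀ ≫ f.left := pullback.condition
    let PO : Over S := Over.mk (t₀ ≫ T.hom)
    let t : PO ⟶ T := Over.homMk t₀ rfl
    have ha₀ : a₀ ≫ U.hom = t₀ ≫ T.hom := by
      rw [← Over.w f, ← Category.assoc, ← hcond, Category.assoc, Over.w x]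
    let a : PO ⟶ U := Over.homMk a₀ ha₀
    have e1 : a ≫ f = t ≫ x := by
      apply Over.OverMorphism.ext
      exact hcond.symm
    have h1 : IsFixedPt aX (a ≫ f) := by
      rw [e1]; exact hx.comp t
    obtain ⟨b, hb⟩ := (hU_iff a).1 (isFixedPt_of_fpr hf hfpr h1)
    have e2 : t₀ ≫ x.left = (b.left ≫ p₀) ≫ i₀ := by
      have hb' : b.left ≫ i'.left = a₀ := congrArg (fun φ => φ.left) hb
      rw [hcond, ← hb', Category.assoc, Category.assoc, hpb.w]
    have hker : i₀.ker ≤ x.left.ker := by
      have h2 : i₀.ker ≤ (t₀ ≫ x.left).ker := by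
        rw [e2]; exact Scheme.Hom.le_ker_comp _ _
      rwa [← Scheme.IdealSheafData.map_ker,
        ClosedDescent.ker_eq_bot_of_flat_of_surjective t₀, Scheme.IdealSheafData.map_bot] at h2
    refine ⟨Over.homMk (IsClosedImmersion.lift i₀ x.left hker) ?_, ?_⟩
    · change IsClosedImmersion.lift i₀ x.left hker ≫ i₀ ≫ X.hom = T.hom
      rw [← Category.assoc, IsClosedImmersion.lift_fac, Over.w x]
    · apply Over.OverMorphism.ext
      exact IsClosedImmersion.lift_fac _ _ _
  haveI : Mono i.left := inferInstanceAs (Mono i₀)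
  haveI : Mono i := Over.mono_of_mono_left i
  refine ⟨W, i, ⟨fun {T} => ⟨fun w => ⟨w ≫ i, hX_of w⟩, fun x => (hX_ex x.1 x.2).choose, ?_, ?_⟩, ?_⟩,
    hi₀, fun T w => rfl⟩
  · intro w
    rw [← cancel_mono i]
    exact (hX_ex (w ≫ i) (hX_of w)).choose_spec
  · intro x
    exact Subtype.ext (hX_ex x.1 x.2).choose_spec
  · intro T T' g w
    exact Subtype.ext (Category.assoc _ _ _)

end Groth.Agent.Lib.Helper7.FixedDescent
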