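import Groth.Agent.Lib.Helper7.FlatDimSheaf
import Groth.Agent.H52.LqfFibreDim
import Groth.Agent.Lib.Helper54.FlatPoint
import Groth.Agent.Lib.Helper55.FiberCompDim

/-!
# Helper7: flatness in dimensions `≥ n` and étale pullback
-/

set_option autoImplicit false
set_option linter.style.haveILetI false
universe u
open CategoryTheory CategoryTheory.Limits AlgebraicGeometry Opposite TopologicalSpace

namespace Groth.Agent.Lib.Helper7.FlatDimEtale

open Groth.Agent.Lib Groth.Agent.Helper19.FpqcModDesc Groth.Agent.Lib.Helper7.FlatFunSheaf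
  Groth.Agent.Lib.Helper7.PullbackTrdeg Groth.Agent.Lib.Helper7.FlatDimSheaf
  Groth.Agent.Lib.Helper16.FlatPull

variable {X X' S : Scheme.{u}} (f : X ⟶ S) (h : X' ⟶ X) (T : Over S)

/-- the base change `X' ×_S T ⟶ X ×_S T` of `h`. -/
noncomputable def hT : pullback (h ≫ f) T.hom ⟶ pullback f T.hom :=
  pullback.map (h ≫ f) T.hom f T.hom h (𝟙 _) (𝟙 _) (by simp) (by simp)

@[reassoc (attr := simp)]
lemma hT_fst : hT f h T ≫ pullback.fst f T.hom = pullback.fst (h ≫ f) T.hom ≫ h := by
  delta hT pullback.map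
  rw [pullback.lift_fst]

@[reassoc (attr := simp)]
lemma hT_snd : hT f h T ≫ pullback.snd f T.hom = pullback.snd (h ≫ f) T.hom := by
  delta hT pullback.map
  rw [pullback.lift_snd, Category.comp_id]

lemma isPullback_hT :
    IsPullback (pullback.fst (h ≫ f) T.hom) (hT f h T) h (pullback.fst f T.hom) := by
  refine IsPullback.of_bot ?_ (hT_fst f h T).symm (IsPullback.of_hasPullback f T.hom)
  rw [hT_snd]
  exact IsPullback.of_hasPullback (h ≫ f) T.hom

instance etale_hT [Etale h] : Etale (hT f h T) :=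
  MorphismProperty.of_isPullback (P := @Etale) (isPullback_hT f h T) ‹_›

/-- `(h^*F)_T ≅ h_T^*(F_T)`. -/
noncomputable def etIso : Scheme.Modules.pullback h ⋙
      Scheme.Modules.pullback (pullback.fst (h ≫ f) T.hom) ≅
    Scheme.Modules.pullback (pullback.fst f T.hom) ⋙ Scheme.Modules.pullback (hT f h T) :=
  Scheme.Modules.pullbackComp _ _ ≪≫ Scheme.Modules.pullbackCongr (hT_fst f h T).symm ≪≫
    (Scheme.Modules.pullbackComp _ _).symm

variable (F : X.Modules) [F.IsQuasicoherent]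

theorem isFlatOverAt_iff_hT [Etale h] (z : ↥(pullback (h ≫ f) T.hom)) :
    FlatMod.IsFlatOverAt (PicF.XTproj f T) (FGA.ET f F T) ((hT f h T).base z) ↔
      FlatMod.IsFlatOverAt (PicF.XTproj (h ≫ f) T)
        (FGA.ET (h ≫ f) ((Scheme.Modules.pullback h).obj F) T) z := by
  haveI : (FGA.ET f F T).IsQuasicoherent := isQuasicoherent_pullback _ F
  rw [isFlatOverAt_pullback_iff (hT f h T) (PicF.XTproj f T) (FGA.ET f F T) z
    (Flat.stalkMap _ z), isFlatOverAt_congr (hT_snd f h T)]
  exact (isFlatOverAt_iff_of_iso _ ((etIso f h T).app F) z).symm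

theorem resTrdeg_hT [Etale h] [LocallyOfFiniteType f] (z : ↥(pullback (h ≫ f) T.hom)) :
    resTrdeg (PicF.XTproj (h ≫ f) T) z = resTrdeg (PicF.XTproj f T) ((hT f h T).base z) := by
  haveI : LocallyQuasiFinite (hT f h T) := Helper54.locallyQuasiFinite_of_etale _
  have h0 : Dual3.resTrdeg (hT f h T) z = 0 :=
    Groth.Agent.H52.resTrdeg_eq_zero_of_locallyQuasiFinite _ z
  have h1 := Helper55.trdeg_residueField_comp (hT f h T) (PicF.XTproj f T) z
  have h2 : resTrdeg (hT f h T ≫ PicF.XTproj f T) z =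
      resTrdeg (PicF.XTproj f T) ((hT f h T).base z) := by
    have h0' : @Algebra.trdeg _ _ _ _ ((hT f h T).residueFieldMap z).hom.toAlgebra = 0 := h0
    rw [h0', add_zero] at h1
    exact h1.symm
  rw [← h2]
  congr 1
  exact (hT_snd f h T).symm

theorem dimFibresLT_of_etale [Etale h] [LocallyOfFiniteType f] (n : ℕ)
    (hT' : FlatFun.DimFibresLT n (PicF.XTproj f T)
        {x | ¬ FlatMod.IsFlatOverAt (PicF.XTproj f T) (FGA.ET f F T) x}) :
    FlatFun.DimFibresLT n (PicF.XTproj (h ≫ f) T)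
        {x | ¬ FlatMod.IsFlatOverAt (PicF.XTproj (h ≫ f) T)
          (FGA.ET (h ≫ f) ((Scheme.Modules.pullback h).obj F) T) x} := by
  rw [dimFibresLT_iff] at hT' ⊢
  intro z hz
  rw [resTrdeg_hT]
  exact hT' _ (fun hfl => hz ((isFlatOverAt_iff_hT f h T F z).mp hfl))

end Groth.Agent.Lib.Helper7.FlatDimEtale
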