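import Mathlib

/-!
# Helper7: residue fields of points of a fibre product and transcendence degrees

For a pullback square of schemes `P = X ×_S Y` and a point `z` of `P`, the residue field `κ(z)` is
generated as a field by the images of `κ(fst z)` and `κ(snd z)`.  Consequences:
* `resTrdeg_le_of_isPullback`: `trdeg κ(z)/κ(snd z) ≤ trdeg κ(fst z)/κ(f (fst z))`;
* `exists_resTrdeg_ge_of_isPullback`: for `x`, `y` over the same point of `S` there is `z` over both
  with `trdeg κ(x)/κ(f x) ≤ trdeg κ(z)/κ(y)`.
-/

set_option autoImplicit false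
set_option linter.style.haveILetI false
universe u
open CategoryTheory CategoryTheory.Limits AlgebraicGeometry Cardinal

namespace Groth.Agent.Lib.Helper7.PullbackTrdeg

section Field

/-- if `L` is generated as a field over `k'` by the image of `K`, compatibly with `k → k'`, then
`trdeg_{k'} L ≤ trdeg_k K`. -/
theorem trdeg_le_of_adjoin_eq_top {k K k' L : Type u} [Field k] [Field K] [Field k'] [Field L]
    [Algebra k K] [Algebra k' L] (θ : k →+* k') (α : K →+* L)
    (hc : α.comp (algebraMap k K) = (algebraMap k' L).comp θ)
    (htop : IntermediateField.adjoin k' (Set.range α) = ⊤) :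
    Algebra.trdeg k' L ≤ Algebra.trdeg k K := by
  obtain ⟨ι, s, hs⟩ := exists_isTranscendenceBasis' k K
  rw [← hs.cardinalMk_eq_trdeg]
  set t : Set L := Set.range (α ∘ s) with ht
  have hmap : ∀ b ∈ Algebra.adjoin k (Set.range s), α b ∈ Algebra.adjoin k' t := by
    intro b hb
    induction hb using Algebra.adjoin_induction with
    | mem x hx =>
      obtain ⟨i, rfl⟩ := hx
      exact Algebra.subset_adjoin ⟨i, rfl⟩
    | algebraMap r =>
      have : α (algebraMap k K r) = algebraMap k' L (θ r) := congr($hc r)
      rw [this]
      exact Subalgebra.algebraMap_mem _ _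
    | add x y _ _ hx hy => rw [map_add]; exact add_mem hx hy
    | mul x y _ _ hx hy => rw [map_mul]; exact mul_mem hx hy
  let f : Algebra.adjoin k (Set.range s) →+* Algebra.adjoin k' t :=
    (α.comp (Algebra.adjoin k (Set.range s)).val.toRingHom).codRestrict _ (fun b => hmap b.1 b.2)
  have hf : Function.Injective f := by
    intro a b hab
    have : α a.1 = α b.1 := congrArg Subtype.val hab
    exact Subtype.ext (α.injective this)
  have hfg : RingHom.comp (algebraMap (Algebra.adjoin k' t) L) f =
      RingHom.comp α (algebraMap (Algebra.adjoin k (Set.range s)) K) := rfl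
  have halgK : Algebra.IsAlgebraic (Algebra.adjoin k (Set.range s)) K := hs.isAlgebraic
  let E : IntermediateField k' L :=
    Subalgebra.toIntermediateField
      ((Subalgebra.algebraicClosure (Algebra.adjoin k' t) L).restrictScalars k')
      (fun x hx => IsAlgebraic.inv hx)
  have hE : IntermediateField.adjoin k' (Set.range α) ≤ E := by
    rw [IntermediateField.adjoin_le_iff]
    rintro _ ⟨a, rfl⟩
    exact (halgK.isAlgebraic a).ringHom_of_comp_eq f α hf hfg
  rw [htop] at hE
  have halg : Algebra.IsAlgebraic (Algebra.adjoin k' t) L :=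
    ⟨fun y => hE (IntermediateField.mem_top (x := y))⟩
  calc Algebra.trdeg k' L ≤ #t := Algebra.IsAlgebraic.trdeg_le_cardinalMk k' t
    _ ≤ #ι := Cardinal.mk_range_le

/-- For a field extension `K/k` with transcendence basis `s` and a field map `k → k'` there is a
field `L` over `k'` with a compatible map `K → L` under which `s` stays algebraically independent
over `k'`. -/
theorem exists_field_algebraicIndependent {k K k' : Type u} [Field k] [Field K] [Field k']
    [Algebra k K] (θ : k →+* k') {ι : Type u} (s : ι → K)
    (hs : IsTranscendenceBasis k s) :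
    ∃ (L : Type u) (_ : Field L) (_ : Algebra k' L) (α : K →+* L),
      α.comp (algebraMap k K) = (algebraMap k' L).comp θ ∧ AlgebraicIndependent k' (α ∘ s) := by
  have hθ : Function.Injective (MvPolynomial.map (σ := ι) θ) :=
    MvPolynomial.map_injective _ θ.injective
  let g : MvPolynomial ι k →+* FractionRing (MvPolynomial ι k') :=
    (algebraMap (MvPolynomial ι k') (FractionRing (MvPolynomial ι k'))).comp (MvPolynomial.map θ)
  have hg : Function.Injective g := (IsFractionRing.injective _ _).comp hθ
  let ρ : FractionRing (MvPolynomial ι k) →+* FractionRing (MvPolynomial ι k') :=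
    IsFractionRing.lift hg
  let σ : IntermediateField.adjoin k (Set.range s) →+*
      AlgebraicClosure (FractionRing (MvPolynomial ι k')) :=
    (algebraMap (FractionRing (MvPolynomial ι k')) _).comp (ρ.comp hs.1.reprField.toRingHom)
  letI : Algebra (IntermediateField.adjoin k (Set.range s))
    (AlgebraicClosure (FractionRing (MvPolynomial ι k'))) := σ.toAlgebra
  haveI : Algebra.IsAlgebraic (IntermediateField.adjoin k (Set.range s)) K := hs.isAlgebraic_field
  haveI : Module.IsTorsionFree (IntermediateField.adjoin k (Set.range s))
      (AlgebraicClosure (FractionRing (MvPolynomial ι k'))) :=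
    DivisionSemiring.to_moduleIsTorsionFree
  let α : K →ₐ[IntermediateField.adjoin k (Set.range s)]
    (AlgebraicClosure (FractionRing (MvPolynomial ι k'))) := IsAlgClosed.lift
  refine ⟨AlgebraicClosure (FractionRing (MvPolynomial ι k')), inferInstance, inferInstance,
    α.toRingHom, ?_, ?_⟩
  · ext c
    have h1 : algebraMap k K c =
      algebraMap (IntermediateField.adjoin k (Set.range s)) K (algebraMap k _ c) := rfl
    have h2 : hs.1.reprField (algebraMap k _ c) = algebraMap k _ c := hs.1.reprField.commutes c
    have h3 : algebraMap k (FractionRing (MvPolynomial ι k)) c =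
        algebraMap (MvPolynomial ι k) _ (MvPolynomial.C c) := rfl
    show α (algebraMap k K c) = algebraMap k' _ (θ c)
    rw [h1, α.commutes]
    show algebraMap (FractionRing (MvPolynomial ι k')) _
      (ρ (hs.1.reprField (algebraMap k _ c))) = _
    rw [h2, h3, IsFractionRing.lift_algebraMap]
    show algebraMap (FractionRing (MvPolynomial ι k')) _
      (algebraMap (MvPolynomial ι k') _ (MvPolynomial.map θ (MvPolynomial.C c))) = _
    rw [MvPolynomial.map_C]
    rfl
  · have hX : ∀ i, α (s i) = algebraMap (MvPolynomial ι k') _ (MvPolynomial.X i) := by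
      intro i
      have h1 : s i = algebraMap (IntermediateField.adjoin k (Set.range s)) K
        ⟨s i, IntermediateField.subset_adjoin _ _ ⟨i, rfl⟩⟩ := rfl
      have h2 : hs.1.reprField ⟨s i, IntermediateField.subset_adjoin _ _ ⟨i, rfl⟩⟩ =
          algebraMap (MvPolynomial ι k) _ (MvPolynomial.X i) := by
        apply hs.1.aevalEquivField.injective
        have : hs.1.aevalEquivField
            (hs.1.reprField ⟨s i, IntermediateField.subset_adjoin _ _ ⟨i, rfl⟩⟩) =
            ⟨s i, IntermediateField.subset_adjoin _ _ ⟨i, rfl⟩⟩ :=
          AlgEquiv.apply_symm_apply hs.1.aevalEquivField _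
        rw [this]
        apply Subtype.ext
        rw [hs.1.aevalEquivField_algebraMap_apply_coe]
        simp
      rw [h1, α.commutes]
      show algebraMap (FractionRing (MvPolynomial ι k')) _ (ρ (hs.1.reprField _)) = _
      rw [h2, IsFractionRing.lift_algebraMap]
      show algebraMap (FractionRing (MvPolynomial ι k')) _
        (algebraMap (MvPolynomial ι k') _ (MvPolynomial.map θ (MvPolynomial.X i))) = _
      rw [MvPolynomial.map_X]
      rfl
    have : (α.toRingHom ∘ s) = (IsScalarTower.toAlgHom k' (MvPolynomial ι k')
        (AlgebraicClosure (FractionRing (MvPolynomial ι k')))) ∘ MvPolynomial.X := by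
      funext i
      exact hX i
    rw [this]
    apply (MvPolynomial.algebraicIndependent_X ι k').map'
    exact ((algebraMap (FractionRing (MvPolynomial ι k')) _).injective).comp
      (IsFractionRing.injective _ _)

end Field

section Scheme

/-- The transcendence degree of `κ(x)` over `κ(q x)` (same as the frozen `Dual3.resTrdeg`). -/
noncomputable def resTrdeg {X T : Scheme.{u}} (q : X ⟶ T) (x : X) : Cardinal.{u} :=
  letI := (q.residueFieldMap x).hom.toAlgebra
  Algebra.trdeg (T.residueField (q.base x)) (X.residueField x)

variable {P X Y S : Scheme.{u}} {fst : P ⟶ X} {snd : P ⟶ Y} {f : X ⟶ S} {g : Y ⟶ S}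

/-- compatibility of the residue field maps in a commutative square -/
theorem residueFieldMap_comm (w : fst ≫ f = snd ≫ g) (z : P) :
    f.residueFieldMap (fst.base z) ≫ fst.residueFieldMap z =
      (S.residueFieldCongr (show f.base (fst.base z) = g.base (snd.base z) by
        rw [← Scheme.Hom.comp_apply, ← Scheme.Hom.comp_apply, w])).hom ≫
        g.residueFieldMap (snd.base z) ≫ snd.residueFieldMap z := by
  rw [← Scheme.residueFieldMap_comp, ← Scheme.residueFieldMap_comp,
    Scheme.Hom.residueFieldMap_congr w z]
  rfl

/-- `Spec` of a field extension is an epimorphism of schemes. -/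
theorem epi_SpecMap_of_field {K L : Type u} [Field K] [Field L] (φ : K →+* L) :
    Epi (Spec.map (CommRingCat.ofHom φ)) := by
  haveI : Flat (Spec.map (CommRingCat.ofHom φ)) := by
    rw [HasRingHomProperty.Spec_iff (P := @Flat)]
    letI := φ.toAlgebra
    show φ.Flat
    rw [RingHom.Flat]
    infer_instance
  haveI : Surjective (Spec.map (CommRingCat.ofHom φ)) := by
    constructor
    intro y
    refine ⟨IsLocalRing.closedPoint L, Subsingleton.elim _ _⟩
  exact Flat.epi_of_flat_of_surjective _

/-- a morphism from the spectrum of a field, in terms of its image point and the residue field map -/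
theorem exists_of_SpecMap_comp_eq {L : Type u} [Field L] {x : X} (α : X.residueField x ⟶ .of L)
    (c : Spec (.of L) ⟶ P) (hc : c ≫ fst = Spec.map α ≫ X.fromSpecResidueField x) :
    ∃ e : fst.base (c.base (IsLocalRing.closedPoint L)) = x,
      fst.residueFieldMap (c.base (IsLocalRing.closedPoint L)) ≫
        Scheme.descResidueField (Scheme.stalkClosedPointTo c) =
        (X.residueFieldCongr e).hom ≫ α := by
  have h1 : (Scheme.SpecToEquivOfField L X) (c ≫ fst) = ⟨x, α⟩ := by
    rw [hc]
    exact (Scheme.SpecToEquivOfField L X).apply_symm_apply ⟨x, α⟩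
  have h2 : (Scheme.SpecToEquivOfField L X) (c ≫ fst) =
      ⟨fst.base (c.base (IsLocalRing.closedPoint L)),
        fst.residueFieldMap (c.base (IsLocalRing.closedPoint L)) ≫
        Scheme.descResidueField (Scheme.stalkClosedPointTo c)⟩ := by
    rw [← Scheme.descResidueField_stalkClosedPointTo_comp]
    rfl
  rw [h2, Scheme.SpecToEquivOfField_eq_iff] at h1
  exact h1

/-- In a fibre product `P = X ×_S Y`, the residue field of a point `z` is generated, as a field, by
the images of the residue fields of its two projections. -/
theorem adjoin_range_residueFieldMap_eq_top (h : IsPullback fst snd f g) (z : P) :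
    letI := (snd.residueFieldMap z).hom.toAlgebra
    IntermediateField.adjoin (Y.residueField (snd.base z))
      (Set.range (fst.residueFieldMap z).hom) = ⊤ := by
  letI : Algebra (Y.residueField (snd.base z)) (P.residueField z) :=
    (snd.residueFieldMap z).hom.toAlgebra
  set L₀ := IntermediateField.adjoin (Y.residueField (snd.base z))
    (Set.range (fst.residueFieldMap z).hom) with hL₀
  let φx₀ : X.residueField (fst.base z) →+* L₀ :=
    (fst.residueFieldMap z).hom.codRestrict L₀
      (fun t => IntermediateField.subset_adjoin _ _ ⟨t, rfl⟩)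
  let φy₀ : Y.residueField (snd.base z) →+* L₀ := algebraMap _ L₀
  let ι : L₀ →+* P.residueField z := algebraMap L₀ _
  let ι' : CommRingCat.of L₀ ⟶ P.residueField z := CommRingCat.ofHom ι
  have hιx : CommRingCat.ofHom φx₀ ≫ ι' = fst.residueFieldMap z := rfl
  have hιy : CommRingCat.ofHom φy₀ ≫ ι' = snd.residueFieldMap z := rfl
  let a : Spec (.of L₀) ⟶ X := Spec.map (CommRingCat.ofHom φx₀) ≫ X.fromSpecResidueField _
  let b : Spec (.of L₀) ⟶ Y := Spec.map (CommRingCat.ofHom φy₀) ≫ Y.fromSpecResidueField _
  let eι : Spec (P.residueField z) ⟶ Spec (.of L₀) := Spec.map ι'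
  haveI : Epi eι := epi_SpecMap_of_field ι
  have ha : eι ≫ a = P.fromSpecResidueField z ≫ fst := by
    have h1 : eι ≫ Spec.map (CommRingCat.ofHom φx₀) = Spec.map (fst.residueFieldMap z) := by
      rw [← hιx]; exact (Spec.map_comp _ _).symm
    calc eι ≫ a = (eι ≫ Spec.map (CommRingCat.ofHom φx₀)) ≫ X.fromSpecResidueField _ :=
          (Category.assoc _ _ _).symm
      _ = Spec.map (fst.residueFieldMap z) ≫ X.fromSpecResidueField _ := by rw [h1]
      _ = _ := Scheme.Hom.SpecMap_residueFieldMap_fromSpecResidueField _ _
  have hb : eι ≫ b = P.fromSpecResidueField z ≫ snd := by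
    have h1 : eι ≫ Spec.map (CommRingCat.ofHom φy₀) = Spec.map (snd.residueFieldMap z) := by
      rw [← hιy]; exact (Spec.map_comp _ _).symm
    calc eι ≫ b = (eι ≫ Spec.map (CommRingCat.ofHom φy₀)) ≫ Y.fromSpecResidueField _ :=
          (Category.assoc _ _ _).symm
      _ = Spec.map (snd.residueFieldMap z) ≫ Y.fromSpecResidueField _ := by rw [h1]
      _ = _ := Scheme.Hom.SpecMap_residueFieldMap_fromSpecResidueField _ _
  have w : a ≫ f = b ≫ g := by
    rw [← cancel_epi eι, reassoc_of% ha, reassoc_of% hb, h.w]
  let c : Spec (.of L₀) ⟶ P := h.lift a b w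
  have hc : eι ≫ c = P.fromSpecResidueField z := by
    apply h.hom_ext
    · rw [Category.assoc, h.lift_fst, ha]
    · rw [Category.assoc, h.lift_snd, hb]
  -- the point and residue field map of `c`
  have hc' := Scheme.descResidueField_stalkClosedPointTo_fromSpecResidueField L₀ P c
  -- compare `eι ≫ c` with `fromSpecResidueField z`
  have h1 : (Scheme.SpecToEquivOfField (P.residueField z) P).symm
      ⟨c.base (IsLocalRing.closedPoint L₀),
        Scheme.descResidueField (Scheme.stalkClosedPointTo c) ≫ ι'⟩ =
      (Scheme.SpecToEquivOfField (P.residueField z) P).symm ⟨z, 𝟙 _⟩ := by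
    show Spec.map (Scheme.descResidueField (Scheme.stalkClosedPointTo c) ≫ ι') ≫
        P.fromSpecResidueField _ = Spec.map (𝟙 _) ≫ P.fromSpecResidueField z
    rw [Spec.map_comp, Category.assoc, hc', Spec.map_id, Category.id_comp]
    exact hc
  have h2 := (Scheme.SpecToEquivOfField (P.residueField z) P).symm.injective h1
  rw [Scheme.SpecToEquivOfField_eq_iff] at h2
  obtain ⟨e, he⟩ := h2
  -- surjectivity of `ι`
  rw [eq_top_iff]
  intro y _
  have h3 : ι ((Scheme.descResidueField (Scheme.stalkClosedPointTo c)).hom
      ((P.residueFieldCongr e).inv.hom y)) = y := by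
    have h4 : ι ((Scheme.descResidueField (Scheme.stalkClosedPointTo c)).hom
        ((P.residueFieldCongr e).inv.hom y)) =
        (P.residueFieldCongr e).hom.hom ((P.residueFieldCongr e).inv.hom y) := congr($he _)
    rw [h4]
    exact congr($((P.residueFieldCongr e).inv_hom_id) y)
  rw [← h3]
  exact ((Scheme.descResidueField (Scheme.stalkClosedPointTo c)).hom
      ((P.residueFieldCongr e).inv.hom y)).2

theorem resTrdeg_le_of_isPullback (h : IsPullback fst snd f g) (z : P) :
    resTrdeg snd z ≤ resTrdeg f (fst.base z) := by
  letI : Algebra (Y.residueField (snd.base z)) (P.residueField z) :=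
    (snd.residueFieldMap z).hom.toAlgebra
  letI : Algebra (S.residueField (f.base (fst.base z))) (X.residueField (fst.base z)) :=
    (f.residueFieldMap (fst.base z)).hom.toAlgebra
  have hxy : f.base (fst.base z) = g.base (snd.base z) := by
    rw [← Scheme.Hom.comp_apply, ← Scheme.Hom.comp_apply, h.w]
  refine trdeg_le_of_adjoin_eq_top
    ((S.residueFieldCongr hxy).hom ≫ g.residueFieldMap (snd.base z)).hom
    (fst.residueFieldMap z).hom ?_ (adjoin_range_residueFieldMap_eq_top h z)
  have := residueFieldMap_comm h.w z
  ext r
  exact congr($this r)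

/-- In a fibre product `P = X ×_S Y`, over points `x`, `y` with the same image in `S` there is a
point `z` whose residue field has transcendence degree over `κ(y)` at least that of `κ(x)` over
`κ(f x)`. -/
theorem exists_resTrdeg_ge_of_isPullback (h : IsPullback fst snd f g) (x : X) (y : Y)
    (hxy : f.base x = g.base y) :
    ∃ z : P, fst.base z = x ∧ snd.base z = y ∧ resTrdeg f x ≤ resTrdeg snd z := by
  letI : Algebra (S.residueField (f.base x)) (X.residueField x) :=
    (f.residueFieldMap x).hom.toAlgebra
  let θ : S.residueField (f.base x) ⟶ Y.residueField y :=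
    (S.residueFieldCongr hxy).hom ≫ g.residueFieldMap y
  obtain ⟨ι, s, hs⟩ := exists_isTranscendenceBasis' (S.residueField (f.base x)) (X.residueField x)
  obtain ⟨L, _, _, α, hα, hind⟩ := exists_field_algebraicIndependent θ.hom s hs
  let a : Spec (.of L) ⟶ X := Spec.map (CommRingCat.ofHom α) ≫ X.fromSpecResidueField x
  let b : Spec (.of L) ⟶ Y :=
    Spec.map (CommRingCat.ofHom (algebraMap (Y.residueField y) L)) ≫ Y.fromSpecResidueField y
  have hα' : f.residueFieldMap x ≫ CommRingCat.ofHom α =
      θ ≫ CommRingCat.ofHom (algebraMap (Y.residueField y) L) := by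
    ext c
    exact congr($hα c)
  have w : a ≫ f = b ≫ g := by
    simp only [a, b, Category.assoc]
    rw [← Scheme.Hom.SpecMap_residueFieldMap_fromSpecResidueField,
      ← Scheme.Hom.SpecMap_residueFieldMap_fromSpecResidueField,
      ← Scheme.residueFieldCongr_fromSpecResidueField hxy,
      ← Spec.map_comp_assoc, ← Spec.map_comp_assoc, ← Spec.map_comp_assoc]
    refine (congrArg (fun m => Spec.map m ≫ S.fromSpecResidueField (f.base x)) hα').trans ?_
    rfl
  let c : Spec (.of L) ⟶ P := h.lift a b w
  obtain ⟨e, he⟩ := exists_of_SpecMap_comp_eq (fst := fst) (CommRingCat.ofHom α) c (h.lift_fst a b w)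
  obtain ⟨e', he'⟩ := exists_of_SpecMap_comp_eq (fst := snd)
    (CommRingCat.ofHom (algebraMap (Y.residueField y) L)) c (h.lift_snd a b w)
  refine ⟨c.base (IsLocalRing.closedPoint L), e, e', ?_⟩
  set z := c.base (IsLocalRing.closedPoint L) with hz
  set γ := Scheme.descResidueField (Scheme.stalkClosedPointTo c) with hγ
  have h1 : resTrdeg f x = #ι := hs.cardinalMk_eq_trdeg.symm
  rw [h1]
  letI : Algebra (Y.residueField (snd.base z)) (P.residueField z) :=
    (snd.residueFieldMap z).hom.toAlgebra
  let wfam : ι → P.residueField z :=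
    fun i => (fst.residueFieldMap z).hom ((X.residueFieldCongr e).inv.hom (s i))
  have hw : AlgebraicIndependent (Y.residueField (snd.base z)) wfam := by
    refine AlgebraicIndependent.of_ringHom_of_comp_eq (S := Y.residueField y) (B := L)
      (Y.residueFieldCongr e').hom.hom γ.hom ?_ ?_ ?_
    · have : γ.hom ∘ wfam = α ∘ s := by
        funext i
        have h2 : γ.hom ((fst.residueFieldMap z).hom ((X.residueFieldCongr e).inv.hom (s i))) =
            α ((X.residueFieldCongr e).hom.hom ((X.residueFieldCongr e).inv.hom (s i))) :=
          congr($he ((X.residueFieldCongr e).inv.hom (s i)))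
        have h3 : (X.residueFieldCongr e).hom.hom ((X.residueFieldCongr e).inv.hom (s i)) = s i :=
          congr($((X.residueFieldCongr e).inv_hom_id) (s i))
        show γ.hom ((fst.residueFieldMap z).hom ((X.residueFieldCongr e).inv.hom (s i))) = α (s i)
        rw [h2, h3]
      rw [this]
      exact hind
    · exact (Y.residueFieldCongr e').hom.hom.injective
    · ext r
      have h2 : γ.hom ((snd.residueFieldMap z).hom r) =
          algebraMap (Y.residueField y) L ((Y.residueFieldCongr e').hom.hom r) := congr($he' r)
      exact h2.symm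
  exact hw.cardinalMk_le_trdeg

end Scheme

end Groth.Agent.Lib.Helper7.PullbackTrdeg
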