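import Groth.Agent.Lib.Helper7.FlatFunSheaf
import Groth.Agent.Lib.Helper7.PullbackTrdeg

/-!
# Helper7: the functor "flat in dimensions `≥ n`" is an fpqc sheaf
-/

set_option autoImplicit false
set_option linter.style.haveILetI false
universe u
open CategoryTheory CategoryTheory.Limits AlgebraicGeometry Opposite TopologicalSpace

namespace Groth.Agent.Lib.Helper7.FlatDimSheaf

open Groth.Agent.Lib Groth.Agent.Helper19.FpqcModDesc Groth.Agent.Lib.Helper7.FlatFunSheaf
  Groth.Agent.Lib.Helper7.PullbackTrdeg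

theorem dimFibresLT_iff {X T : Scheme.{u}} (n : ℕ) (q : X ⟶ T) (Z : Set X) :
    FlatFun.DimFibresLT n q Z ↔ ∀ x ∈ Z, resTrdeg q x < (n : Cardinal.{u}) := Iff.rfl

variable {X S : Scheme.{u}} (f : X ⟶ S) (F : X.Modules) [F.IsQuasicoherent]

/-- The functor `F_n` (flat in dimensions `≥ n`) is an fpqc sheaf. -/
theorem isSheaf_flatInDimGEFunctor (n : ℕ) :
    Presheaf.IsSheaf (QuotSh.J Scheme.fpqcPrecoverage S)
      (FlatFun.genPSp S (fun T => FlatFun.DimFibresLT n (PicF.XTproj f T)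
        {x | ¬ FlatMod.IsFlatOverAt (PicF.XTproj f T) (FGA.ET f F T) x})) := by
  apply isSheaf_genPSp
  · intro T T₀ k hk
    rw [dimFibresLT_iff] at hk ⊢
    intro z hz
    have h1 : (bcMap f k).base z ∈
        {x | ¬ FlatMod.IsFlatOverAt (PicF.XTproj f T₀) (FGA.ET f F T₀) x} :=
      fun hflat => hz (isFlatOverAt_ET_of_hom f F k z hflat)
    exact (resTrdeg_le_of_isPullback (isPullback_bcMap f k) z).trans_lt (hk _ h1)
  · intro T ι W h hs hfl hP
    rw [dimFibresLT_iff]
    intro y hy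
    obtain ⟨i, w, hw⟩ := hs ((PicF.XTproj f T).base y)
    have hfl' : ∀ i, Flat (Over.homMk (h i) : Over.mk (h i ≫ T.hom) ⟶ T).left := hfl
    haveI := hfl' i
    obtain ⟨z, hz1, -, hz3⟩ := exists_resTrdeg_ge_of_isPullback
      (isPullback_bcMap f (T' := Over.mk (h i ≫ T.hom)) (T := T) (Over.homMk (h i) rfl)) y w hw.symm
    have hPi := hP i
    rw [dimFibresLT_iff] at hPi
    refine hz3.trans_lt (hPi z ?_)
    intro hflat
    apply hy
    have := isFlatOverAt_ET_of_flat f F (T := Over.mk (h i ≫ T.hom)) (T₀ := T)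
      (Over.homMk (h i) rfl) z hflat
    rwa [hz1] at this

end Groth.Agent.Lib.Helper7.FlatDimSheaf
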