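import Mathlib
import Groth.Agent.Lib.Helper19.FpqcModDesc3
import Groth.Agent.Lib.Helper16.FlatPull.BaseChange
import Groth.Agent.Lib.Helper49.StalkNbhd

/-!
# Helper7: flatness over the base of `F_T` on `X_T`: stability under base change and flat descent
-/

set_option autoImplicit false
set_option linter.style.haveILetI false
universe u
open CategoryTheory CategoryTheory.Limits AlgebraicGeometry Opposite TopologicalSpace

namespace Groth.Agent.Lib.Helper7.FlatFunSheaf

open Groth.Agent.Lib Groth.Agent.Helper19.FpqcModDesc Groth.Agent.Lib.Helper16.FlatPull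

section Iso

variable {X Y : Scheme.{u}}

theorem stalkMap_comp {M N P : X.Modules} (φ : M ⟶ N) (ψ : N ⟶ P) (x : X) :
    Helper49.stalkMap (φ ≫ ψ) x = Helper49.stalkMap φ x ≫ Helper49.stalkMap ψ x := by
  unfold Helper49.stalkMap
  exact (TopCat.Presheaf.stalkFunctor Ab x).map_comp φ.mapPresheaf ψ.mapPresheaf

theorem stalkMap_id (M : X.Modules) (x : X) :
    Helper49.stalkMap (𝟙 M) x = 𝟙 _ := by
  unfold Helper49.stalkMap
  exact (TopCat.Presheaf.stalkFunctor _ x).map_id _

/-- The stalk of an isomorphism of modules, as a linear equivalence. -/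
noncomputable def stalkLinearEquivOfIso {G G' : X.Modules} (e : G ≅ G') (x : X) :
    ↑(G.presheaf.stalk x) ≃ₗ[X.presheaf.stalk x] ↑(G'.presheaf.stalk x) :=
  LinearEquiv.ofBijective (Helper49.stalkMapLinear e.hom x) (by
    have h1 : ∀ a, (Helper49.stalkMap e.inv x).hom ((Helper49.stalkMap e.hom x).hom a) = a := by
      intro a
      have := stalkMap_comp e.hom e.inv x
      rw [e.hom_inv_id, stalkMap_id] at this
      have h' := congrArg (fun f => f.hom a) this
      simpa using h'.symm
    have h2 : ∀ a, (Helper49.stalkMap e.hom x).hom ((Helper49.stalkMap e.inv x).hom a) = a := by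
      intro a
      have := stalkMap_comp e.inv e.hom x
      rw [e.inv_hom_id, stalkMap_id] at this
      have h' := congrArg (fun f => f.hom a) this
      simpa using h'.symm
    exact ⟨fun a b hab => by
        have := congrArg (Helper49.stalkMap e.inv x).hom hab
        simpa [Helper49.stalkMapLinear, h1] using this,
      fun b => ⟨(Helper49.stalkMap e.inv x).hom b, h2 b⟩⟩)

theorem isFlatOverAt_of_iso (f : X ⟶ Y) {G G' : X.Modules} (e : G ≅ G') (x : X)
    (h : FlatMod.IsFlatOverAt f G x) : FlatMod.IsFlatOverAt f G' x := by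
  letI := (f.stalkMap x).hom.toAlgebra
  letI : Module (Y.presheaf.stalk (f.base x)) (G.presheaf.stalk x) := FlatMod.moduleStalkOver f G x
  letI : Module (Y.presheaf.stalk (f.base x)) (G'.presheaf.stalk x) :=
    FlatMod.moduleStalkOver f G' x
  haveI : IsScalarTower (Y.presheaf.stalk (f.base x)) (X.presheaf.stalk x)
      (G.presheaf.stalk x) := IsScalarTower.of_compHom _ _ _
  haveI : IsScalarTower (Y.presheaf.stalk (f.base x)) (X.presheaf.stalk x)
      (G'.presheaf.stalk x) := IsScalarTower.of_compHom _ _ _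
  haveI : Module.Flat (Y.presheaf.stalk (f.base x)) (G.presheaf.stalk x) := h
  exact Module.Flat.of_linearEquiv
    ((stalkLinearEquivOfIso e x).restrictScalars (Y.presheaf.stalk (f.base x))).symm

theorem isFlatOverAt_iff_of_iso (f : X ⟶ Y) {G G' : X.Modules} (e : G ≅ G') (x : X) :
    FlatMod.IsFlatOverAt f G x ↔ FlatMod.IsFlatOverAt f G' x :=
  ⟨isFlatOverAt_of_iso f e x, isFlatOverAt_of_iso f e.symm x⟩

theorem isFlatOverAt_congr {f f' : X ⟶ Y} (e : f = f') (G : X.Modules) (x : X) :
    FlatMod.IsFlatOverAt f G x ↔ FlatMod.IsFlatOverAt f' G x := by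
  subst e; rfl

end Iso

variable {X S : Scheme.{u}} (f : X ⟶ S) (F : X.Modules) [F.IsQuasicoherent]

/-- base change: if `F_{T₀}` is flat over `T₀` at the image of `z`, then `F_T` is flat over `T`
at `z`. -/
theorem isFlatOverAt_ET_of_hom {T T₀ : Over S} (k : T ⟶ T₀) (z : ↥(pullback f T.hom))
    (h : FlatMod.IsFlatOverAt (PicF.XTproj f T₀) (FGA.ET f F T₀) ((bcMap f k).base z)) :
    FlatMod.IsFlatOverAt (PicF.XTproj f T) (FGA.ET f F T) z := by
  haveI : (FGA.ET f F T₀).IsQuasicoherent := isQuasicoherent_pullback _ F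
  have h1 := isFlatOverAt_baseChange (PicF.XTproj f T₀) (PicF.XTproj f T) (bcMap f k) k.left
    (isPullback_bcMap f k) (FGA.ET f F T₀) z h
  exact isFlatOverAt_of_iso _ ((bcIso f k).app F) z h1

/-- flat descent: if `T ⟶ T₀` is flat and `F_T` is flat over `T` at `z`, then `F_{T₀}` is flat
over `T₀` at the image of `z`. -/
theorem isFlatOverAt_ET_of_flat {T T₀ : Over S} (k : T ⟶ T₀) [Flat k.left]
    (z : ↥(pullback f T.hom))
    (h : FlatMod.IsFlatOverAt (PicF.XTproj f T) (FGA.ET f F T) z) :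
    FlatMod.IsFlatOverAt (PicF.XTproj f T₀) (FGA.ET f F T₀) ((bcMap f k).base z) := by
  haveI : (FGA.ET f F T₀).IsQuasicoherent := isQuasicoherent_pullback _ F
  rw [isFlatOverAt_pullback_iff (bcMap f k) (PicF.XTproj f T₀) (FGA.ET f F T₀) z
    (Flat.stalkMap _ z)]
  have h1 : FlatMod.IsFlatOverAt (PicF.XTproj f T)
      ((Scheme.Modules.pullback (bcMap f k)).obj (FGA.ET f F T₀)) z :=
    isFlatOverAt_of_iso _ ((bcIso f k).app F).symm z h
  have h2 := isFlatOverAt_comp_of_flat (PicF.XTproj f T) k.left _ z (Flat.stalkMap _ _) h1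
  exact (isFlatOverAt_congr (bcMap_snd f k) _ z).mpr h2

theorem isFlatOverAt_ET_iff_of_flat {T T₀ : Over S} (k : T ⟶ T₀) [Flat k.left]
    (z : ↥(pullback f T.hom)) :
    FlatMod.IsFlatOverAt (PicF.XTproj f T) (FGA.ET f F T) z ↔
    FlatMod.IsFlatOverAt (PicF.XTproj f T₀) (FGA.ET f F T₀) ((bcMap f k).base z) :=
  ⟨isFlatOverAt_ET_of_flat f F k z, isFlatOverAt_ET_of_hom f F k z⟩

/-- The flatness functor `F_flat` is an fpqc sheaf. -/
theorem isSheaf_flatFunctor :
    Presheaf.IsSheaf (QuotSh.J Scheme.fpqcPrecoverage S)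
      (FlatFun.genPSp S (fun T => FlatMod.IsFlatOver (PicF.XTproj f T) (FGA.ET f F T))) := by
  apply isSheaf_genPSp
  · intro T T₀ k hk z
    exact isFlatOverAt_ET_of_hom f F k z (hk _)
  · intro T ι W h hs hfl hP y
    obtain ⟨i, z, hz⟩ := bcMap_jointly_surjective f T W h hs y
    have hfl' : ∀ i, Flat (Over.homMk (h i) : Over.mk (h i ≫ T.hom) ⟶ T).left := hfl
    haveI := hfl' i
    rw [← hz]
    exact isFlatOverAt_ET_of_flat f F (T := Over.mk (h i ≫ T.hom)) (T₀ := T) (Over.homMk (h i) rfl) z (hP i z)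

end Groth.Agent.Lib.Helper7.FlatFunSheaf
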