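import Groth.Prelude.Def_GmAct
import Groth.Agent.Lib.Helper7.SchDominant
import Mathlib.AlgebraicGeometry.Morphisms.Flat

/-!
# The inclusion `G_m ⟶ A¹` over `Spec R`: equivariance and scheme-theoretic density
-/

set_option autoImplicit false
set_option linter.unusedSectionVars false
set_option linter.style.haveILetI false

namespace Groth.Agent.Lib.Helper7.GmLine

universe u
open CategoryTheory Limits TensorProduct AlgebraicGeometry MonoidalCategory
  CartesianMonoidalCategory MonObj Opposite
open scoped Polynomial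
open Groth.Agent.Lib.Helper7.SchDominant

attribute [local instance] CoactBr.braidedAlgSpecOf

section Equivariance

variable (R : Type u) [CommRing R]

/-- The inclusion `j : G_m ⟶ A¹`, `t ↦ t`. -/
noncomputable abbrev jj : ThetaS.Gm R ⟶ ThetaS.Line R :=
  CoactBr.pt (ThetaS.linePt (ThetaS.zPow R 1))

theorem pt_comp_jj {A : Type u} [CommRing A] [Algebra R A] (h : ThetaS.Lau R →ₐ[R] A) :
    CoactBr.pt h ≫ jj R = CoactBr.pt (ThetaS.linePt (h (ThetaS.zPow R 1))) := by
  rw [← CoactBr.pt_comp]
  congr 1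
  apply Polynomial.algHom_ext
  simp

/-- The universal pair of points of `G_m`. -/
theorem isIso_univ {A B : Type u} [CommRing A] [CommRing B] [Algebra R A] [Algebra R B] :
    IsIso (lift (CoactBr.pt (Algebra.TensorProduct.includeLeft : A →ₐ[R] A ⊗[R] B))
      (CoactBr.pt (Algebra.TensorProduct.includeRight : B →ₐ[R] A ⊗[R] B))) := by
  have h := CoactBr.lift_pt_pt (R := R) (Algebra.TensorProduct.includeLeft : A →ₐ[R] A ⊗[R] B)
    (Algebra.TensorProduct.includeRight : B →ₐ[R] A ⊗[R] B)
  have h2 : Algebra.TensorProduct.lift (Algebra.TensorProduct.includeLeft : A →ₐ[R] A ⊗[R] B)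
      (Algebra.TensorProduct.includeRight : B →ₐ[R] A ⊗[R] B) (fun _ _ => .all _ _) =
      AlgHom.id R _ := by
    apply Algebra.TensorProduct.ext'
    intro a b
    simp
  rw [h2, CoactBr.pt_id] at h
  have hμ : IsIso (Functor.LaxMonoidal.μ (algSpec (CommRingCat.of R))
      (op (.of R A)) (op (.of R B))) := inferInstance
  have h3 : IsIso (lift (CoactBr.pt (Algebra.TensorProduct.includeLeft : A →ₐ[R] A ⊗[R] B))
      (CoactBr.pt (Algebra.TensorProduct.includeRight : B →ₐ[R] A ⊗[R] B)) ≫
      Functor.LaxMonoidal.μ (algSpec (CommRingCat.of R)) (op (.of R A)) (op (.of R B))) := by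
    rw [h]; exact IsIso.id _
  exact @IsIso.of_isIso_comp_right _ _ _ _ _ _ _ hμ h3

/-- `g · j(h) = j(g h)`: the inclusion `G_m ⟶ A¹` is equivariant for translation. -/
theorem whiskerLeft_jj_act :
    (ThetaS.Gm R ◁ jj R) ≫ (ThetaS.lineAction R).act = μ[ThetaS.Gm R] ≫ jj R := by
  haveI := isIso_univ R (A := ThetaS.Lau R) (B := ThetaS.Lau R)
  rw [← cancel_epi (lift (CoactBr.pt (Algebra.TensorProduct.includeLeft :
      ThetaS.Lau R →ₐ[R] ThetaS.Lau R ⊗[R] ThetaS.Lau R))
      (CoactBr.pt (Algebra.TensorProduct.includeRight :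
      ThetaS.Lau R →ₐ[R] ThetaS.Lau R ⊗[R] ThetaS.Lau R)))]
  rw [lift_whiskerLeft_assoc, pt_comp_jj, ThetaS.lineAction_pt, ← Category.assoc, ← Hom.mul_def,
    CoactBr.pt_mul_pt, pt_comp_jj]
  congr 2
  simp [Bialgebra.comulAlgHom_apply]

theorem lift_jj_act {T : Over (Spec (CommRingCat.of R))} (g h : T ⟶ ThetaS.Gm R) :
    lift g (h ≫ jj R) ≫ (ThetaS.lineAction R).act = (g * h) ≫ jj R := by
  rw [← lift_whiskerLeft, Category.assoc, whiskerLeft_jj_act, Hom.mul_def, Category.assoc]

end Equivariance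

section Dominance

variable (R : Type u) [CommRing R]

theorem sp_hom_eq (B : Type u) [CommRing B] [Algebra R B] :
    (CoactBr.sp R B).hom = Spec.map (CommRingCat.ofHom (algebraMap R B)) := rfl

/-- `Spec` of an algebra map with an `R`-linear retraction stays scheme-theoretically dominant after
any base change `- ×_{Spec R} T`. -/
theorem isSchemeTheoreticallyDominant_pt_whiskerRight {B B' : Type u} [CommRing B] [CommRing B']
    [Algebra R B] [Algebra R B'] (β : B →ₐ[R] B') (ρ₀ : B' →ₗ[R] B) (hretr : ∀ b, ρ₀ (β b) = b)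
    (T : Over (Spec (CommRingCat.of R))) :
    IsSchemeTheoreticallyDominant (CoactBr.pt β ▷ T).left := by
  haveI h1 : IsAffineHom (CoactBr.sp R B).hom :=
    isAffineHom_of_isAffine (X := Spec (CommRingCat.of B)) (Y := Spec (CommRingCat.of R)) _
  haveI h2 : IsAffineHom (CoactBr.sp R B').hom :=
    isAffineHom_of_isAffine (X := Spec (CommRingCat.of B')) (Y := Spec (CommRingCat.of R)) _
  refine isSchemeTheoreticallyDominant_whiskerRight_of_forall_isAffine (CoactBr.pt β)
    (fun T hT => ?_) T
  haveI := hT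
  let ρ : Γ(Spec (CommRingCat.of B'), ⊤) →+ Γ(Spec (CommRingCat.of B), ⊤) :=
    ((Scheme.ΓSpecIso (CommRingCat.of B)).inv.hom : B →+ Γ(Spec (CommRingCat.of B), ⊤)).comp
      (ρ₀.toAddMonoidHom.comp
        ((Scheme.ΓSpecIso (CommRingCat.of B')).hom.hom : Γ(Spec (CommRingCat.of B'), ⊤) →+ B'))
  have hih : ∀ (R : CommRingCat.{u}) (x : Γ(Spec R, ⊤)),
      (Scheme.ΓSpecIso R).inv.hom ((Scheme.ΓSpecIso R).hom.hom x) = x :=
    fun R x => congr($((Scheme.ΓSpecIso R).hom_inv_id).hom x)
  have hhi : ∀ (R : CommRingCat.{u}) (y : R),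
      (Scheme.ΓSpecIso R).hom.hom ((Scheme.ΓSpecIso R).inv.hom y) = y :=
    fun R y => congr($((Scheme.ΓSpecIso R).inv_hom_id).hom y)
  have happ : ∀ {R R' : CommRingCat.{u}} (ψ : R ⟶ R') (x : Γ(Spec R, ⊤)),
      (Spec.map ψ).appTop.hom x =
        (Scheme.ΓSpecIso R').inv.hom (ψ.hom ((Scheme.ΓSpecIso R).hom.hom x)) := by
    intro R R' ψ x
    have h := congr($(Scheme.ΓSpecIso_inv_naturality ψ).hom ((Scheme.ΓSpecIso R).hom.hom x))
    simp only [CommRingCat.hom_comp, RingHom.coe_comp, Function.comp_apply] at h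
    rw [h, hih]
  refine isSchemeTheoreticallyDominant_of_affine (Z := Spec (CommRingCat.of R))
    (A := Spec (CommRingCat.of B)) (A' := Spec (CommRingCat.of B'))
    (a := (CoactBr.sp R B).hom) (a' := (CoactBr.sp R B').hom) (CoactBr.pt β).left
    (Over.w (CoactBr.pt β)) (IsPullback.of_hasPullback (CoactBr.sp R B).hom T.hom)
    (IsPullback.of_hasPullback (CoactBr.sp R B').hom T.hom) _
    (Over.whiskerRight_left_fst _) (Over.whiskerRight_left_snd _) ρ ?_ ?_
  · intro (k : Γ(Spec (CommRingCat.of R), ⊤)) (y : Γ(Spec (CommRingCat.of B'), ⊤))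
    show (Scheme.ΓSpecIso (CommRingCat.of B)).inv.hom (ρ₀ ((Scheme.ΓSpecIso (CommRingCat.of B')).hom.hom
        ((Spec.map (CommRingCat.ofHom (algebraMap R B'))).appTop.hom k * y))) =
      (Spec.map (CommRingCat.ofHom (algebraMap R B))).appTop.hom k *
        (Scheme.ΓSpecIso (CommRingCat.of B)).inv.hom (ρ₀ ((Scheme.ΓSpecIso (CommRingCat.of B')).hom.hom y))
    rw [map_mul, happ, happ, hhi]
    simp only [CommRingCat.hom_ofHom]
    rw [← Algebra.smul_def, map_smul, Algebra.smul_def, map_mul]
  · intro (x : Γ(Spec (CommRingCat.of B), ⊤))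
    show (Scheme.ΓSpecIso (CommRingCat.of B)).inv.hom (ρ₀ ((Scheme.ΓSpecIso (CommRingCat.of B')).hom.hom
        ((Spec.map (CommRingCat.ofHom β.toRingHom)).appTop.hom x))) = x
    rw [happ, hhi]
    simp only [CommRingCat.hom_ofHom]
    erw [hretr]
    rw [hih]

/-- The coefficient of `x^n` is the coefficient of `z^n`: an `R`-linear retraction of
`R[x] → R[z, z⁻¹]`. -/
noncomputable def retrLine : ThetaS.Lau R →ₗ[R] R[X] :=
  (Finsupp.lsum R (fun g : Multiplicative ℤ => LinearMap.toSpanSingleton R R[X]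
    (if 0 ≤ Multiplicative.toAdd g then (Polynomial.X : R[X]) ^ (Multiplicative.toAdd g).toNat
      else 0))).comp (MonoidAlgebra.coeffLinearEquiv R).toLinearMap

theorem retrLine_single (g : Multiplicative ℤ) (r : R) :
    retrLine R (MonoidAlgebra.single g r) =
      r • (if 0 ≤ Multiplicative.toAdd g then (Polynomial.X : R[X]) ^ (Multiplicative.toAdd g).toNat
        else 0) := by
  simp [retrLine]

theorem retrLine_linePt (p : R[X]) :
    retrLine R (ThetaS.linePt (ThetaS.zPow R 1) p) = p := by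
  have h : (retrLine R).comp (ThetaS.linePt (ThetaS.zPow R 1)).toLinearMap = LinearMap.id := by
    apply Polynomial.lhom_ext'
    intro n
    apply LinearMap.ext_ring
    simp only [LinearMap.coe_comp, Function.comp_apply, AlgHom.toLinearMap_apply,
      LinearMap.id_coe, id_eq, Polynomial.monomial_one_right_eq_X_pow, map_pow,
      Polynomial.aeval_X]
    rw [MonoidAlgebra.single_pow, one_pow, retrLine_single]
    simp
  exact congr($h p)

theorem isSchemeTheoreticallyDominant_jj_whiskerRight (T : Over (Spec (CommRingCat.of R))) :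
    IsSchemeTheoreticallyDominant (jj R ▷ T).left :=
  isSchemeTheoreticallyDominant_pt_whiskerRight R _ (retrLine R) (retrLine_linePt R) T

theorem flat_Gm_hom : Flat (ThetaS.Gm R).hom := by
  have h : Flat (Spec.map (CommRingCat.ofHom (algebraMap R (ThetaS.Lau R)))) := by
    rw [Flat.SpecMap_iff, CommRingCat.hom_ofHom, RingHom.flat_algebraMap_iff]
    infer_instance
  exact h

theorem isAffineHom_sp_whiskerRight {B B' : Type u} [CommRing B] [CommRing B']
    [Algebra R B] [Algebra R B'] (m : CoactBr.sp R B' ⟶ CoactBr.sp R B)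
    (T : Over (Spec (CommRingCat.of R))) : IsAffineHom (m ▷ T).left := by
  haveI h1 : IsAffineHom (CoactBr.sp R B).hom :=
    isAffineHom_of_isAffine (X := Spec (CommRingCat.of B)) (Y := Spec (CommRingCat.of R)) _
  haveI h2 : IsAffineHom (CoactBr.sp R B').hom :=
    isAffineHom_of_isAffine (X := Spec (CommRingCat.of B')) (Y := Spec (CommRingCat.of R)) _
  have hsndX : IsAffineHom (snd (CoactBr.sp R B) T).left := by
    have : IsAffineHom (pullback.snd (CoactBr.sp R B).hom T.hom) :=
      MorphismProperty.of_isPullback (IsPullback.of_hasPullback (CoactBr.sp R B).hom T.hom) h1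
    exact this
  have hsndX' : IsAffineHom (snd (CoactBr.sp R B') T).left := by
    have : IsAffineHom (pullback.snd (CoactBr.sp R B').hom T.hom) :=
      MorphismProperty.of_isPullback (IsPullback.of_hasPullback (CoactBr.sp R B').hom T.hom) h2
    exact this
  haveI : IsAffineHom ((m ▷ T).left ≫ (snd (CoactBr.sp R B) T).left) := by
    have e2 : (m ▷ T).left ≫ (snd (CoactBr.sp R B) T).left = (snd (CoactBr.sp R B') T).left :=
      Over.whiskerRight_left_snd _
    rw [e2]
    exact hsndX'
  exact IsAffineHom.of_comp (m ▷ T).left (snd (CoactBr.sp R B) T).left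

theorem isSchemeTheoreticallyDominant_whiskerLeft_jj_whiskerRight
    (T : Over (Spec (CommRingCat.of R))) :
    IsSchemeTheoreticallyDominant (ThetaS.Gm R ◁ (jj R ▷ T)).left := by
  haveI := isSchemeTheoreticallyDominant_jj_whiskerRight R T
  haveI : IsAffineHom (jj R ▷ T).left := isAffineHom_sp_whiskerRight R (jj R) T
  haveI : Flat (ThetaS.Gm R).hom := flat_Gm_hom R
  haveI : Flat (snd (ThetaS.Gm R) (ThetaS.Line R ⊗ T)).left := by
    have : Flat (pullback.snd (ThetaS.Gm R).hom (ThetaS.Line R ⊗ T).hom) := inferInstance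
    exact this
  exact IsSchemeTheoreticallyDominant.of_isPullback
    (isPullback_whiskerLeft_snd (ThetaS.Gm R) (jj R ▷ T)).flip

end Dominance

end Groth.Agent.Lib.Helper7.GmLine
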