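import Mathlib
import Groth.Agent.Lib.Helper7.SectionRegular

/-!
# Lifting regular immersions along smooth morphisms (ring level)

`exists_regular_chart_of_lift`: let `A → R` be smooth, `π : A → B` surjective with kernel generated
by a weakly regular sequence `as`, and `ι : R → B` with `ι ∘ algebraMap = π`.  For a prime
`m ⊇ ker ι` there are `h ∉ m` and `y₁, …, y_d ∈ ker ι` such that `as ++ y` generates `ker ι` after
inverting `h` and is a weakly regular sequence on every localization of `R` away from `h`.
-/

set_option autoImplicit false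

namespace Groth.Agent.Lib.Helper7.LiftRegular

open RingTheory.Sequence

universe u

theorem ofList_ofFn {R : Type*} [CommRing R] {d : ℕ} (y : Fin d → R) :
    Ideal.ofList (List.ofFn y) = Ideal.span (Set.range y) := by
  unfold Ideal.ofList
  congr 1
  ext r
  simp only [Set.mem_setOf_eq, List.mem_ofFn', Set.mem_range]

theorem exists_regular_chart_of_lift (A R B : Type u) [CommRing A] [CommRing R] [CommRing B]
    [Algebra A R] [Algebra.Smooth A R] (ι : R →+* B) (π : A →+* B)
    (hπ : Function.Surjective π) (hιπ : ∀ a, ι (algebraMap A R a) = π a)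
    (as : List A) (hker : RingHom.ker π = Ideal.ofList as) (has : IsWeaklyRegular A as)
    (m : Ideal R) [m.IsPrime] (hm : RingHom.ker ι ≤ m) :
    ∃ (d : ℕ) (y : Fin d → R) (h : R), (∀ i, ι (y i) = 0) ∧ h ∉ m ∧
      (∀ r, ι r = 0 → ∃ n, h ^ n * r ∈
        Ideal.ofList (as.map (algebraMap A R) ++ List.ofFn y)) ∧
      ∀ (L : Type u) [CommRing L] [Algebra R L] [IsLocalization.Away h L],
        IsWeaklyRegular L (as.map (algebraMap A R) ++ List.ofFn y) := by
  classical
  have hJι : (RingHom.ker π).map (algebraMap A R) ≤ RingHom.ker ι := by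
    rw [Ideal.map_le_iff_le_comap]
    intro a ha
    rw [Ideal.mem_comap, RingHom.mem_ker, hιπ]
    exact ha
  have hJm : (RingHom.ker π).map (algebraMap A R) ≤ m := hJι.trans hm
  have hJeq : (RingHom.ker π).map (algebraMap A R) = Ideal.ofList (as.map (algebraMap A R)) := by
    rw [hker, Ideal.map_ofList]
  haveI : Algebra.Smooth (A ⧸ RingHom.ker π) (R ⧸ (RingHom.ker π).map (algebraMap A R)) :=
    Algebra.Smooth.of_equiv
      (Algebra.TensorProduct.quotIdealMapEquivQuotTensor R (RingHom.ker π)).symm
  -- the retraction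
  let ιbar : R ⧸ (RingHom.ker π).map (algebraMap A R) →+* B :=
    Ideal.Quotient.lift _ ι (fun r hr => hJι hr)
  let πbar : A ⧸ RingHom.ker π ≃+* B := RingHom.quotientKerEquivOfSurjective hπ
  let ρ : R ⧸ (RingHom.ker π).map (algebraMap A R) →+* A ⧸ RingHom.ker π :=
    πbar.symm.toRingHom.comp ιbar
  have hπbar : ∀ a, πbar (Ideal.Quotient.mk _ a) = π a := fun a => rfl
  have hρmk : ∀ r, ρ (Ideal.Quotient.mk _ r) = πbar.symm (ι r) := fun r => rfl
  have hρ : ∀ a, ρ (algebraMap (A ⧸ RingHom.ker π)
      (R ⧸ (RingHom.ker π).map (algebraMap A R)) a) = a := by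
    intro a
    obtain ⟨a, rfl⟩ := Ideal.Quotient.mk_surjective a
    rw [Ideal.Quotient.algebraMap_quotient_map_quotient, hρmk, RingEquiv.symm_apply_eq, hπbar,
      hιπ]
  have hρ0 : ∀ r, ρ (Ideal.Quotient.mk _ r) = 0 ↔ ι r = 0 := by
    intro r
    rw [hρmk]
    exact map_eq_zero_iff _ πbar.symm.injective
  haveI hmbar : (m.map (Ideal.Quotient.mk ((RingHom.ker π).map (algebraMap A R)))).IsPrime :=
    Ideal.map_isPrime_of_surjective Ideal.Quotient.mk_surjective
      (by rw [Ideal.mk_ker]; exact hJm)
  have hmbar' : RingHom.ker ρ ≤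
      m.map (Ideal.Quotient.mk ((RingHom.ker π).map (algebraMap A R))) := by
    intro r hr
    obtain ⟨r, rfl⟩ := Ideal.Quotient.mk_surjective r
    rw [RingHom.mem_ker, hρ0] at hr
    exact Ideal.mem_map_of_mem _ (hm (RingHom.mem_ker.mpr hr))
  obtain ⟨d, ybar, hbar, hy, hh, hgen, hreg⟩ :=
    Groth.Agent.Lib.Helper7.SectionRegular.exists_regular_chart (A ⧸ RingHom.ker π)
      (R ⧸ (RingHom.ker π).map (algebraMap A R)) ρ hρ _ hmbar'
  choose y hy' using fun i => Ideal.Quotient.mk_surjective (ybar i)
  obtain ⟨h, rfl⟩ := Ideal.Quotient.mk_surjective hbar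
  have hybar : ybar = fun i => Ideal.Quotient.mk _ (y i) := funext fun i => (hy' i).symm
  refine ⟨d, y, h, ?_, ?_, ?_, ?_⟩
  · intro i
    rw [← hρ0, hy' i]
    exact hy i
  · exact fun hc => hh (Ideal.mem_map_of_mem _ hc)
  · intro r hr
    obtain ⟨n, hn⟩ := hgen (Ideal.Quotient.mk _ r) ((hρ0 r).mpr hr)
    refine ⟨n, ?_⟩
    rw [hybar, ← map_pow, ← map_mul] at hn
    have h1 : Set.range (fun i => Ideal.Quotient.mk ((RingHom.ker π).map (algebraMap A R)) (y i))
        = (Ideal.Quotient.mk ((RingHom.ker π).map (algebraMap A R))) '' Set.range y := by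
      rw [← Set.range_comp]; rfl
    rw [h1, ← Ideal.map_span, Ideal.mem_map_iff_of_surjective _ Ideal.Quotient.mk_surjective]
      at hn
    obtain ⟨x, hx, hxe⟩ := hn
    rw [Ideal.Quotient.eq] at hxe
    rw [Ideal.ofList_append, ← hJeq, ofList_ofFn]
    have h2 : h ^ n * r = x - (x - h ^ n * r) := by ring
    rw [h2]
    exact Ideal.sub_mem _ (Ideal.mem_sup_right hx) (Ideal.mem_sup_left hxe)
  · intro L _ _ _
    letI : Algebra A L := ((algebraMap R L).comp (algebraMap A R)).toAlgebra
    haveI : IsScalarTower A R L := IsScalarTower.of_algebraMap_eq' rfl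
    haveI : Module.Flat R L := IsLocalization.flat L (Submonoid.powers h)
    haveI : Module.Flat A L := Module.Flat.trans A R L
    rw [isWeaklyRegular_append_iff]
    constructor
    · rw [isWeaklyRegular_map_algebraMap_iff R L as,
        ← isWeaklyRegular_map_algebraMap_iff L L as]
      exact has.of_flat
    · haveI hloc : IsLocalization.Away (Ideal.Quotient.mk
          ((RingHom.ker π).map (algebraMap A R)) h)
          (L ⧸ ((RingHom.ker π).map (algebraMap A R)).map (algebraMap R L)) := by
        have h3 : IsLocalization (Algebra.algebraMapSubmonoid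
            (R ⧸ (RingHom.ker π).map (algebraMap A R)) (Submonoid.powers h))
            (L ⧸ ((RingHom.ker π).map (algebraMap A R)).map (algebraMap R L)) := inferInstance
        rwa [Algebra.algebraMapSubmonoid_powers] at h3
      have h1 : IsWeaklyRegular
          (L ⧸ ((RingHom.ker π).map (algebraMap A R)).map (algebraMap R L)) (List.ofFn ybar) :=
        hreg _
      have h2 : IsWeaklyRegular
          (L ⧸ ((RingHom.ker π).map (algebraMap A R)).map (algebraMap R L)) (List.ofFn y) := by
        rw [← isWeaklyRegular_map_algebraMap_iff (R ⧸ (RingHom.ker π).map (algebraMap A R))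
          (L ⧸ ((RingHom.ker π).map (algebraMap A R)).map (algebraMap R L)) (List.ofFn y),
          List.map_ofFn]
        rw [hybar] at h1
        exact h1
      have h4 : (Ideal.ofList (as.map (algebraMap A R)) • ⊤ : Submodule R L) =
          (((RingHom.ker π).map (algebraMap A R)).map (algebraMap R L)).restrictScalars R := by
        rw [← hJeq, Ideal.smul_top_eq_map]
      let e : (L ⧸ (Ideal.ofList (as.map (algebraMap A R)) • ⊤ : Submodule R L)) ≃ₗ[R]
          (L ⧸ ((RingHom.ker π).map (algebraMap A R)).map (algebraMap R L)) :=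
        (Submodule.quotEquivOfEq _ _ h4).trans
          (Submodule.Quotient.restrictScalarsEquiv R
            (((RingHom.ker π).map (algebraMap A R)).map (algebraMap R L)))
      exact (e.isWeaklyRegular_congr _).mpr h2

end Groth.Agent.Lib.Helper7.LiftRegular
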