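import Mathlib.CategoryTheory.Localization.CalculusOfFractions
import Mathlib.CategoryTheory.EssentialImage

/-!
# A recognition criterion for localization functors via right fractions
-/

set_option autoImplicit false
set_option linter.style.haveILetI false

namespace Groth.Agent.Lib.Helper7.LocOfFractions

open CategoryTheory

universe v₁ v₂ u₁ u₂

variable {C : Type u₁} {D : Type u₂} [Category.{v₁} C] [Category.{v₂} D]

/-- If `W` has a right calculus of fractions, `L` inverts `W`, is essentially surjective, every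
morphism `L X ⟶ L Y` is a right fraction `L(s)⁻¹ L(f)`, and `L f₁ = L f₂` implies `s ≫ f₁ = s ≫ f₂`
for some `s ∈ W`, then `L` is a localization functor for `W`. -/
theorem isLocalization_of_rightFractions (L : C ⥤ D) (W : MorphismProperty C)
    [W.HasRightCalculusOfFractions] (hL : W.IsInvertedBy L) [L.EssSurj]
    (hfull : ∀ ⦃X Y : C⦄ (φ : L.obj X ⟶ L.obj Y),
      ∃ (X' : C) (s : X' ⟶ X) (_ : W s) (f : X' ⟶ Y), L.map s ≫ φ = L.map f)
    (hfaith : ∀ ⦃X Y : C⦄ (f₁ f₂ : X ⟶ Y), L.map f₁ = L.map f₂ →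
      ∃ (X' : C) (s : X' ⟶ X) (_ : W s), s ≫ f₁ = s ≫ f₂) :
    L.IsLocalization W := by
  let Φ : W.Localization ⥤ D := Localization.lift L hL W.Q
  let e : W.Q ⋙ Φ ≅ L := Localization.fac L hL W.Q
  have he : ∀ {X Y : C} (g : X ⟶ Y),
      Φ.map (W.Q.map g) = e.hom.app X ≫ L.map g ≫ e.inv.app Y := by
    intro X Y g
    have := e.hom.naturality g
    simp only [Functor.comp_map] at this
    rw [← Category.assoc, ← this, Category.assoc, Iso.hom_inv_id_app, Category.comp_id]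
  haveI : Φ.EssSurj :=
    ⟨fun d => ⟨W.Q.obj (L.objPreimage d), ⟨e.app _ ≪≫ L.objObjPreimageIso d⟩⟩⟩
  haveI : Φ.Full := by
    refine Φ.full_of_comp_essSurj W.Q (fun X Y φ => ?_)
    obtain ⟨X', s, hs, f, hsf⟩ := hfull (e.inv.app X ≫ φ ≫ e.hom.app Y)
    haveI : IsIso (W.Q.map s) := Localization.inverts W.Q W s hs
    refine ⟨inv (W.Q.map s) ≫ W.Q.map f, ?_⟩
    rw [Functor.map_comp, Functor.map_inv, IsIso.inv_comp_eq, he, he, ← hsf]
    simp
  haveI : Φ.Faithful := by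
    refine Φ.faithful_of_comp_essSurj W.Q (fun X Y f g hfg => ?_)
    obtain ⟨z₁, rfl⟩ := Localization.exists_rightFraction W.Q W f
    obtain ⟨z₂, rfl⟩ := Localization.exists_rightFraction W.Q W g
    -- common denominator
    obtain ⟨ψ, hψ⟩ := (MorphismProperty.LeftFraction.mk z₁.s z₂.s z₂.hs).exists_rightFraction
    dsimp at hψ
    -- ψ.s : ψ.X' ⟶ z₁.X' in W, ψ.f : ψ.X' ⟶ z₂.X', ψ.s ≫ z₁.s = ψ.f ≫ z₂.s
    have hs₃ : W (ψ.s ≫ z₁.s) := W.comp_mem _ _ ψ.hs z₁.hs
    haveI : IsIso (W.Q.map (ψ.s ≫ z₁.s)) := Localization.inverts W.Q W _ hs₃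
    have h1 : W.Q.map (ψ.s ≫ z₁.s) ≫ z₁.map W.Q (Localization.inverts W.Q W) =
        W.Q.map (ψ.s ≫ z₁.f) := by
      rw [Functor.map_comp, Category.assoc, MorphismProperty.RightFraction.map_s_comp_map,
        ← Functor.map_comp]
    have h2 : W.Q.map (ψ.s ≫ z₁.s) ≫ z₂.map W.Q (Localization.inverts W.Q W) =
        W.Q.map (ψ.f ≫ z₂.f) := by
      rw [hψ, Functor.map_comp, Category.assoc, MorphismProperty.RightFraction.map_s_comp_map,
        ← Functor.map_comp]
    have h3 : L.map (ψ.s ≫ z₁.f) = L.map (ψ.f ≫ z₂.f) := by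
      have : Φ.map (W.Q.map (ψ.s ≫ z₁.s)) ≫ Φ.map (z₁.map W.Q (Localization.inverts W.Q W)) =
          Φ.map (W.Q.map (ψ.s ≫ z₁.s)) ≫ Φ.map (z₂.map W.Q (Localization.inverts W.Q W)) := by
        rw [hfg]
      rw [← Φ.map_comp, ← Φ.map_comp, h1, h2, he, he] at this
      have h' := (cancel_epi (e.hom.app _)).1 this
      exact (cancel_mono (e.inv.app _)).1 h'
    obtain ⟨X', r, hr, hrr⟩ := hfaith _ _ h3
    haveI : IsIso (W.Q.map r) := Localization.inverts W.Q W r hr
    have h4 : W.Q.map (ψ.s ≫ z₁.f) = W.Q.map (ψ.f ≫ z₂.f) := by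
      rw [← cancel_epi (W.Q.map r), ← Functor.map_comp, ← Functor.map_comp, hrr]
    rw [← cancel_epi (W.Q.map (ψ.s ≫ z₁.s)), h1, h2, h4]
  haveI : Φ.IsEquivalence := {}
  exact Functor.IsLocalization.of_equivalence_target W.Q W L Φ.asEquivalence e

end Groth.Agent.Lib.Helper7.LocOfFractions
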