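import Mathlib.RingTheory.Localization.Ideal
import Mathlib.RingTheory.Localization.AtPrime.Basic
import Mathlib.RingTheory.Localization.Away.Basic
import Mathlib.RingTheory.Finiteness.Basic
import Mathlib.RingTheory.Noetherian.Basic

set_option autoImplicit false

namespace Groth.Agent.Lib.Helper7

universe u

/-- If each element of a finitely generated ideal `J` is multiplied into `Z` by something outside
the prime `p`, a single such multiplier works for all of `J`. -/
theorem exists_uniform_multiplier {A : Type u} [CommRing A] (p : Ideal A) [p.IsPrime]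
    (Z : Ideal A) (J : Ideal A) (hJ : J.FG)
    (h : ∀ x ∈ J, ∃ v ∉ p, v * x ∈ Z) : ∃ v ∉ p, ∀ x ∈ J, v * x ∈ Z := by
  revert h
  refine Submodule.fg_induction (R := A) (M := A)
    (motive := fun N _ => (∀ x ∈ N, ∃ v ∉ p, v * x ∈ Z) → ∃ v ∉ p, ∀ x ∈ N, v * x ∈ Z)
    ?_ ?_ J hJ
  · intro x hx
    obtain ⟨v, hv, hvx⟩ := hx x (Submodule.mem_span_singleton_self x)
    refine ⟨v, hv, fun y hy => ?_⟩
    obtain ⟨c, rfl⟩ := Submodule.mem_span_singleton.mp hy
    rw [smul_eq_mul, mul_left_comm]
    exact Z.mul_mem_left c hvx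
  · intro N₁ N₂ _ _ h₁ h₂ hx
    obtain ⟨v₁, hv₁, h₁'⟩ := h₁ (fun x hx' => hx x (Submodule.mem_sup_left hx'))
    obtain ⟨v₂, hv₂, h₂'⟩ := h₂ (fun x hx' => hx x (Submodule.mem_sup_right hx'))
    refine ⟨v₁ * v₂, fun hmem => ?_, fun x hx' => ?_⟩
    · rcases Ideal.IsPrime.mem_or_mem inferInstance hmem with h | h
      · exact hv₁ h
      · exact hv₂ h
    · obtain ⟨y, hy, z, hz, rfl⟩ := Submodule.mem_sup.mp hx'
      rw [mul_add]
      refine Z.add_mem ?_ ?_
      · rw [mul_comm v₁ v₂, mul_assoc]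
        exact Z.mul_mem_left v₂ (h₁' y hy)
      · rw [mul_assoc]
        exact Z.mul_mem_left v₁ (h₂' z hz)

/-- Spreading out a principal regular generator from the localization at a prime. -/
theorem exists_spread_out_principal {A : Type u} [CommRing A] [IsNoetherianRing A]
    (p : Ideal A) [p.IsPrime] (R : Type u) [CommRing R] [Algebra A R] [IsLocalization.AtPrime R p]
    (I : Ideal A) (g : R) (hg : g ∈ nonZeroDivisors R)
    (hI : I.map (algebraMap A R) = Ideal.span {g}) :
    ∃ a ∈ I, ∃ τ : A, τ ∉ p ∧ (∀ i ∈ I, τ * i ∈ Ideal.span {a}) ∧ (∀ b, a * b = 0 → τ * b = 0) := by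
  have hgmem : g ∈ I.map (algebraMap A R) := by
    rw [hI]; exact Ideal.mem_span_singleton_self g
  obtain ⟨⟨⟨a, ha⟩, ⟨s, hs⟩⟩, hgs⟩ :=
    (IsLocalization.mem_map_algebraMap_iff p.primeCompl R).mp hgmem
  simp only at hgs
  have hsu : IsUnit (algebraMap A R s) := IsLocalization.map_units R (⟨s, hs⟩ : p.primeCompl)
  have hanzd : algebraMap A R a ∈ nonZeroDivisors R := by
    rw [← hgs]
    exact mul_mem hg hsu.mem_nonZeroDivisors
  have hspan : Ideal.span {algebraMap A R a} = Ideal.span {g} := by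
    rw [← hgs]
    exact Ideal.span_singleton_mul_right_unit hsu g
  refine ⟨a, ha, ?_⟩
  -- first multiplier
  have h1 : ∀ i ∈ I, ∃ v ∉ p, v * i ∈ Ideal.span {a} := by
    intro i hi
    have hmem : algebraMap A R i ∈ Ideal.span {algebraMap A R a} := by
      rw [hspan, ← hI]
      exact Ideal.mem_map_of_mem _ hi
    obtain ⟨r, hr⟩ := Ideal.mem_span_singleton'.mp hmem
    obtain ⟨b, ⟨s', hs'⟩, rfl⟩ := IsLocalization.exists_mk'_eq p.primeCompl r
    have h2 : algebraMap A R (b * a) = algebraMap A R (s' * i) := by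
      rw [map_mul, map_mul, ← hr, ← mul_assoc]
      congr 1
      exact (IsLocalization.mk'_spec' R b ⟨s', hs'⟩).symm
    obtain ⟨⟨u, hu⟩, hu'⟩ := (IsLocalization.eq_iff_exists p.primeCompl R).mp h2
    simp only at hu'
    refine ⟨u * s', fun hmem' => ?_, ?_⟩
    · rcases Ideal.IsPrime.mem_or_mem inferInstance hmem' with h | h
      · exact hu h
      · exact hs' h
    · rw [mul_assoc, ← hu', ← mul_assoc]
      exact Ideal.mul_mem_left _ _ (Ideal.mem_span_singleton_self a)
  obtain ⟨τ₁, hτ₁, hτ₁'⟩ := exists_uniform_multiplier p (Ideal.span {a}) I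
    (IsNoetherian.noetherian I) h1
  -- second multiplier
  let K : Ideal A := LinearMap.ker (LinearMap.mulLeft A a)
  have h2 : ∀ b ∈ K, ∃ v ∉ p, v * b ∈ (⊥ : Ideal A) := by
    intro b hb
    have hab : a * b = 0 := hb
    have h3 : algebraMap A R b = 0 := by
      have : algebraMap A R b * algebraMap A R a = 0 := by
        rw [← map_mul, mul_comm, hab, map_zero]
      exact (mem_nonZeroDivisors_iff_right.mp hanzd) _ this
    obtain ⟨⟨v, hv⟩, hv'⟩ := (IsLocalization.map_eq_zero_iff p.primeCompl R b).mp h3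
    exact ⟨v, hv, by simpa using hv'⟩
  obtain ⟨τ₂, hτ₂, hτ₂'⟩ := exists_uniform_multiplier p ⊥ K (IsNoetherian.noetherian K) h2
  refine ⟨τ₁ * τ₂, fun hmem => ?_, fun i hi => ?_, fun b hb => ?_⟩
  · rcases Ideal.IsPrime.mem_or_mem inferInstance hmem with h | h
    · exact hτ₁ h
    · exact hτ₂ h
  · rw [mul_comm τ₁ τ₂, mul_assoc]
    exact Ideal.mul_mem_left _ _ (hτ₁' i hi)
  · have : τ₂ * b = 0 := by simpa using hτ₂' b hb
    rw [mul_assoc, this, mul_zero]

/-- After inverting a multiplier as in `exists_spread_out_principal`, the ideal becomes principal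
generated by a nonzerodivisor. -/
theorem map_eq_span_of_multiplier {A : Type u} [CommRing A] (B : Type u) [CommRing B] [Algebra A B]
    (τ : A) [IsLocalization.Away τ B] (I : Ideal A) (a : A) (ha : a ∈ I)
    (h1 : ∀ i ∈ I, τ * i ∈ Ideal.span {a}) (h2 : ∀ b, a * b = 0 → τ * b = 0) :
    algebraMap A B a ∈ nonZeroDivisors B ∧
      I.map (algebraMap A B) = Ideal.span {algebraMap A B a} := by
  have hτu : IsUnit (algebraMap A B τ) := IsLocalization.Away.algebraMap_isUnit τ
  constructor
  · rw [mem_nonZeroDivisors_iff_right]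
    intro y hy
    obtain ⟨b, ⟨_, n, rfl⟩, rfl⟩ := IsLocalization.exists_mk'_eq (Submonoid.powers τ) y
    rw [IsLocalization.mk'_eq_zero_iff]
    have h3 : algebraMap A B (b * a) = 0 := by
      have := congr($hy * algebraMap A B (τ ^ n))
      rw [zero_mul, mul_right_comm, IsLocalization.mk'_spec] at this
      rw [map_mul]; exact this
    obtain ⟨⟨_, m, rfl⟩, hm⟩ := (IsLocalization.map_eq_zero_iff (Submonoid.powers τ) B _).mp h3
    simp only at hm
    have h4 : a * (τ ^ m * b) = 0 := by rw [← hm]; ring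
    have h5 := h2 _ h4
    refine ⟨⟨τ ^ (m + 1), m + 1, rfl⟩, ?_⟩
    simp only
    rw [pow_succ', mul_assoc]
    exact h5
  · apply le_antisymm
    · rw [Ideal.map_le_iff_le_comap]
      intro i hi
      rw [Ideal.mem_comap]
      obtain ⟨c, hc⟩ := Ideal.mem_span_singleton'.mp (h1 i hi)
      have h3 : algebraMap A B τ * algebraMap A B i = algebraMap A B c * algebraMap A B a := by
        rw [← map_mul, ← map_mul, hc]
      obtain ⟨w, hw⟩ := hτu
      rw [← hw] at h3
      have h4 : algebraMap A B i = ↑w⁻¹ * (algebraMap A B c * algebraMap A B a) :=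
        (Units.eq_inv_mul_iff_mul_eq w).mpr h3
      rw [h4, ← mul_assoc]
      exact Ideal.mul_mem_left _ _ (Ideal.mem_span_singleton_self _)
    · rw [Ideal.span_le, Set.singleton_subset_iff]
      exact Ideal.mem_map_of_mem _ ha

end Groth.Agent.Lib.Helper7
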