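import Mathlib.RingTheory.Extension.Presentation.Core
import Mathlib.Algebra.Category.Ring.Constructions
import Mathlib.RingTheory.RingHom.FinitePresentation
import Mathlib.RingTheory.RingHom.FiniteType

set_option autoImplicit false

namespace Groth.Agent.Lib.Helper7

open CategoryTheory Limits TensorProduct

universe u

/-- Noetherian approximation, algebra version: a finitely presented ring map `A → B` is a pushout
of a finitely presented ring map `A₀ → B₀` with `A₀` of finite type over `ℤ`. -/
theorem exists_finiteType_int_model {A B : Type u} [CommRing A] [CommRing B] (φ : A →+* B)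
    (hφ : φ.FinitePresentation) :
    ∃ (A₀ B₀ : CommRingCat.{u}) (a : A₀ ⟶ CommRingCat.of A) (b : A₀ ⟶ B₀)
      (ψ : B₀ ⟶ CommRingCat.of B),
      Algebra.FiniteType ℤ A₀ ∧ b.hom.FinitePresentation ∧
        IsPushout a b (CommRingCat.ofHom φ) ψ := by
  algebraize [φ]
  let P := Algebra.Presentation.ofFinitePresentation A B
  let A₀ := P.Core
  let B₀ := P.ModelOfHasCoeffs A₀
  let e : A ⊗[A₀] B₀ ≃ₐ[A] B := P.tensorModelOfHasCoeffsEquiv A₀
  refine ⟨CommRingCat.of A₀, CommRingCat.of B₀, CommRingCat.ofHom (algebraMap A₀ A),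
    CommRingCat.ofHom (algebraMap A₀ B₀),
    CommRingCat.ofHom ((e : A ⊗[A₀] B₀ →+* B).comp
      (Algebra.TensorProduct.includeRight (R := A₀) (A := A) (B := B₀)).toRingHom), ?_, ?_, ?_⟩
  · show Algebra.FiniteType ℤ P.Core
    infer_instance
  · simp only [CommRingCat.hom_ofHom]
    rw [RingHom.finitePresentation_algebraMap]
    infer_instance
  · refine (CommRingCat.isPushout_tensorProduct A₀ A B₀).of_iso (Iso.refl _) (Iso.refl _)
      (Iso.refl _) e.toRingEquiv.toCommRingCatIso (by simp) (by simp) ?_ ?_
    · refine CommRingCat.hom_ext (RingHom.ext fun x => ?_)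
      exact e.commutes x
    · exact CommRingCat.hom_ext (RingHom.ext fun x => rfl)
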