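import Mathlib.AlgebraicGeometry.Morphisms.Proper
import Mathlib.AlgebraicGeometry.Morphisms.Immersion

/-!
# Properness through a surjective closed immersion

`isProper_of_comp_of_surjective_isClosedImmersion`: if `k : W₀ ⟶ W` is a surjective closed immersion,
`k ≫ p` is proper and `p` is locally of finite type, then `p` is proper.
-/

set_option autoImplicit false

namespace Groth.Agent.Lib.Helper7

open AlgebraicGeometry CategoryTheory Limits

universe u

theorem isSeparated_of_comp_of_surjective_isClosedImmersion {W₀ W Y : Scheme.{u}} (k : W₀ ⟶ W)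
    (p : W ⟶ Y) [IsClosedImmersion k] [Surjective k] [IsSeparated (k ≫ p)] : IsSeparated p := by
  let kk : pullback (k ≫ p) (k ≫ p) ⟶ pullback p p :=
    pullback.map (k ≫ p) (k ≫ p) p p k k (𝟙 Y) ((Category.comp_id _).trans rfl)
      ((Category.comp_id _).trans rfl)
  have hkk : IsClosedImmersion kk :=
    MorphismProperty.pullbackMap (P := @IsClosedImmersion) ‹IsClosedImmersion k›
      ‹IsClosedImmersion k› rfl rfl
  have hnat : pullback.diagonal (k ≫ p) ≫ kk = k ≫ pullback.diagonal p := by
    apply pullback.hom_ext
    · rw [Category.assoc, Category.assoc, pullback.lift_fst, pullback.diagonal_fst_assoc,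
        pullback.diagonal_fst, Category.comp_id]
    · rw [Category.assoc, Category.assoc, pullback.lift_snd, pullback.diagonal_snd_assoc,
        pullback.diagonal_snd, Category.comp_id]
  have hrange : Set.range (pullback.diagonal p) = kk '' Set.range (pullback.diagonal (k ≫ p)) := by
    rw [← Set.range_comp, ← TopCat.coe_comp, ← Scheme.Hom.comp_base, hnat, Scheme.Hom.comp_base,
      TopCat.coe_comp, Set.range_comp, Set.range_eq_univ.mpr k.surjective, Set.image_univ]
  refine ⟨IsClosedImmersion.of_isPreimmersion _ ?_⟩
  rw [hrange]
  exact kk.isClosedEmbedding.isClosedMap _ (pullback.diagonal (k ≫ p)).isClosedEmbedding.isClosed_range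

theorem isProper_of_comp_of_surjective_isClosedImmersion {W₀ W Y : Scheme.{u}} (k : W₀ ⟶ W)
    (p : W ⟶ Y) [IsClosedImmersion k] [Surjective k] [IsProper (k ≫ p)] [LocallyOfFiniteType p] :
    IsProper p := by
  have : UniversallyClosed p := .of_comp_surjective k p
  have : IsSeparated p := isSeparated_of_comp_of_surjective_isClosedImmersion k p
  exact { }

end Groth.Agent.Lib.Helper7
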