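import Mathlib.RingTheory.ZariskisMainTheorem
import Mathlib.RingTheory.QuasiFinite.Basic
import Mathlib.RingTheory.Artinian.Ring
import Mathlib.RingTheory.Spectrum.Prime.Topology
import Mathlib.LinearAlgebra.TensorProduct.Tower
import Mathlib.Data.Set.Card.Arithmetic
import Mathlib.LinearAlgebra.Dimension.Constructions

set_option autoImplicit false

open TensorProduct

universe u

namespace Groth.Agent.Lib.Helper7

/-- A finite-dimensional algebra over a field spanned by `N` elements has at most `N` primes. -/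
theorem card_primeSpectrum_le_of_span {K R : Type u} [Field K] [CommRing R] [Algebra K R]
    {N : ℕ} (v : Fin N → R) (hv : Submodule.span K (Set.range v) = ⊤) :
    ENat.card (PrimeSpectrum R) ≤ N := by
  classical
  haveI : Module.Finite K R := ⟨⟨Finset.univ.image v, by simpa using hv⟩⟩
  haveI : IsArtinianRing R := IsArtinianRing.of_finite K R
  have hfin : Module.finrank K R ≤ N := by
    have h1 := finrank_range_le_card (R := K) v
    rw [Set.finrank, hv, finrank_top, Fintype.card_fin] at h1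
    exact h1
  haveI : Finite (PrimeSpectrum R) := inferInstance
  haveI : Fintype (PrimeSpectrum R) := Fintype.ofFinite _
  have hcop : Pairwise (Function.onFun IsCoprime fun p : PrimeSpectrum R => p.asIdeal) := by
    intro p q hpq
    haveI := Ideal.IsPrime.isMaximal' (I := p.asIdeal)
    haveI := Ideal.IsPrime.isMaximal' (I := q.asIdeal)
    exact Ideal.isCoprime_of_isMaximal (fun h => hpq (PrimeSpectrum.ext h))
  have hex : ∀ p : PrimeSpectrum R, ∃ e : R, ∀ q : PrimeSpectrum R,
      (Ideal.Quotient.mk q.asIdeal e) = if q = p then 1 else 0 := by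
    intro p
    exact Ideal.pi_quotient_surjective hcop (fun q => if q = p then 1 else 0)
  choose e he using hex
  have hli : LinearIndependent K e := by
    rw [linearIndependent_iff']
    intro s c hc q hq
    have h1 := congr(Ideal.Quotient.mk q.asIdeal $hc)
    rw [map_sum, map_zero] at h1
    have h2 : ∀ p ∈ s, Ideal.Quotient.mk q.asIdeal (c p • e p) =
        if p = q then algebraMap K (R ⧸ q.asIdeal) (c p) else 0 := by
      intro p _
      rw [Algebra.smul_def, map_mul, he p q]
      split_ifs with h1 h2 h2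
      · subst h1; rw [mul_one]; rfl
      · exact absurd h1.symm h2
      · exact absurd h2.symm h1
      · rw [mul_zero]
    rw [Finset.sum_congr rfl h2, Finset.sum_ite_eq' s q, if_pos hq] at h1
    exact (map_eq_zero_iff _ (algebraMap K (R ⧸ q.asIdeal)).injective).mp h1
  have := hli.fintype_card_le_finrank
  rw [ENat.card_eq_coe_fintype_card]
  exact_mod_cast this.trans hfin

/-- Base change to a field of a module-finite algebra spanned by `N` elements has at most `N`
primes. -/
theorem card_primeSpectrum_tensor_le {A C K : Type u} [CommRing A] [CommRing C] [Algebra A C]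
    [Field K] [Algebra A K] {N : ℕ} (c : Fin N → C) (hc : Submodule.span A (Set.range c) = ⊤) :
    ENat.card (PrimeSpectrum (K ⊗[A] C)) ≤ N := by
  apply card_primeSpectrum_le_of_span (K := K) (fun i => (1 : K) ⊗ₜ[A] c i)
  have h1 := Submodule.baseChange_span (R := A) (A := K) (Set.range c)
  rw [hc, Submodule.baseChange_top] at h1
  rw [h1, ← Set.range_comp]
  rfl

/-- Injectivity of the comap on a basic open, given surjectivity after localisation. -/
theorem comap_injOn_of_surj {A B K : Type u} [CommRing A] [CommRing B] [Algebra A B]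
    [Field K] [Algebra A K] (C : Subalgebra A B) (r : C)
    (hsurj : ∀ b : B, ∃ (c : C) (m : ℕ), (c : B) = (r : B) ^ m * b) :
    Set.InjOn (PrimeSpectrum.comap
        (Algebra.TensorProduct.map (AlgHom.id K K) C.val).toRingHom)
      {P : PrimeSpectrum (K ⊗[A] B) | (1 : K) ⊗ₜ[A] (r : B) ∉ P.asIdeal} := by
  set ι := Algebra.TensorProduct.map (AlgHom.id K K) C.val with hι
  have hιr : ι ((1 : K) ⊗ₜ[A] r) = (1 : K) ⊗ₜ[A] (r : B) := by simp [hι]
  have key : ∀ x : K ⊗[A] B, ∃ (m : ℕ) (y : K ⊗[A] C), ι y = ((1 : K) ⊗ₜ[A] (r : B)) ^ m * x := by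
    intro x
    induction x using TensorProduct.induction_on with
    | zero => exact ⟨0, 0, by simp⟩
    | tmul k b =>
      obtain ⟨c, m, hcm⟩ := hsurj b
      refine ⟨m, k ⊗ₜ[A] c, ?_⟩
      rw [hι, Algebra.TensorProduct.map_tmul, AlgHom.id_apply, Subalgebra.val_apply, hcm,
        Algebra.TensorProduct.tmul_pow, one_pow, Algebra.TensorProduct.tmul_mul_tmul, one_mul]
    | add x₁ x₂ h₁ h₂ =>
      obtain ⟨m₁, y₁, e₁⟩ := h₁
      obtain ⟨m₂, y₂, e₂⟩ := h₂
      refine ⟨m₁ + m₂, ((1 : K) ⊗ₜ[A] r) ^ m₂ * y₁ + ((1 : K) ⊗ₜ[A] r) ^ m₁ * y₂, ?_⟩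
      rw [map_add, map_mul, map_mul, map_pow, map_pow, hιr, e₁, e₂, mul_add, pow_add]
      ring
  have main : ∀ P P' : PrimeSpectrum (K ⊗[A] B), (1 : K) ⊗ₜ[A] (r : B) ∉ P'.asIdeal →
      PrimeSpectrum.comap ι.toRingHom P = PrimeSpectrum.comap ι.toRingHom P' →
      P.asIdeal ≤ P'.asIdeal := by
    intro P P' hr' hPP' x hx
    obtain ⟨m, y, hy⟩ := key x
    have h1 : y ∈ (PrimeSpectrum.comap ι.toRingHom P).asIdeal := by
      show ι y ∈ P.asIdeal
      rw [hy]; exact Ideal.mul_mem_left _ _ hx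
    rw [hPP'] at h1
    have h2 : ι y ∈ P'.asIdeal := h1
    rw [hy] at h2
    rcases P'.2.mem_or_mem h2 with h3 | h3
    · exact absurd (P'.2.mem_of_pow_mem _ h3) hr'
    · exact h3
  intro P hP P' hP' h
  exact PrimeSpectrum.ext (le_antisymm (main P P' hP' h) (main P' P hP h.symm))

/-- (Alg'): uniform bound for the number of points in the geometric fibres of a quasi-finite ring
map of finite type. -/
theorem exists_bound_card_primeSpectrum_tensor (A B : Type u) [CommRing A] [CommRing B]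
    [Algebra A B] [Algebra.FiniteType A B] [Algebra.QuasiFinite A B] :
    ∃ N : ℕ, ∀ (K : Type u) [Field K] [Algebra A K],
      ENat.card (PrimeSpectrum (K ⊗[A] B)) ≤ N := by
  have hA : ∀ q : PrimeSpectrum B, ∃ (C : Subalgebra A B) (N : ℕ) (c : Fin N → C) (r : C),
      Submodule.span A (Set.range c) = ⊤ ∧ (r : B) ∉ q.asIdeal ∧
      ∀ b : B, ∃ (c' : C) (m : ℕ), (c' : B) = (r : B) ^ m * b := by
    intro q
    obtain ⟨C, hC, r, hrq, hbij⟩ :=
      Algebra.QuasiFiniteAt.exists_fg_and_exists_notMem_and_awayMap_bijective (R := A) q.asIdeal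
    haveI : Module.Finite A C := ⟨(Submodule.fg_top _).mpr hC⟩
    obtain ⟨N, c, hc⟩ := Module.Finite.exists_fin (R := A) (M := C)
    refine ⟨C, N, c, r, hc, hrq, ?_⟩
    have := Localization.awayMap_surjective_iff.mp hbij.2
    intro b
    obtain ⟨c', m, h⟩ := this b
    exact ⟨c', m, h⟩
  choose C N c r hc hr hsurj using hA
  obtain ⟨t, ht⟩ := isCompact_univ.elim_finite_subcover
    (fun q : PrimeSpectrum B => (PrimeSpectrum.basicOpen (r q : B) : Set (PrimeSpectrum B)))
    (fun q => (PrimeSpectrum.basicOpen _).isOpen) (fun q _ => Set.mem_iUnion.mpr ⟨q, hr q⟩)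
  refine ⟨∑ q ∈ t, N q, ?_⟩
  intro K _ _
  have hcover : (Set.univ : Set (PrimeSpectrum (K ⊗[A] B))) ⊆
      ⋃ q ∈ t, {P | (1 : K) ⊗ₜ[A] (r q : B) ∉ P.asIdeal} := by
    intro P _
    let q' : PrimeSpectrum B := PrimeSpectrum.comap
      (Algebra.TensorProduct.includeRight (R := A) (A := K) (B := B)).toRingHom P
    obtain ⟨q, hqt, hq⟩ := Set.mem_iUnion₂.mp (ht (Set.mem_univ q'))
    exact Set.mem_iUnion₂.mpr ⟨q, hqt, hq⟩
  have hper : ∀ q ∈ t, ({P : PrimeSpectrum (K ⊗[A] B) |
      (1 : K) ⊗ₜ[A] (r q : B) ∉ P.asIdeal}).encard ≤ (N q : ℕ∞) := by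
    intro q _
    calc ({P : PrimeSpectrum (K ⊗[A] B) | (1 : K) ⊗ₜ[A] (r q : B) ∉ P.asIdeal}).encard
        ≤ (Set.univ : Set (PrimeSpectrum (K ⊗[A] C q))).encard :=
          Set.encard_le_encard_of_injOn (Set.mapsTo_univ _ _)
            (comap_injOn_of_surj (C q) (r q) (hsurj q))
      _ = ENat.card _ := Set.encard_univ _
      _ ≤ N q := card_primeSpectrum_tensor_le (c q) (hc q)
  calc ENat.card (PrimeSpectrum (K ⊗[A] B))
      = (Set.univ : Set (PrimeSpectrum (K ⊗[A] B))).encard := (Set.encard_univ _).symm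
    _ ≤ (⋃ q ∈ t, {P : PrimeSpectrum (K ⊗[A] B) |
          (1 : K) ⊗ₜ[A] (r q : B) ∉ P.asIdeal}).encard := Set.encard_le_encard hcover
    _ ≤ ∑ q ∈ t, ({P : PrimeSpectrum (K ⊗[A] B) |
          (1 : K) ⊗ₜ[A] (r q : B) ∉ P.asIdeal}).encard := Finset.set_encard_biUnion_le t _
    _ ≤ ∑ q ∈ t, (N q : ℕ∞) := Finset.sum_le_sum hper
    _ = ((∑ q ∈ t, N q : ℕ) : ℕ∞) := by push_cast; rfl

end Groth.Agent.Lib.Helper7
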