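import Mathlib.RingTheory.Localization.BaseChange
import Mathlib.RingTheory.LocalProperties.Reduced
import Mathlib.RingTheory.LocalRing.ResidueField.Basic
import Mathlib.LinearAlgebra.TensorProduct.RightExactness
import Mathlib.RingTheory.Spectrum.Prime.Basic
import Mathlib.RingTheory.Nilpotent.Lemmas

set_option autoImplicit false

namespace Groth.Agent.Lib.Helper7

open TensorProduct

universe u

/-- If `R` is a zero-dimensional local ring which is a localization of `A`, and `B` is a reduced
`A`-algebra, then `B ⊗[A] κ(R)` is reduced. -/
theorem isReduced_tensor_residueField (A B R : Type u) [CommRing A] [CommRing B] [CommRing R]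
    [Algebra A B] [Algebra A R] [IsLocalRing R] (M : Submonoid A) [IsLocalization M R]
    [Subsingleton (PrimeSpectrum R)] [IsReduced B] :
    IsReduced (B ⊗[A] IsLocalRing.ResidueField R) := by
  have hB' : IsReduced (B ⊗[A] R) :=
    isReduced_localizationPreserves (Algebra.algebraMapSubmonoid B M) (B ⊗[A] R) inferInstance
  let g : R →ₐ[A] IsLocalRing.ResidueField R := IsScalarTower.toAlgHom A R _
  have hg : Function.Surjective g := IsLocalRing.residue_surjective
  let π : B ⊗[A] R →ₐ[A] B ⊗[A] IsLocalRing.ResidueField R :=
    Algebra.TensorProduct.map (AlgHom.id A B) g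
  have hπs : Function.Surjective π := Algebra.TensorProduct.map_surjective _ _
    Function.surjective_id hg
  have hker : RingHom.ker π = ⊥ := by
    rw [Algebra.TensorProduct.lTensor_ker _ hg, Ideal.map_eq_bot_iff_le_ker]
    intro x hx
    have hx' : x ∈ IsLocalRing.maximalIdeal R := by
      rw [← IsLocalRing.residue_eq_zero_iff]
      exact hx
    have hnil : IsNilpotent x := by
      rw [← mem_nilradical, nilradical_eq_sInf, Ideal.mem_sInf]
      intro q hq
      have : (⟨q, hq⟩ : PrimeSpectrum R) = ⟨IsLocalRing.maximalIdeal R, inferInstance⟩ :=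
        Subsingleton.elim _ _
      have hq' : q = IsLocalRing.maximalIdeal R := congrArg PrimeSpectrum.asIdeal this
      rw [hq']
      exact hx'
    rw [RingHom.mem_ker]
    exact (hnil.map _).eq_zero
  have hπi : Function.Injective π := (RingHom.injective_iff_ker_eq_bot π.toRingHom).mpr hker
  let e : B ⊗[A] R ≃+* B ⊗[A] IsLocalRing.ResidueField R :=
    RingEquiv.ofBijective π.toRingHom ⟨hπi, hπs⟩
  exact isReduced_of_injective e.symm.toRingHom e.symm.injective

end Groth.Agent.Lib.Helper7
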