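import Groth.Agent.Lib.Helper7.TrdegCompositum

/-!
# Helper7: points of `X' ×_X X'` over a pair of points, with maximal transcendence degree
(Suslin–Voevodsky, relative cycles)
-/

set_option autoImplicit false
set_option linter.style.haveILetI false
universe u
open CategoryTheory CategoryTheory.Limits AlgebraicGeometry Cardinal

namespace Groth.Agent.Lib.Helper7.RelCycPoint

open Groth.Agent.Lib.Helper7.PullbackTrdeg Groth.Agent.Lib.Helper7.TrdegCompositum

variable {P X Y S : Scheme.{u}} {fst : P ⟶ X} {snd : P ⟶ Y} {f : X ⟶ S} {g : Y ⟶ S}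

/-- compatibility of residue field maps in a commutative square, at a point `z` over `x`. -/
theorem residueFieldMap_comm' (w : fst ≫ f = snd ≫ g) (z : P) (x : X) (e : fst.base z = x)
    (hfx : f.base x = g.base (snd.base z)) :
    f.residueFieldMap x ≫ ((X.residueFieldCongr e.symm).hom ≫ fst.residueFieldMap z) =
      ((S.residueFieldCongr hfx).hom ≫ g.residueFieldMap (snd.base z)) ≫
        snd.residueFieldMap z := by
  subst e
  simp only [Scheme.residueFieldCongr_refl, Iso.refl_hom, Category.id_comp, Category.assoc]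
  exact residueFieldMap_comm w z

/-- symmetric form of the generation statement -/
theorem closure_range_residueFieldMap_eq_top (h : IsPullback fst snd f g) (z : P) :
    Subfield.closure (Set.range (snd.residueFieldMap z).hom ∪
      Set.range (fst.residueFieldMap z).hom) = ⊤ := by
  have h1 := adjoin_range_residueFieldMap_eq_top h z
  letI : Algebra (Y.residueField (snd.base z)) (P.residueField z) :=
    (snd.residueFieldMap z).hom.toAlgebra
  have h2 := congrArg IntermediateField.toSubfield h1
  rw [IntermediateField.adjoin_toSubfield] at h2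
  exact h2

theorem residueFieldCongr_hom_surjective {x y : X} (e : x = y) :
    Function.Surjective (X.residueFieldCongr e).hom.hom :=
  fun t => ⟨(X.residueFieldCongr e).inv.hom t, congr($((X.residueFieldCongr e).inv_hom_id) t)⟩

/-- a field-valued point through `Spec κ(x')`, composed with a morphism. -/
theorem SpecMap_fromSpecResidueField_comp (h : X ⟶ Y) {L : Type u} [Field L] (x' : X) (y : Y)
    (e : h.base x' = y) (j : X.residueField x' ⟶ .of L) :
    (Spec.map j ≫ X.fromSpecResidueField x') ≫ h =
      Spec.map (((Y.residueFieldCongr e.symm).hom ≫ h.residueFieldMap x') ≫ j) ≫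
        Y.fromSpecResidueField y := by
  subst e
  simp only [Scheme.residueFieldCongr_refl, Iso.refl_hom, Category.id_comp, Category.assoc,
    Spec.map_comp, Scheme.Hom.SpecMap_residueFieldMap_fromSpecResidueField]

/-- images of the residue field of the base of a field-valued point -/
theorem mem_range_of_square (w : fst ≫ f = snd ≫ g) {L : Type u} [Field L]
    (c : Spec (.of L) ⟶ P) (x : X) (j : X.residueField x ⟶ .of L)
    (e : fst.base (c.base (IsLocalRing.closedPoint L)) = x)
    (he : fst.residueFieldMap (c.base (IsLocalRing.closedPoint L)) ≫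
        Scheme.descResidueField (Scheme.stalkClosedPointTo c) =
        (X.residueFieldCongr e).hom ≫ j)
    (t : S.residueField (g.base (snd.base (c.base (IsLocalRing.closedPoint L))))) :
    (Scheme.descResidueField (Scheme.stalkClosedPointTo c)).hom
      ((snd.residueFieldMap (c.base (IsLocalRing.closedPoint L))).hom
        ((g.residueFieldMap (snd.base (c.base (IsLocalRing.closedPoint L)))).hom t)) ∈
      Set.range (j.hom.comp (f.residueFieldMap x).hom) := by
  have hfx : f.base x = g.base (snd.base (c.base (IsLocalRing.closedPoint L))) := by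
    have h0 : (fst ≫ f).base (c.base (IsLocalRing.closedPoint L)) =
        (snd ≫ g).base (c.base (IsLocalRing.closedPoint L)) := by rw [w]
    rw [← e]
    exact h0
  have h1 := residueFieldMap_comm' w (c.base (IsLocalRing.closedPoint L)) x e hfx
  have h2 : f.residueFieldMap x ≫ j =
      ((S.residueFieldCongr hfx).hom ≫
        g.residueFieldMap (snd.base (c.base (IsLocalRing.closedPoint L)))) ≫
        snd.residueFieldMap (c.base (IsLocalRing.closedPoint L)) ≫
        Scheme.descResidueField (Scheme.stalkClosedPointTo c) := by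
    rw [← Category.assoc, ← h1, Category.assoc, Category.assoc, he, ← Category.assoc
      (X.residueFieldCongr e.symm).hom, Scheme.residueFieldCongr_trans_hom,
      Scheme.residueFieldCongr_refl, Iso.refl_hom, Category.id_comp]
  obtain ⟨t', rfl⟩ := residueFieldCongr_hom_surjective hfx t
  exact ⟨t', congr($h2 t')⟩


/-- Suslin–Voevodsky type lemma: points of `X'' = X' ×_X X'` over a pair of points with maximal
transcendence degree. -/
theorem exists_point_over_pair {X S S' S'' X' X'' : Scheme.{u}}
    (f : X ⟶ S) (r : ℕ) (g : S' ⟶ S)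
    (p q : S'' ⟶ S') (hS : IsPullback p q g g)
    (f' : X' ⟶ S') (g' : X' ⟶ X) (hX : IsPullback g' f' f g)
    (f'' : X'' ⟶ S'') (p' q' : X'' ⟶ X') (hp : IsPullback p' f'' f' p)
    (hq : IsPullback q' f'' f' q) (hpq : p' ≫ g' = q' ≫ g')
    (x : X) (hx : resTrdeg f x = r)
    (x₁ x₂ : X') (h₁ : g'.base x₁ = x) (h₂ : g'.base x₂ = x)
    (hx₁ : resTrdeg f' x₁ = r) (hx₂ : resTrdeg f' x₂ = r) :
    ∃ x'' : X'', resTrdeg f'' x'' = r ∧ p'.base x'' = x₁ ∧ q'.base x'' = x₂ := by
  have hfx₁ : f.base x = g.base (f'.base x₁) := by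
    have h0 : (g' ≫ f).base x₁ = (f' ≫ g).base x₁ := by rw [hX.w]
    rw [← h₁]
    exact h0
  have hfx₂ : f.base x = g.base (f'.base x₂) := by
    have h0 : (g' ≫ f).base x₂ = (f' ≫ g).base x₂ := by rw [hX.w]
    rw [← h₂]
    exact h0
  let a₀ := (f.residueFieldMap x).hom
  let φ₁ := ((X.residueFieldCongr h₁.symm).hom ≫ g'.residueFieldMap x₁).hom
  let φ₂ := ((X.residueFieldCongr h₂.symm).hom ≫ g'.residueFieldMap x₂).hom
  let ψ₁ := (f'.residueFieldMap x₁).hom
  let ψ₂ := (f'.residueFieldMap x₂).hom
  let b₁ := ((S.residueFieldCongr hfx₁).hom ≫ g.residueFieldMap (f'.base x₁)).hom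
  let b₂ := ((S.residueFieldCongr hfx₂).hom ≫ g.residueFieldMap (f'.base x₂)).hom
  have comm₁ : φ₁.comp a₀ = ψ₁.comp b₁ := by
    have := residueFieldMap_comm' hX.w x₁ x h₁ hfx₁
    ext c; exact congr($this c)
  have comm₂ : φ₂.comp a₀ = ψ₂.comp b₂ := by
    have := residueFieldMap_comm' hX.w x₂ x h₂ hfx₂
    ext c; exact congr($this c)
  letI : Algebra (S.residueField (f.base x)) (X.residueField x) := a₀.toAlgebra
  obtain ⟨ι, B, hB⟩ := exists_isTranscendenceBasis' (S.residueField (f.base x)) (X.residueField x)
  have hι : #ι = r := hB.cardinalMk_eq_trdeg.trans hx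
  haveI : Finite ι := by
    rw [← Cardinal.mk_lt_aleph0_iff, hι]
    exact Cardinal.natCast_lt_aleph0
  have gen₁ : Subfield.closure (Set.range ψ₁ ∪ Set.range φ₁) = ⊤ := by
    have hr : Set.range φ₁ = Set.range (g'.residueFieldMap x₁).hom :=
      (residueFieldCongr_hom_surjective h₁.symm).range_comp _
    rw [hr]
    exact closure_range_residueFieldMap_eq_top hX x₁
  have gen₂ : Subfield.closure (Set.range ψ₂ ∪ Set.range φ₂) = ⊤ := by
    have hr : Set.range φ₂ = Set.range (g'.residueFieldMap x₂).hom :=
      (residueFieldCongr_hom_surjective h₂.symm).range_comp _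
    rw [hr]
    exact closure_range_residueFieldMap_eq_top hX x₂
  obtain ⟨L, _, j₁, j₂, hj, hind⟩ := exists_compositum_algebraicIndependent' a₀ b₁ b₂ φ₁ φ₂ ψ₁ ψ₂
    comm₁ comm₂ B hB gen₁ gen₂ (hι.le.trans hx₁.symm.le) (hι.le.trans hx₂.symm.le)
  -- the field-valued points
  obtain ⟨a₁, ha₁⟩ : ∃ a : Spec (.of L) ⟶ X',
      a = Spec.map (CommRingCat.ofHom j₁) ≫ X'.fromSpecResidueField x₁ := ⟨_, rfl⟩
  obtain ⟨a₂, ha₂⟩ : ∃ a : Spec (.of L) ⟶ X',
      a = Spec.map (CommRingCat.ofHom j₂) ≫ X'.fromSpecResidueField x₂ := ⟨_, rfl⟩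
  have ha : a₁ ≫ g' = a₂ ≫ g' := by
    rw [ha₁, ha₂]
    rw [SpecMap_fromSpecResidueField_comp g' x₁ x h₁, SpecMap_fromSpecResidueField_comp g' x₂ x h₂]
    have : ((X.residueFieldCongr h₁.symm).hom ≫ g'.residueFieldMap x₁) ≫ CommRingCat.ofHom j₁ =
        ((X.residueFieldCongr h₂.symm).hom ≫ g'.residueFieldMap x₂) ≫ CommRingCat.ofHom j₂ := by
      ext c; exact congr($hj c)
    exact congrArg (fun m => Spec.map m ≫ X.fromSpecResidueField x) this
  have hσ : (a₁ ≫ f') ≫ g = (a₂ ≫ f') ≫ g := by
    calc (a₁ ≫ f') ≫ g = (a₁ ≫ g') ≫ f := by rw [Category.assoc, Category.assoc, hX.w]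
      _ = (a₂ ≫ g') ≫ f := by rw [ha]
      _ = (a₂ ≫ f') ≫ g := by rw [Category.assoc, Category.assoc, hX.w]
  let σ : Spec (.of L) ⟶ S'' := hS.lift (a₁ ≫ f') (a₂ ≫ f') hσ
  let c : Spec (.of L) ⟶ X'' := hp.lift a₁ σ (hS.lift_fst _ _ _).symm
  have hcp : c ≫ p' = a₁ := hp.lift_fst _ _ _
  have hcf : c ≫ f'' = σ := hp.lift_snd _ _ _
  have hcq : c ≫ q' = a₂ := by
    apply hX.hom_ext
    · rw [Category.assoc, ← hpq, ← Category.assoc, hcp, ha]
    · rw [Category.assoc, hq.w, ← Category.assoc, hcf]
      exact hS.lift_snd _ _ _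
  obtain ⟨e₁, he₁⟩ := exists_of_SpecMap_comp_eq (fst := p') (CommRingCat.ofHom j₁) c
    (hcp.trans ha₁)
  obtain ⟨e₂, he₂⟩ := exists_of_SpecMap_comp_eq (fst := q') (CommRingCat.ofHom j₂) c
    (hcq.trans ha₂)
  refine ⟨c.base (IsLocalRing.closedPoint L), ?_, e₁, e₂⟩
  apply le_antisymm
  · calc resTrdeg f'' (c.base (IsLocalRing.closedPoint L))
        ≤ resTrdeg f' (p'.base (c.base (IsLocalRing.closedPoint L))) :=
          resTrdeg_le_of_isPullback hp _
      _ = r := by rw [e₁]; exact hx₁
  · rw [← hι]
    letI : Algebra (S''.residueField (f''.base (c.base (IsLocalRing.closedPoint L))))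
        (X''.residueField (c.base (IsLocalRing.closedPoint L))) :=
      (f''.residueFieldMap (c.base (IsLocalRing.closedPoint L))).hom.toAlgebra
    let wfam : ι → X''.residueField (c.base (IsLocalRing.closedPoint L)) := fun i =>
      (p'.residueFieldMap (c.base (IsLocalRing.closedPoint L))).hom
        ((X'.residueFieldCongr e₁).inv.hom (φ₁ (B i)))
    have hw : AlgebraicIndependent
        (S''.residueField (f''.base (c.base (IsLocalRing.closedPoint L)))) wfam := by
      let m : S''.residueField (f''.base (c.base (IsLocalRing.closedPoint L))) →+* L :=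
        (Scheme.descResidueField (Scheme.stalkClosedPointTo c)).hom.comp
          (f''.residueFieldMap (c.base (IsLocalRing.closedPoint L))).hom
      have hm := hind (S''.residueField (f''.base (c.base (IsLocalRing.closedPoint L)))) m ?_
      · letI : Algebra (S''.residueField (f''.base (c.base (IsLocalRing.closedPoint L)))) L :=
          m.toAlgebra
        refine AlgebraicIndependent.of_ringHom_of_comp_eq
          (RingHom.id (S''.residueField (f''.base (c.base (IsLocalRing.closedPoint L)))))
          (Scheme.descResidueField (Scheme.stalkClosedPointTo c)).hom ?_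
          Function.injective_id rfl
        have : (Scheme.descResidueField (Scheme.stalkClosedPointTo c)).hom ∘ wfam =
            j₁ ∘ φ₁ ∘ B := by
          funext i
          have h3 : (Scheme.descResidueField (Scheme.stalkClosedPointTo c)).hom
              ((p'.residueFieldMap (c.base (IsLocalRing.closedPoint L))).hom
                ((X'.residueFieldCongr e₁).inv.hom (φ₁ (B i)))) =
              j₁ ((X'.residueFieldCongr e₁).hom.hom
                ((X'.residueFieldCongr e₁).inv.hom (φ₁ (B i)))) :=
            congr($he₁ ((X'.residueFieldCongr e₁).inv.hom (φ₁ (B i))))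
          have h4 : (X'.residueFieldCongr e₁).hom.hom
              ((X'.residueFieldCongr e₁).inv.hom (φ₁ (B i))) = φ₁ (B i) :=
            congr($((X'.residueFieldCongr e₁).inv_hom_id) (φ₁ (B i)))
          show (Scheme.descResidueField (Scheme.stalkClosedPointTo c)).hom (wfam i) = j₁ (φ₁ (B i))
          rw [← h4, ← h3]
        rw [this]
        exact hm
      · -- the image of `κ(s'')` lies in the compositum
        intro t
        have gen := closure_range_residueFieldMap_eq_top hS
          (f''.base (c.base (IsLocalRing.closedPoint L)))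
        have ht : t ∈ Subfield.closure
            (Set.range (q.residueFieldMap (f''.base (c.base (IsLocalRing.closedPoint L)))).hom ∪
              Set.range (p.residueFieldMap
                (f''.base (c.base (IsLocalRing.closedPoint L)))).hom) := by
          rw [gen]; exact Subfield.mem_top t
        have hmap : m t ∈ (Subfield.closure
            (Set.range (q.residueFieldMap (f''.base (c.base (IsLocalRing.closedPoint L)))).hom ∪
              Set.range (p.residueFieldMap
                (f''.base (c.base (IsLocalRing.closedPoint L)))).hom)).map m :=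
          ⟨t, ht, rfl⟩
        rw [RingHom.map_field_closure] at hmap
        refine Subfield.closure_mono ?_ hmap
        rintro _ ⟨_, (⟨t', rfl⟩ | ⟨t', rfl⟩), rfl⟩
        · right
          exact mem_range_of_square hq.w c x₂ (CommRingCat.ofHom j₂) e₂ he₂ t'
        · left
          exact mem_range_of_square hp.w c x₁ (CommRingCat.ofHom j₁) e₁ he₁ t'
    exact hw.cardinalMk_le_trdeg

end Groth.Agent.Lib.Helper7.RelCycPoint
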