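import Groth.Agent.Lib.Helper7.SmoothPairLift

/-!
# Étale-local extension of morphisms into smooth schemes along a closed immersion (helper7)

* `exists_etale_extension_ring`: ring-level form (Stacks 07M7 repackaged with plain ring maps).
* `isPushout_of_ker`: the square `A → A₀`, `A → A'`, `A' → A₀` is a pushout when `A' → A₀` has
  kernel generated by the kernel of the surjection `A → A₀`.
* `exists_etale_extension`: scheme-level form.
-/

set_option autoImplicit false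

namespace Groth.Agent.Lib.Helper7.SmoothExtend

open CategoryTheory Limits TensorProduct

universe u

/-- Ring-level form: `R → B` smooth, `R → A`, `A ↠ A₀` and `B → A₀` over `R`.  Then there are an
étale `A → A'`, a map `B → A'` over `R` and `A' → A₀` with kernel `ker(A → A₀) A'` through which
`A → A₀` and `B → A₀` factor. -/
theorem exists_etale_extension_ring {R A B A₀ : Type u} [CommRing R] [CommRing A] [CommRing B]
    [CommRing A₀] (α : R →+* A) (β : R →+* B) (hβ : β.Smooth) (π : A →+* A₀)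
    (hπ : Function.Surjective π) (φ₀ : B →+* A₀) (h : φ₀.comp β = π.comp α) :
    ∃ (A' : Type u) (_ : CommRing A') (ε : A →+* A') (τ : B →+* A') (π' : A' →+* A₀),
      ε.Etale ∧ τ.comp β = ε.comp α ∧ π'.comp ε = π ∧ π'.comp τ = φ₀ ∧
        RingHom.ker π' = (RingHom.ker π).map ε := by
  classical
  algebraize [α, β]
  set I : Ideal A := RingHom.ker π with hI
  let e₀ : A ⧸ I ≃+* A₀ := RingHom.quotientKerEquivOfSurjective hπ
  have he₀ : ∀ a : A, e₀ (Ideal.Quotient.mk I a) = π a := fun a =>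
    RingHom.quotientKerEquivOfSurjective_apply_mk hπ a
  have he₀' : ∀ a : A, e₀.symm (π a) = Ideal.Quotient.mk I a := fun a =>
    RingHom.quotientKerEquivOfSurjective_symm_apply hπ a
  let φ₀' : B →ₐ[R] A ⧸ I :=
    { toRingHom := e₀.symm.toRingHom.comp φ₀
      commutes' := fun r => by
        have h1 : φ₀ (β r) = π (α r) := congrArg (fun g => g r) h
        change e₀.symm (φ₀ (β r)) = _
        rw [h1, he₀']
        rfl }
  have hφ₀' : ∀ b : B, φ₀' b = e₀.symm (φ₀ b) := fun _ => rfl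
  let σ : A ⊗[R] B →ₐ[A] A ⧸ I :=
    Algebra.TensorProduct.lift (Algebra.ofId A (A ⧸ I)) φ₀' (fun _ _ => Commute.all _ _)
  have hσ : ∀ b : B, σ (1 ⊗ₜ b) = φ₀' b := fun b => by
    simp [σ]
  obtain ⟨A', _, _, hEt, hbij, τ₀, hτ₀⟩ :=
    SmoothPairLift.exists_etale_lift_bijective (A := A) (B := A ⊗[R] B) I σ
  let E : A ⧸ I ≃+* A' ⧸ I.map (algebraMap A A') := RingEquiv.ofBijective _ hbij
  have hE : ∀ a : A, E (Ideal.Quotient.mk I a) =
      Ideal.Quotient.mk (I.map (algebraMap A A')) (algebraMap A A' a) := fun _ => rfl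
  let π' : A' →+* A₀ :=
    e₀.toRingHom.comp (E.symm.toRingHom.comp (Ideal.Quotient.mk (I.map (algebraMap A A'))))
  have hπ' : ∀ x : A', π' x = e₀ (E.symm (Ideal.Quotient.mk (I.map (algebraMap A A')) x)) :=
    fun _ => rfl
  refine ⟨A', inferInstance, algebraMap A A',
    τ₀.toRingHom.comp (Algebra.TensorProduct.includeRight : B →ₐ[R] A ⊗[R] B).toRingHom, π',
    RingHom.etale_algebraMap.mpr hEt, ?_, ?_, ?_, ?_⟩
  · ext r
    change τ₀ ((1 : A) ⊗ₜ[R] (algebraMap R B r)) = algebraMap A A' (algebraMap R A r)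
    have h1 : ((1 : A) ⊗ₜ[R] (algebraMap R B r) : A ⊗[R] B) =
        algebraMap A (A ⊗[R] B) (algebraMap R A r) := by
      have h2 : algebraMap A (A ⊗[R] B) (algebraMap R A r) = (algebraMap R A r) ⊗ₜ[R] (1 : B) := by
        simp [Algebra.TensorProduct.algebraMap_apply]
      rw [h2, Algebra.algebraMap_eq_smul_one, Algebra.algebraMap_eq_smul_one,
        TensorProduct.smul_tmul]
    rw [h1, AlgHom.commutes]
  · ext a
    change π' (algebraMap A A' a) = π a
    rw [hπ', ← hE, RingEquiv.symm_apply_apply, he₀]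
  · ext b
    change π' (τ₀ ((1 : A) ⊗ₜ[R] b)) = φ₀ b
    rw [hπ', hτ₀]
    change e₀ (E.symm (E (σ (1 ⊗ₜ b)))) = _
    rw [RingEquiv.symm_apply_apply, hσ, hφ₀', RingEquiv.apply_symm_apply]
  · ext x
    rw [RingHom.mem_ker, hπ']
    constructor
    · intro hx
      have h1 : E.symm (Ideal.Quotient.mk (I.map (algebraMap A A')) x) = 0 := by
        apply e₀.injective
        rw [hx, map_zero]
      have h2 : Ideal.Quotient.mk (I.map (algebraMap A A')) x = 0 := by
        apply E.symm.injective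
        rw [h1, map_zero]
      exact Ideal.Quotient.eq_zero_iff_mem.mp h2
    · intro hx
      rw [Ideal.Quotient.eq_zero_iff_mem.mpr hx, map_zero, map_zero]

/-- The square `π, ε, 𝟙, π'` is a pushout as soon as `π` is surjective, `ε ≫ π' = π` and the
kernel of `π'` is generated by the kernel of `π`. -/
theorem isPushout_of_ker {A A₀ A' : CommRingCat.{u}} (π : A ⟶ A₀) (ε : A ⟶ A') (π' : A' ⟶ A₀)
    (hπ : Function.Surjective π.hom) (hc : ε ≫ π' = π)
    (hk : RingHom.ker π'.hom = (RingHom.ker π.hom).map ε.hom) :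
    IsPushout π ε (𝟙 A₀) π' := by
  have hc' : ∀ a, π'.hom (ε.hom a) = π.hom a := fun a =>
    congrArg (fun g => g.hom a) hc
  refine IsPushout.of_isColimit' ⟨by rw [Category.comp_id, hc]⟩
    (PushoutCocone.IsColimit.mk _ (fun s => s.inl) (fun s => Category.id_comp _) (fun s => ?_)
      (fun s m h1 _ => by rw [← h1, Category.id_comp]))
  ext a'
  change s.inl.hom (π'.hom a') = s.inr.hom a'
  obtain ⟨a, ha⟩ := hπ (π'.hom a')
  have hcond : ∀ a, s.inl.hom (π.hom a) = s.inr.hom (ε.hom a) := fun a =>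
    congrArg (fun g => g.hom a) s.condition
  have hmem : a' - ε.hom a ∈ RingHom.ker π'.hom := by
    rw [RingHom.mem_ker, map_sub, hc', ha, sub_self]
  have hle : (RingHom.ker π.hom).map ε.hom ≤ RingHom.ker s.inr.hom := by
    rw [Ideal.map_le_iff_le_comap]
    intro i hi
    rw [Ideal.mem_comap, RingHom.mem_ker, ← hcond, (RingHom.mem_ker).mp hi, map_zero]
  rw [hk] at hmem
  have h0 := hle hmem
  rw [RingHom.mem_ker, map_sub, sub_eq_zero] at h0
  rw [h0, ← hcond, ha]

open AlgebraicGeometry TopologicalSpace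

set_option backward.isDefEq.respectTransparency.types false in
/-- **Étale-local extension of morphisms into smooth schemes**: let `j : X₀ ⟶ X` be a closed
immersion of `S`-schemes, `q : Y ⟶ S` smooth and `f₀ : X₀ ⟶ Y` an `S`-morphism.  For each point
`x₀` of `X₀` there are an étale `e : U ⟶ X`, an open immersion `m : P ⟶ X₀` whose image contains
`x₀`, a cartesian square `P = U ×_X X₀` and an `S`-morphism `f : U ⟶ Y` extending `f₀|P`. -/
theorem exists_etale_extension {S X X₀ Y : Scheme.{u}} (p : X ⟶ S) (j : X₀ ⟶ X)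
    [IsClosedImmersion j] (q : Y ⟶ S) [Smooth q] (f₀ : X₀ ⟶ Y) (hf₀ : f₀ ≫ q = j ≫ p) (x₀ : X₀) :
    ∃ (U P : Scheme.{u}) (e : U ⟶ X) (f : U ⟶ Y) (k : P ⟶ U) (m : P ⟶ X₀),
      Etale e ∧ f ≫ q = e ≫ p ∧ IsOpenImmersion m ∧ x₀ ∈ Set.range m ∧ IsPullback k m e j ∧
        m ≫ f₀ = k ≫ f := by
  -- affine opens
  obtain ⟨Us, hUs, hsUs, -⟩ := Opens.isBasis_iff_nbhd.mp S.isBasis_affineOpens
    (Opens.mem_top (q (f₀ x₀)))
  have hUs : IsAffineOpen Us := hUs
  have hy : f₀ x₀ ∈ q ⁻¹ᵁ Us := hsUs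
  obtain ⟨Vy, hVy, hyVy, hVyUs⟩ := Opens.isBasis_iff_nbhd.mp Y.isBasis_affineOpens hy
  have hVy : IsAffineOpen Vy := hVy
  -- an open of `X` inducing `f₀ ⁻¹ Vy`
  obtain ⟨O, hO, hOeq⟩ := j.isClosedEmbedding.isInducing.isOpen_iff.mp (f₀ ⁻¹ᵁ Vy).isOpen
  let O' : X.Opens := ⟨O, hO⟩
  have hxO : j x₀ ∈ O' ⊓ p ⁻¹ᵁ Us := by
    refine ⟨?_, ?_⟩
    · have : x₀ ∈ j ⁻¹' O := by rw [hOeq]; exact hyVy
      exact this
    · change p (j x₀) ∈ Us
      rw [← Scheme.Hom.comp_apply, ← hf₀, Scheme.Hom.comp_apply]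
      exact hsUs
  obtain ⟨W, hW, hxW, hWO⟩ := Opens.isBasis_iff_nbhd.mp X.isBasis_affineOpens hxO
  have hW : IsAffineOpen W := hW
  have hW₀ : IsAffineOpen (j ⁻¹ᵁ W) := hW.preimage j
  have eW : W ≤ p ⁻¹ᵁ Us := hWO.trans inf_le_right
  have e₀ : j ⁻¹ᵁ W ≤ f₀ ⁻¹ᵁ Vy := by
    intro z hz
    have h1 : j z ∈ O := (hWO hz).1
    have h2 : z ∈ j ⁻¹' O := h1
    rw [hOeq] at h2
    exact h2
  -- the rings
  have hβ : (q.appLE Us Vy hVyUs).hom.Smooth := q.smooth_appLE hUs hVy hVyUs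
  have hπ : Function.Surjective (j.app W).hom := j.app_surjective W hW
  have hcomm : q.appLE Us Vy hVyUs ≫ f₀.appLE Vy (j ⁻¹ᵁ W) e₀ = p.appLE Us W eW ≫ j.app W := by
    rw [Scheme.Hom.app_eq_appLE, Scheme.Hom.appLE_comp_appLE, Scheme.Hom.appLE_comp_appLE]
    congr 1
  obtain ⟨A', _, ε, τ, π', hε, h1, h2, h3, h4⟩ := exists_etale_extension_ring
    (p.appLE Us W eW).hom (q.appLE Us Vy hVyUs).hom hβ (j.app W).hom hπ
    (f₀.appLE Vy (j ⁻¹ᵁ W) e₀).hom (by rw [← CommRingCat.hom_comp, ← CommRingCat.hom_comp, hcomm])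
  have h1' : q.appLE Us Vy hVyUs ≫ CommRingCat.ofHom τ = p.appLE Us W eW ≫ CommRingCat.ofHom ε := by
    ext a
    exact congrArg (fun g => g a) h1
  have h2' : CommRingCat.ofHom ε ≫ CommRingCat.ofHom π' = j.app W := by
    ext a
    exact congrArg (fun g => g a) h2
  have h3' : CommRingCat.ofHom τ ≫ CommRingCat.ofHom π' = f₀.appLE Vy (j ⁻¹ᵁ W) e₀ := by
    ext a
    exact congrArg (fun g => g a) h3
  have hpo : IsPushout (j.app W) (CommRingCat.ofHom ε) (𝟙 _) (CommRingCat.ofHom π') :=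
    isPushout_of_ker (j.app W) (CommRingCat.ofHom ε) (CommRingCat.ofHom π') hπ h2' h4
  have hEt : Etale (Spec.map (CommRingCat.ofHom ε)) :=
    (HasRingHomProperty.Spec_iff (P := @Etale)).mpr hε
  have top := (isPullback_SpecMap_of_isPushout (j.app W) (CommRingCat.ofHom ε) (𝟙 _)
    (CommRingCat.ofHom π') hpo).flip
  have bot : IsPullback (Spec.map (j.app W)) hW₀.fromSpec hW.fromSpec j := by
    apply IsOpenImmersion.isPullback
    · rw [← IsAffineOpen.SpecMap_appLE_fromSpec j hW hW₀ le_rfl, Scheme.Hom.app_eq_appLE]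
    · rw [hW.opensRange_fromSpec, hW₀.opensRange_fromSpec]
  have big := top.paste_vert bot
  rw [Spec.map_id, Category.id_comp] at big
  refine ⟨Spec (CommRingCat.of A'), Spec Γ(X₀, j ⁻¹ᵁ W),
    Spec.map (CommRingCat.ofHom ε) ≫ hW.fromSpec, Spec.map (CommRingCat.ofHom τ) ≫ hVy.fromSpec,
    Spec.map (CommRingCat.ofHom π'), hW₀.fromSpec, inferInstance, ?_, inferInstance, ?_, big, ?_⟩
  · rw [Category.assoc, Category.assoc, ← IsAffineOpen.SpecMap_appLE_fromSpec q hUs hVy hVyUs,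
      ← IsAffineOpen.SpecMap_appLE_fromSpec p hUs hW eW, ← Category.assoc, ← Category.assoc,
      ← Spec.map_comp, ← Spec.map_comp, h1']
  · rw [hW₀.range_fromSpec]
    exact hxW
  · rw [← IsAffineOpen.SpecMap_appLE_fromSpec f₀ hVy hW₀ e₀, ← Category.assoc, ← Spec.map_comp, h3']

end Groth.Agent.Lib.Helper7.SmoothExtend
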