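/-
Helper7: ring-level preparation for adapted étale charts of a smooth closed pair.
* `exists_min_generators`: minimal generators of a f.g. ideal at a prime (Nakayama via supports).
* `exists_adapted_chart_of_surjective`: for smooth `A → B`, smooth `A → C` and a surjection
  `σ : B →ₐ[A] C`, an étale chart of `B` near a prime containing `ker σ` adapted to `ker σ`.
-/
import Mathlib
import Groth.Agent.Lib.Helper7.AdaptedChart

set_option autoImplicit false
universe u

open TensorProduct MvPolynomial

namespace Groth.Agent.Lib.Helper7.SmoothPair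

/-- Minimal generators of a finitely generated ideal at a prime. -/
theorem exists_min_generators {B : Type u} [CommRing B] (J : Ideal B) (hJ : J.FG) (q : Ideal B)
    [q.IsPrime] :
    ∃ (r : ℕ) (g : Fin r → B), (∀ i, g i ∈ J) ∧
      J.map (algebraMap B (Localization.AtPrime q)) =
        Ideal.span (Set.range fun i => algebraMap B (Localization.AtPrime q) (g i)) ∧
      r = Module.finrank q.ResidueField (q.ResidueField ⊗[B] J) := by
  classical
  have hfin : Module.Finite B J := Module.Finite.iff_fg.mpr hJ
  set T : Set (q.ResidueField ⊗[B] J) :=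
    Set.range (fun j : J => (1 : q.ResidueField) ⊗ₜ[B] j) with hT
  have hTspan : Submodule.span q.ResidueField T = ⊤ := by
    rw [eq_top_iff]
    rintro x -
    induction x using TensorProduct.induction_on with
    | zero => exact zero_mem _
    | tmul c j =>
      have : c ⊗ₜ[B] j = c • ((1 : q.ResidueField) ⊗ₜ[B] j) := by
        rw [TensorProduct.smul_tmul', smul_eq_mul, mul_one]
      rw [this]
      exact Submodule.smul_mem _ _ (Submodule.subset_span ⟨j, rfl⟩)
    | add x y hx hy => exact add_mem hx hy
  obtain ⟨F, hFT, hFspan, hFli⟩ := Submodule.exists_fun_fin_finrank_span_eq q.ResidueField T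
  have hr : Module.finrank q.ResidueField (Submodule.span q.ResidueField T) =
      Module.finrank q.ResidueField (q.ResidueField ⊗[B] J) := by
    rw [hTspan, finrank_top]
  choose g' hg' using hFT
  refine ⟨_, fun i => (g' i : B), fun i => (g' i).2, ?_, hr⟩
  set G' : Submodule B J := Submodule.span B (Set.range g') with hG'
  have hsub : Subsingleton (q.ResidueField ⊗[B] (J ⧸ G')) := by
    let φ : q.ResidueField ⊗[B] J →ₗ[q.ResidueField] q.ResidueField ⊗[B] (J ⧸ G') :=
      (G'.mkQ).baseChange q.ResidueField
    have hφsurj : Function.Surjective φ :=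
      LinearMap.lTensor_surjective q.ResidueField (Submodule.mkQ_surjective G')
    have hker : LinearMap.ker φ = ⊤ := by
      rw [eq_top_iff, ← hTspan, ← hFspan, Submodule.span_le]
      rintro _ ⟨i, rfl⟩
      rw [SetLike.mem_coe, LinearMap.mem_ker, ← hg' i, LinearMap.baseChange_tmul]
      have : G'.mkQ (g' i) = 0 :=
        (Submodule.Quotient.mk_eq_zero _).mpr (Submodule.subset_span ⟨i, rfl⟩)
      rw [this, TensorProduct.tmul_zero]
    refine ⟨fun a b => ?_⟩
    obtain ⟨a', rfl⟩ := hφsurj a
    obtain ⟨b', rfl⟩ := hφsurj b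
    have ha : φ a' = 0 := LinearMap.mem_ker.mp (hker ▸ Submodule.mem_top)
    have hb : φ b' = 0 := LinearMap.mem_ker.mp (hker ▸ Submodule.mem_top)
    rw [ha, hb]
  have hnot : (⟨q, inferInstance⟩ : PrimeSpectrum B) ∉ Module.support B (J ⧸ G') := by
    rw [Module.mem_support_iff_nontrivial_residueField_tensorProduct]
    exact not_nontrivial_iff_subsingleton.mpr hsub
  rw [Module.notMem_support_iff'] at hnot
  have hcoe : ∀ x ∈ G', (x : B) ∈ Ideal.span (Set.range fun i => (g' i : B)) := by
    intro x hx
    induction hx using Submodule.span_induction with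
    | mem x hx =>
      obtain ⟨i, rfl⟩ := hx
      exact Ideal.subset_span ⟨i, rfl⟩
    | zero => exact zero_mem _
    | add x y _ _ hx hy => exact add_mem hx hy
    | smul a x _ hx => exact Ideal.mul_mem_left _ a hx
  have key : ∀ j ∈ J, ∃ f : B, f ∉ q ∧
      f * j ∈ Ideal.span (Set.range fun i => (g' i : B)) := by
    intro j hj
    obtain ⟨f, hf, hfj⟩ := hnot (G'.mkQ ⟨j, hj⟩)
    refine ⟨f, hf, ?_⟩
    rw [← map_smul, Submodule.mkQ_apply, Submodule.Quotient.mk_eq_zero] at hfj
    exact hcoe _ hfj
  apply le_antisymm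
  · rw [Ideal.map_le_iff_le_comap]
    intro j hj
    obtain ⟨f, hf, hfj⟩ := key j hj
    rw [Ideal.mem_comap]
    have hu : IsUnit (algebraMap B (Localization.AtPrime q) f) :=
      IsLocalization.map_units _ (⟨f, hf⟩ : q.primeCompl)
    have h1 : algebraMap B (Localization.AtPrime q) (f * j) ∈
        Ideal.span (Set.range fun i => algebraMap B (Localization.AtPrime q) (g' i)) := by
      have := Ideal.mem_map_of_mem (algebraMap B (Localization.AtPrime q)) hfj
      rwa [Ideal.map_span, ← Set.range_comp] at this
    rw [map_mul] at h1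
    exact (Ideal.unit_mul_mem_iff_mem _ hu).mp h1
  · rw [Ideal.span_le]
    rintro _ ⟨i, rfl⟩
    exact Ideal.mem_map_of_mem _ (g' i).2

/-- Adapted étale chart for a surjection of smooth algebras. -/
theorem exists_adapted_chart_of_surjective (A B C : Type u) [CommRing A] [CommRing B] [CommRing C]
    [Algebra A B] [Algebra A C] [Algebra.Smooth A B] [Algebra.Smooth A C] (σ : B →ₐ[A] C)
    (hσ : Function.Surjective σ) (q : Ideal B) [q.IsPrime] (hq : RingHom.ker σ ≤ q) :
    ∃ (r : ℕ) (g : Fin r → B) (f : B) (m : ℕ) (g' : Fin m → Localization.Away f),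
      (∀ i, σ (g i) = 0) ∧ f ∉ q ∧
      (MvPolynomial.aeval (Sum.elim (fun i => algebraMap B (Localization.Away f) (g i)) g') :
          MvPolynomial (Fin r ⊕ Fin m) A →ₐ[A] Localization.Away f).toRingHom.Etale ∧
      (RingHom.ker σ).map (algebraMap B (Localization.Away f)) =
        Ideal.span (Set.range fun i => algebraMap B (Localization.Away f) (g i)) := by
  set J : Ideal B := RingHom.ker σ with hJdef
  have hJ : J.FG := Algebra.FinitePresentation.ker_fG_of_surjective σ hσ
  have hQprime : (q.map (Ideal.Quotient.mk J)).IsPrime :=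
    Ideal.map_isPrime_of_surjective Ideal.Quotient.mk_surjective (by rw [Ideal.mk_ker]; exact hq)
  have hQ : (q.map (Ideal.Quotient.mk J)).comap (Ideal.Quotient.mk J) = q := by
    rw [Ideal.comap_map_of_surjective _ Ideal.Quotient.mk_surjective, ← RingHom.ker_eq_comap_bot,
      Ideal.mk_ker, sup_eq_left]
    exact hq
  have hsmQ : Algebra.Smooth A (B ⧸ J) :=
    Algebra.Smooth.of_equiv (Ideal.quotientKerAlgEquivOfSurjective hσ).symm
  have hQs : Algebra.IsSmoothAt A (q.map (Ideal.Quotient.mk J)) := by
    have h := Algebra.smoothLocus_eq_univ (R := A) (A := B ⧸ J)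
    have hm : (⟨q.map (Ideal.Quotient.mk J), hQprime⟩ : PrimeSpectrum (B ⧸ J)) ∈
        Algebra.smoothLocus A (B ⧸ J) := h ▸ Set.mem_univ _
    exact hm
  have hqs : Algebra.IsSmoothAt A q := by
    have h := Algebra.smoothLocus_eq_univ (R := A) (A := B)
    have hm : (⟨q, inferInstance⟩ : PrimeSpectrum B) ∈ Algebra.smoothLocus A B :=
      h ▸ Set.mem_univ _
    exact hm
  obtain ⟨r, g, hg, hgen, hmin⟩ := exists_min_generators J hJ q
  obtain ⟨f, hf, m, g', hE, hspan⟩ :=
    Groth.Agent.Lib.Helper7.AdaptedChart.exists_adapted_chart A B J hJ q hq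
      (q.map (Ideal.Quotient.mk J)) hQ r g hg hgen hmin
  exact ⟨r, g, f, m, g', fun i => (RingHom.mem_ker).mp (hg i), hf, hE, hspan⟩

end Groth.Agent.Lib.Helper7.SmoothPair
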