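/-
Helper7: differentials at a point of a formally smooth local algebra with separable residue field.
* `one_tmul_D_ne_zero_of_map`: functoriality — nonvanishing of `1 ⊗ d(image of r)` downstairs forces
  nonvanishing of `1 ⊗ d r` upstairs.
* `exists_mem_maximalIdeal_tmul_D_ne_zero`: for a formally smooth local homomorphism `O₁ → O₂` of
  local rings with formally smooth residue field extension, Noetherian closed fibre which is not a
  field, there is `h ∈ m₂` with `1 ⊗ dh ≠ 0` in `κ₂ ⊗ Ω[O₂/O₁]`.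
-/
import Mathlib

set_option autoImplicit false
universe u

open TensorProduct KaehlerDifferential IsLocalRing

namespace Groth.Agent.Lib.Helper7.SmoothResidue

/-- Functoriality of `1 ⊗ d r`. -/
theorem one_tmul_D_ne_zero_of_map {A R O₁ O₂ K₁ K₂ : Type u} [CommRing A] [CommRing R]
    [CommRing O₁] [CommRing O₂] [CommRing K₁] [CommRing K₂]
    [Algebra A R] [Algebra A O₁] [Algebra R O₂] [Algebra O₁ O₂] [Algebra A O₂]
    [IsScalarTower A R O₂] [IsScalarTower A O₁ O₂]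
    [Algebra R K₁] [Algebra O₂ K₂] [Algebra R K₂] [IsScalarTower R O₂ K₂]
    (ι : K₁ →ₐ[R] K₂) (r : R)
    (h : (1 : K₂) ⊗ₜ[O₂] D O₁ O₂ (algebraMap R O₂ r) ≠ 0) :
    (1 : K₁) ⊗ₜ[R] D A R r ≠ 0 := by
  have : SMulCommClass O₁ R O₂ := ⟨fun a b c => by
    simp only [Algebra.smul_def]
    ring⟩
  intro h0
  apply h
  let Ψ₀ : K₁ ⊗[R] Ω[R⁄A] →ₗ[R] K₂ ⊗[R] Ω[O₂⁄O₁] :=
    TensorProduct.map ι.toLinearMap (KaehlerDifferential.map A O₁ R O₂)
  let Ψ₁ : K₂ ⊗[R] Ω[O₂⁄O₁] →ₗ[R] K₂ ⊗[O₂] Ω[O₂⁄O₁] :=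
    TensorProduct.mapOfCompatibleSMul O₂ R R K₂ Ω[O₂⁄O₁]
  have h1 := congr_arg (fun t => Ψ₁ (Ψ₀ t)) h0
  simpa [Ψ₀, Ψ₁] using h1

/-- **A parameter with nonzero differential.** For a formally smooth local homomorphism of local
rings `O₁ → O₂` with formally smooth residue field extension, whose closed fibre `O₂ ⧸ m₁ O₂` is
Noetherian and not a field, there is `h ∈ m₂` with `1 ⊗ dh ≠ 0` in `κ₂ ⊗ Ω[O₂/O₁]`. -/
theorem exists_mem_maximalIdeal_tmul_D_ne_zero (O₁ O₂ : Type u) [CommRing O₁] [CommRing O₂]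
    [IsLocalRing O₁] [IsLocalRing O₂] [Algebra O₁ O₂] [IsLocalHom (algebraMap O₁ O₂)]
    [Algebra.FormallySmooth O₁ O₂]
    [Algebra (ResidueField O₁) (ResidueField O₂)]
    (hcompat : ∀ a : O₁, algebraMap (ResidueField O₁) (ResidueField O₂) (residue O₁ a) =
      residue O₂ (algebraMap O₁ O₂ a))
    [Algebra.FormallySmooth (ResidueField O₁) (ResidueField O₂)]
    (hnoeth : IsNoetherianRing (O₂ ⧸ (maximalIdeal O₁).map (algebraMap O₁ O₂)))
    (hne : ∃ t ∈ maximalIdeal O₂, t ∉ (maximalIdeal O₁).map (algebraMap O₁ O₂)) :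
    ∃ h ∈ maximalIdeal O₂, (1 : ResidueField O₂) ⊗ₜ[O₂] D O₁ O₂ h ≠ 0 := by
  have hI : (maximalIdeal O₁).map (algebraMap O₁ O₂) ≤ maximalIdeal O₂ := map_maximalIdeal_le _
  let _ : Algebra (O₁ ⧸ maximalIdeal O₁) (ResidueField O₂) :=
    ‹Algebra (ResidueField O₁) (ResidueField O₂)›
  have hsmB : Algebra.FormallySmooth (O₁ ⧸ maximalIdeal O₁)
      (O₂ ⧸ (maximalIdeal O₁).map (algebraMap O₁ O₂)) :=
    Algebra.FormallySmooth.of_equiv
      (Algebra.TensorProduct.quotIdealMapEquivQuotTensor O₂ (maximalIdeal O₁)).symm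
  let _ : Algebra (O₂ ⧸ (maximalIdeal O₁).map (algebraMap O₁ O₂)) (ResidueField O₂) :=
    (Ideal.Quotient.factor hI).toAlgebra
  have tower1 : IsScalarTower O₂ (O₂ ⧸ (maximalIdeal O₁).map (algebraMap O₁ O₂))
      (ResidueField O₂) := IsScalarTower.of_algebraMap_eq (fun _ => rfl)
  have tower2 : IsScalarTower (O₁ ⧸ maximalIdeal O₁)
      (O₂ ⧸ (maximalIdeal O₁).map (algebraMap O₁ O₂)) (ResidueField O₂) := by
    refine IsScalarTower.of_algebraMap_eq (fun a => ?_)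
    obtain ⟨a, rfl⟩ := Ideal.Quotient.mk_surjective a
    exact hcompat a
  have hsurj : Function.Surjective
      (algebraMap (O₂ ⧸ (maximalIdeal O₁).map (algebraMap O₁ O₂)) (ResidueField O₂)) :=
    Ideal.Quotient.factor_surjective hI
  have hsmκ : Algebra.FormallySmooth (O₁ ⧸ maximalIdeal O₁) (ResidueField O₂) :=
    ‹Algebra.FormallySmooth (ResidueField O₁) (ResidueField O₂)›
  obtain ⟨l, hl⟩ := (Algebra.FormallySmooth.iff_split_injection hsurj).mp hsmκ
  have hinj : Function.Injective (kerCotangentToTensor (O₁ ⧸ maximalIdeal O₁)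
      (O₂ ⧸ (maximalIdeal O₁).map (algebraMap O₁ O₂)) (ResidueField O₂)) :=
    Function.HasLeftInverse.injective ⟨l, LinearMap.congr_fun hl⟩
  have hloc : IsLocalRing (O₂ ⧸ (maximalIdeal O₁).map (algebraMap O₁ O₂)) := by
    have : Nontrivial (O₂ ⧸ (maximalIdeal O₁).map (algebraMap O₁ O₂)) :=
      Ideal.Quotient.nontrivial_iff.mpr (fun h =>
        (maximalIdeal.isMaximal O₂).ne_top (top_le_iff.mp (h ▸ hI)))
    exact IsLocalRing.of_surjective' (Ideal.Quotient.mk _) Ideal.Quotient.mk_surjective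
  obtain ⟨t, ht, htI⟩ := hne
  have htK : Ideal.Quotient.mk ((maximalIdeal O₁).map (algebraMap O₁ O₂)) t ∈
      RingHom.ker (algebraMap (O₂ ⧸ (maximalIdeal O₁).map (algebraMap O₁ O₂))
        (ResidueField O₂)) := by
    rw [RingHom.mem_ker]
    show residue O₂ t = 0
    exact (residue_eq_zero_iff t).mpr ht
  have htne : Ideal.Quotient.mk ((maximalIdeal O₁).map (algebraMap O₁ O₂)) t ≠ 0 :=
    fun h0 => htI (Ideal.Quotient.eq_zero_iff_mem.mp h0)
  have hKbot : RingHom.ker (algebraMap (O₂ ⧸ (maximalIdeal O₁).map (algebraMap O₁ O₂))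
      (ResidueField O₂)) ≠ ⊥ := fun h => htne (by rw [h] at htK; exact htK)
  have hKtop : RingHom.ker (algebraMap (O₂ ⧸ (maximalIdeal O₁).map (algebraMap O₁ O₂))
      (ResidueField O₂)) ≠ ⊤ := RingHom.ker_ne_top _
  have hcot : ¬ Subsingleton (RingHom.ker (algebraMap
      (O₂ ⧸ (maximalIdeal O₁).map (algebraMap O₁ O₂)) (ResidueField O₂))).Cotangent := by
    rw [Ideal.cotangent_subsingleton_iff, Ideal.isIdempotentElem_iff_eq_bot_or_top_of_isLocalRing]
    exact fun h => h.elim hKbot hKtop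
  rw [not_subsingleton_iff_nontrivial] at hcot
  obtain ⟨c, hc⟩ := exists_ne (0 : (RingHom.ker (algebraMap
      (O₂ ⧸ (maximalIdeal O₁).map (algebraMap O₁ O₂)) (ResidueField O₂))).Cotangent)
  obtain ⟨⟨b, hbK⟩, rfl⟩ := Ideal.toCotangent_surjective _ c
  obtain ⟨h, rfl⟩ := Ideal.Quotient.mk_surjective b
  have hne' : kerCotangentToTensor (O₁ ⧸ maximalIdeal O₁)
      (O₂ ⧸ (maximalIdeal O₁).map (algebraMap O₁ O₂)) (ResidueField O₂)
      (Ideal.toCotangent _ ⟨Ideal.Quotient.mk _ h, hbK⟩) ≠ 0 :=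
    fun h0 => hc (hinj (h0.trans (map_zero _).symm))
  rw [kerCotangentToTensor_toCotangent] at hne'
  refine ⟨h, ?_, ?_⟩
  · have h0 : residue O₂ h = 0 := hbK
    exact (residue_eq_zero_iff h).mp h0
  · exact one_tmul_D_ne_zero_of_map (A := O₁) (R := O₂) (O₁ := O₁ ⧸ maximalIdeal O₁)
      (O₂ := O₂ ⧸ (maximalIdeal O₁).map (algebraMap O₁ O₂)) (K₁ := ResidueField O₂)
      (K₂ := ResidueField O₂) (AlgHom.id O₂ (ResidueField O₂)) h hne'

end Groth.Agent.Lib.Helper7.SmoothResidue
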