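import Mathlib.AlgebraicGeometry.Morphisms.FormallyUnramified
import Mathlib.CategoryTheory.Monoidal.Cartesian.Over
import Groth.Agent.Lib.Helper7.FormallyEtaleLift

/-!
# Base change of a square-zero affine thickening is a nilpotent thickening

If `j : P₀ ⟶ P` is the base change of `Spec.map φ` for a surjective ring map `φ` with square zero
kernel, then `j` is a closed immersion with `j.ker ^ 2 = ⊥`.  Combined with Mathlib's
`FormallyUnramified.hom_ext` this gives uniqueness of lifts through formally unramified morphisms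
against `B ◁ t` in `Over S`.
-/

set_option autoImplicit false

namespace Groth.Agent.Lib.Helper7.ThickeningBC

open AlgebraicGeometry CategoryTheory Limits TopologicalSpace MonoidalCategory
  CartesianMonoidalCategory

universe u

/-- Affine-local computation: the kernel of `j.app W` lies in the extension of `ker φ`. -/
theorem ker_app_le_map {P P₀ : Scheme.{u}} {R R' : CommRingCat.{u}} (φ : R ⟶ R')
    (hφ : Function.Surjective φ.hom)
    {j : P₀ ⟶ P} {q₀ : P₀ ⟶ Spec R'} {q : P ⟶ Spec R} (h : IsPullback j q₀ q (Spec.map φ))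
    [IsClosedImmersion j] {W : P.Opens} (hW : IsAffineOpen W) :
    RingHom.ker (j.app W).hom ≤
      Ideal.map (Spec.preimage (hW.fromSpec ≫ q)).hom (RingHom.ker φ.hom) := by
  set θ : R ⟶ Γ(P, W) := Spec.preimage (hW.fromSpec ≫ q) with hθdef
  have hθ : Spec.map θ = hW.fromSpec ≫ q := Spec.map_preimage _
  set J : Ideal Γ(P, W) := Ideal.map θ.hom (RingHom.ker φ.hom) with hJ
  let π : Γ(P, W) ⟶ CommRingCat.of (Γ(P, W) ⧸ J) := CommRingCat.ofHom (Ideal.Quotient.mk J)
  have hker : RingHom.ker φ.hom ≤ RingHom.ker ((Ideal.Quotient.mk J).comp θ.hom) := by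
    intro a ha
    rw [RingHom.mem_ker, RingHom.comp_apply, Ideal.Quotient.eq_zero_iff_mem]
    exact Ideal.mem_map_of_mem _ ha
  let ψ' : R' →+* Γ(P, W) ⧸ J := RingHom.liftOfSurjective φ.hom hφ ⟨_, hker⟩
  have hψ' : ψ'.comp φ.hom = (Ideal.Quotient.mk J).comp θ.hom :=
    RingHom.liftOfRightInverse_comp _ _ _ _
  let ψ : R' ⟶ CommRingCat.of (Γ(P, W) ⧸ J) := CommRingCat.ofHom ψ'
  have hψ : φ ≫ ψ = θ ≫ π := by
    ext x
    exact congr($hψ' x)
  have hsq : (Spec.map π ≫ hW.fromSpec) ≫ q = Spec.map ψ ≫ Spec.map φ := by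
    rw [Category.assoc, ← hθ, ← Spec.map_comp, ← Spec.map_comp, hψ]
  let l := h.lift (Spec.map π ≫ hW.fromSpec) (Spec.map ψ) hsq
  have hl : l ≫ j = Spec.map π ≫ hW.fromSpec := h.lift_fst _ _ _
  have hrange : Set.range l ⊆ ((j ⁻¹ᵁ W : P₀.Opens) : Set P₀) := by
    rintro _ ⟨p, rfl⟩
    show j (l p) ∈ W
    rw [← Scheme.Hom.comp_apply, hl, Scheme.Hom.comp_apply]
    have : hW.fromSpec (Spec.map π p) ∈ Set.range hW.fromSpec := ⟨_, rfl⟩
    rwa [hW.range_fromSpec] at this
  obtain ⟨δ, hδ⟩ := exists_SpecMap_comp_fromSpec (hW.preimage j) l hrange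
  have Et : Spec.map (j.app W) ≫ hW.fromSpec = (hW.preimage j).fromSpec ≫ j := by
    have := IsAffineOpen.SpecMap_appLE_fromSpec j hW (hW.preimage j) le_rfl
    rwa [← Scheme.Hom.app_eq_appLE] at this
  have hπ : π = j.app W ≫ δ := by
    have h3 : Spec.map π ≫ hW.fromSpec = Spec.map (j.app W ≫ δ) ≫ hW.fromSpec := by
      rw [← hl, hδ, Category.assoc, ← Et, Spec.map_comp, Category.assoc]
    rw [cancel_mono] at h3
    exact Spec.map_injective h3
  intro x hx
  rw [RingHom.mem_ker] at hx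
  have h0 : π.hom x = 0 := by
    rw [hπ, CommRingCat.hom_comp, RingHom.comp_apply, hx, map_zero]
  exact Ideal.Quotient.eq_zero_iff_mem.mp h0

/-- The base change of a square-zero affine thickening has square-zero ideal sheaf. -/
theorem ker_sq_eq_bot {P P₀ : Scheme.{u}} {R R' : CommRingCat.{u}} (φ : R ⟶ R')
    (hφ : Function.Surjective φ.hom) (hsq : RingHom.ker φ.hom ^ 2 = ⊥)
    {j : P₀ ⟶ P} {q₀ : P₀ ⟶ Spec R'} {q : P ⟶ Spec R} (h : IsPullback j q₀ q (Spec.map φ))
    [IsClosedImmersion j] : j.ker ^ 2 = ⊥ := by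
  apply Scheme.IdealSheafData.ext
  funext W
  rw [Scheme.IdealSheafData.ideal_pow, Pi.pow_apply, Scheme.IdealSheafData.ideal_bot,
    Pi.bot_apply, Scheme.Hom.ker_apply, eq_bot_iff]
  calc RingHom.ker (j.app W.1).hom ^ 2
      ≤ (Ideal.map (Spec.preimage (W.2.fromSpec ≫ q)).hom (RingHom.ker φ.hom)) ^ 2 :=
        Ideal.pow_right_mono (ker_app_le_map φ hφ h W.2) 2
    _ = ⊥ := by rw [← Ideal.map_pow, hsq, Ideal.map_bot]

theorem isClosedImmersion_of_isPullback {P P₀ : Scheme.{u}} {R R' : CommRingCat.{u}} (φ : R ⟶ R')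
    (hφ : Function.Surjective φ.hom)
    {j : P₀ ⟶ P} {q₀ : P₀ ⟶ Spec R'} {q : P ⟶ Spec R} (h : IsPullback j q₀ q (Spec.map φ)) :
    IsClosedImmersion j := by
  haveI : IsClosedImmersion (Spec.map φ) := IsClosedImmersion.spec_of_surjective _ hφ
  exact MorphismProperty.of_isPullback h.flip inferInstance

/-- `X ◁ f` is the base change of `f` along the second projection. -/
theorem isPullback_whiskerLeft_snd {S : Scheme.{u}} (X : Over S) {Y Z : Over S} (f : Y ⟶ Z) :
    IsPullback (X ◁ f).left (snd X Y).left (snd X Z).left f.left := by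
  have hright : IsPullback (pullback.fst X.hom Z.hom) (pullback.snd X.hom Z.hom) X.hom Z.hom :=
    IsPullback.of_hasPullback _ _
  have houter : IsPullback ((X ◁ f).left ≫ pullback.fst X.hom Z.hom) (pullback.snd X.hom Y.hom)
      X.hom (f.left ≫ Z.hom) := by
    rw [Over.whiskerLeft_left_fst, Over.w f]
    exact IsPullback.of_hasPullback _ _
  exact IsPullback.of_right houter (Over.whiskerLeft_left_snd f) hright

/-- Uniqueness of lifts through a formally unramified morphism against `B ◁ t`, where `t` is a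
square-zero affine thickening, in `Over S`. -/
theorem hom_ext_whiskerLeft {S : Scheme.{u}} {B X Y : Over S} (f : X ⟶ Y)
    [FormallyUnramified f.left] {R R' : CommRingCat.{u}} (φ : R ⟶ R')
    (hφ : Function.Surjective φ.hom) (hsq : RingHom.ker φ.hom ^ 2 = ⊥)
    {T T₀ : Over S} (t : T₀ ⟶ T) (eT : T.left = Spec R) (eT₀ : T₀.left = Spec R')
    (ht : t.left = eqToHom eT₀ ≫ Spec.map φ ≫ eqToHom eT.symm)
    (φ₁ φ₂ : B ⊗ T ⟶ X) (h1 : (B ◁ t) ≫ φ₁ = (B ◁ t) ≫ φ₂) (h2 : φ₁ ≫ f = φ₂ ≫ f) :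
    φ₁ = φ₂ := by
  have hpb := isPullback_whiskerLeft_snd B t
  have hpb' : IsPullback (B ◁ t).left ((snd B T₀).left ≫ eqToHom eT₀)
      ((snd B T).left ≫ eqToHom eT) (Spec.map φ) := by
    refine IsPullback.of_iso hpb (Iso.refl _) (Iso.refl _) (eqToIso eT₀) (eqToIso eT) ?_ ?_ ?_ ?_
    · simp
    · simp
    · simp
    · rw [ht]; simp
  haveI := isClosedImmersion_of_isPullback φ hφ hpb'
  have hnil : IsNilpotent (B ◁ t).left.ker := ⟨2, ker_sq_eq_bot φ hφ hsq hpb'⟩
  ext
  exact FormallyUnramified.hom_ext (B ◁ t).left hnil f.left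
    (congrArg (fun m => m.left) h1) (congrArg (fun m => m.left) h2)

end Groth.Agent.Lib.Helper7.ThickeningBC
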