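import Mathlib
import Groth.Agent.Lib.Helper7.PullbackTrdeg

/-!
# Helper7: transcendence bases in composita

* `isAlgebraic_adjoin_map`, `isAlgebraic_adjoin_of_closure_eq_top`: transport of algebraicity over
  adjoined subalgebras;
* `isTranscendenceBasis_map_of_le_trdeg`, `isTranscendenceBasis_map_base`;
* `exists_compositum_algebraicIndependent` (and the ring hom form
  `exists_compositum_algebraicIndependent'`): for `F/k₀` with finite transcendence basis `B` and
  `K_i = k_i F` (`i = 1, 2`) with `trdeg_{k_i} K_i ≥ #B`, a common overfield of `K₁`, `K₂` over `F`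
  in which `B` is algebraically independent over the compositum `k₁ k₂`.
-/

set_option autoImplicit false
set_option linter.style.haveILetI false
universe u
open Cardinal

namespace Groth.Agent.Lib.Helper7.TrdegCompositum

section

variable {k K k' L : Type u} [Field k] [Field K] [Field k'] [Field L]
    [Algebra k K] [Algebra k' L]

/-- the subfield of elements of `L` algebraic over a subalgebra `A₀`. -/
noncomputable def algSubfield (A₀ : Subalgebra k' L) : IntermediateField k' L :=
  Subalgebra.toIntermediateField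
    ((Subalgebra.algebraicClosure A₀ L).restrictScalars k')
    (fun _ hx => IsAlgebraic.inv hx)

theorem mem_algSubfield {A₀ : Subalgebra k' L} {y : L} :
    y ∈ algSubfield A₀ ↔ IsAlgebraic A₀ y := Iff.rfl

/-- transport of algebraicity over an adjoined subalgebra along compatible field maps -/
theorem isAlgebraic_adjoin_map (θ : k →+* k') (α : K →+* L)
    (hc : α.comp (algebraMap k K) = (algebraMap k' L).comp θ) {ι : Type*} (s : ι → K)
    (a : K) (ha : IsAlgebraic (Algebra.adjoin k (Set.range s)) a) :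
    IsAlgebraic (Algebra.adjoin k' (Set.range (α ∘ s))) (α a) := by
  set t : Set L := Set.range (α ∘ s) with ht
  have hmap : ∀ b ∈ Algebra.adjoin k (Set.range s), α b ∈ Algebra.adjoin k' t := by
    intro b hb
    induction hb using Algebra.adjoin_induction with
    | mem x hx =>
      obtain ⟨i, rfl⟩ := hx
      exact Algebra.subset_adjoin ⟨i, rfl⟩
    | algebraMap r =>
      have : α (algebraMap k K r) = algebraMap k' L (θ r) := congr($hc r)
      rw [this]
      exact Subalgebra.algebraMap_mem _ _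
    | add x y _ _ hx hy => rw [map_add]; exact add_mem hx hy
    | mul x y _ _ hx hy => rw [map_mul]; exact mul_mem hx hy
  let f : Algebra.adjoin k (Set.range s) →+* Algebra.adjoin k' t :=
    (α.comp (Algebra.adjoin k (Set.range s)).val.toRingHom).codRestrict _ (fun b => hmap b.1 b.2)
  have hf : Function.Injective f := by
    intro a b hab
    have : α a.1 = α b.1 := congrArg Subtype.val hab
    exact Subtype.ext (α.injective this)
  have hfg : RingHom.comp (algebraMap (Algebra.adjoin k' t) L) f =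
      RingHom.comp α (algebraMap (Algebra.adjoin k (Set.range s)) K) := rfl
  exact ha.ringHom_of_comp_eq f α hf hfg

/-- if `L` is generated as a field by `k'` and the image of `K`, and `K` is algebraic over
`k[s]`, then `L` is algebraic over `k'[α s]`. -/
theorem isAlgebraic_adjoin_of_closure_eq_top (θ : k →+* k') (α : K →+* L)
    (hc : α.comp (algebraMap k K) = (algebraMap k' L).comp θ) {ι : Type*} (s : ι → K)
    (hs : Algebra.IsAlgebraic (Algebra.adjoin k (Set.range s)) K)
    (htop : Subfield.closure (Set.range (algebraMap k' L) ∪ Set.range α) = ⊤) :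
    Algebra.IsAlgebraic (Algebra.adjoin k' (Set.range (α ∘ s))) L := by
  have hE : Subfield.closure (Set.range (algebraMap k' L) ∪ Set.range α) ≤
      (algSubfield (Algebra.adjoin k' (Set.range (α ∘ s)))).toSubfield := by
    rw [Subfield.closure_le]
    rintro _ (⟨c, rfl⟩ | ⟨a, rfl⟩)
    · exact (algSubfield _).algebraMap_mem c
    · exact isAlgebraic_adjoin_map θ α hc s a (hs.isAlgebraic a)
  rw [htop] at hE
  exact ⟨fun y => hE (Subfield.mem_top y)⟩

end

section H

variable {k₀ F k₁ K₁ : Type u} [Field k₀] [Field F] [Field k₁] [Field K₁]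
  [Algebra k₀ F] [Algebra k₀ k₁] [Algebra F K₁] [Algebra k₁ K₁] [Algebra k₀ K₁]
  [IsScalarTower k₀ F K₁] [IsScalarTower k₀ k₁ K₁]

omit [IsScalarTower k₀ F K₁] [IsScalarTower k₀ k₁ K₁] in
theorem comp_algebraMap_eq [IsScalarTower k₀ F K₁] [IsScalarTower k₀ k₁ K₁] :
    (algebraMap F K₁).comp (algebraMap k₀ F) = (algebraMap k₁ K₁).comp (algebraMap k₀ k₁) := by
  rw [← IsScalarTower.algebraMap_eq, ← IsScalarTower.algebraMap_eq]

/-- Step 1: a finite transcendence basis of `F/k₀` maps to a transcendence basis of `K₁/k₁` when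
`K₁ = k₁ F` and the transcendence degree does not drop. -/
theorem isTranscendenceBasis_map_of_le_trdeg {ι : Type u} [Finite ι] (B : ι → F)
    (hB : IsTranscendenceBasis k₀ B)
    (gen : Subfield.closure (Set.range (algebraMap k₁ K₁) ∪ Set.range (algebraMap F K₁)) = ⊤)
    (h : #ι ≤ Algebra.trdeg k₁ K₁) :
    IsTranscendenceBasis k₁ (algebraMap F K₁ ∘ B) := by
  haveI := isAlgebraic_adjoin_of_closure_eq_top (algebraMap k₀ k₁) (algebraMap F K₁)
    comp_algebraMap_eq B hB.isAlgebraic gen
  exact Algebra.IsAlgebraic.isTranscendenceBasis_of_le_trdeg_of_finite k₁ _ h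

/-- Step 3: a transcendence basis of `k₁/k₀` is a transcendence basis of `K₁/F`, if `B` is a
transcendence basis of `F/k₀` which stays one in `K₁/k₁` and `K₁ = k₁ F`. -/
theorem isTranscendenceBasis_map_base {ι ι₁ : Type u} (B : ι → F)
    (hB : IsTranscendenceBasis k₀ B) (hB₁ : IsTranscendenceBasis k₁ (algebraMap F K₁ ∘ B))
    (C : ι₁ → k₁) (hC : IsTranscendenceBasis k₀ C)
    (gen : Subfield.closure (Set.range (algebraMap F K₁) ∪ Set.range (algebraMap k₁ K₁)) = ⊤) :
    IsTranscendenceBasis F (algebraMap k₁ K₁ ∘ C) := by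
  rw [isTranscendenceBasis_iff_algebraicIndependent_isAlgebraic]
  constructor
  · -- algebraic independence
    have hD : AlgebraicIndependent k₀ (Sum.elim (algebraMap F K₁ ∘ B) (algebraMap k₁ K₁ ∘ C)) :=
      (hC.sumElim_comp hB₁).1
    have hD' : AlgebraicIndependent k₀ (Sum.elim (algebraMap k₁ K₁ ∘ C) (algebraMap F K₁ ∘ B)) := by
      have := hD.comp (Equiv.sumComm ι₁ ι) (Equiv.sumComm ι₁ ι).injective
      convert this using 1
      funext i
      cases i <;> rfl
    have h1 := (AlgebraicIndependent.sumElim_iff.mp hD').2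
    -- transfer to `adjoin k₀ (range B) ⊆ F`
    have h2 : AlgebraicIndependent (Algebra.adjoin k₀ (Set.range B)) (algebraMap k₁ K₁ ∘ C) := by
      have hmap : ∀ b ∈ Algebra.adjoin k₀ (Set.range B),
          algebraMap F K₁ b ∈ Algebra.adjoin k₀ (Set.range (algebraMap F K₁ ∘ B)) := by
        intro b hb
        induction hb using Algebra.adjoin_induction with
        | mem x hx =>
          obtain ⟨i, rfl⟩ := hx
          exact Algebra.subset_adjoin ⟨i, rfl⟩
        | algebraMap r =>
          rw [← IsScalarTower.algebraMap_apply]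
          exact Subalgebra.algebraMap_mem _ _
        | add x y _ _ hx hy => rw [map_add]; exact add_mem hx hy
        | mul x y _ _ hx hy => rw [map_mul]; exact mul_mem hx hy
      let f : Algebra.adjoin k₀ (Set.range B) →+*
          Algebra.adjoin k₀ (Set.range (algebraMap F K₁ ∘ B)) :=
        ((algebraMap F K₁).comp (Algebra.adjoin k₀ (Set.range B)).val.toRingHom).codRestrict _
          (fun b => hmap b.1 b.2)
      have hf : Function.Injective f := by
        intro a b hab
        have : algebraMap F K₁ a.1 = algebraMap F K₁ b.1 := congrArg Subtype.val hab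
        exact Subtype.ext ((algebraMap F K₁).injective this)
      refine AlgebraicIndependent.of_ringHom_of_comp_eq (S := Algebra.adjoin k₀ (Set.range (algebraMap F K₁ ∘ B))) (B := K₁) f (RingHom.id K₁) h1 hf ?_
      rfl
    haveI : Algebra.IsAlgebraic (Algebra.adjoin k₀ (Set.range B)) F := hB.isAlgebraic
    exact h2.extendScalars F
  · exact isAlgebraic_adjoin_of_closure_eq_top (algebraMap k₀ F) (algebraMap k₁ K₁)
      comp_algebraMap_eq.symm C hC.isAlgebraic gen

end H


section Main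

open Groth.Agent.Lib.Helper7.PullbackTrdeg

variable {k₀ F k₁ K₁ k₂ K₂ : Type u} [Field k₀] [Field F] [Field k₁] [Field K₁] [Field k₂] [Field K₂]
  [Algebra k₀ F] [Algebra k₀ k₁] [Algebra k₀ k₂] [Algebra F K₁] [Algebra F K₂]
  [Algebra k₁ K₁] [Algebra k₂ K₂] [Algebra k₀ K₁] [Algebra k₀ K₂]
  [IsScalarTower k₀ F K₁] [IsScalarTower k₀ k₁ K₁] [IsScalarTower k₀ F K₂] [IsScalarTower k₀ k₂ K₂]

/-- Given `F/k₀` of finite transcendence degree with basis `B`, and two "base changes"
`K₁ = k₁ F`, `K₂ = k₂ F` in which the transcendence degree does not drop, there is a common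
overfield `L` of `K₁`, `K₂` over `F` in which `B` stays algebraically independent over the
compositum of `k₁` and `k₂`. -/
theorem exists_compositum_algebraicIndependent {ι : Type u} [Finite ι] (B : ι → F)
    (hB : IsTranscendenceBasis k₀ B)
    (gen₁ : Subfield.closure (Set.range (algebraMap k₁ K₁) ∪ Set.range (algebraMap F K₁)) = ⊤)
    (gen₂ : Subfield.closure (Set.range (algebraMap k₂ K₂) ∪ Set.range (algebraMap F K₂)) = ⊤)
    (h₁ : #ι ≤ Algebra.trdeg k₁ K₁) (h₂ : #ι ≤ Algebra.trdeg k₂ K₂) :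
    ∃ (L : Type u) (_ : Field L) (j₁ : K₁ →+* L) (j₂ : K₂ →+* L),
      j₁.comp (algebraMap F K₁) = j₂.comp (algebraMap F K₂) ∧
      ∀ (M : Type u) [Field M] [Algebra M L],
        (∀ t : M, algebraMap M L t ∈ Subfield.closure
          (Set.range (j₁.comp (algebraMap k₁ K₁)) ∪ Set.range (j₂.comp (algebraMap k₂ K₂)))) →
        AlgebraicIndependent M (j₁ ∘ algebraMap F K₁ ∘ B) := by
  have hB₁ := isTranscendenceBasis_map_of_le_trdeg B hB gen₁ h₁
  have hB₂ := isTranscendenceBasis_map_of_le_trdeg B hB gen₂ h₂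
  obtain ⟨ι₂, C₂, hC₂⟩ := exists_isTranscendenceBasis' k₀ k₂
  have hc₂ : IsTranscendenceBasis F (algebraMap k₂ K₂ ∘ C₂) :=
    isTranscendenceBasis_map_base B hB hB₂ C₂ hC₂ (by rwa [Set.union_comm])
  obtain ⟨L, _, _, α, hα, hind⟩ :=
    exists_field_algebraicIndependent (algebraMap F K₁) (algebraMap k₂ K₂ ∘ C₂) hc₂
  refine ⟨L, inferInstance, algebraMap K₁ L, α, hα.symm, ?_⟩
  intro M _ _ hM
  letI : Algebra k₁ L := ((algebraMap K₁ L).comp (algebraMap k₁ K₁)).toAlgebra
  haveI : IsScalarTower k₁ K₁ L := IsScalarTower.of_algebraMap_eq (fun _ => rfl)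
  have h1 : AlgebraicIndependent k₁
      (Sum.elim (α ∘ (algebraMap k₂ K₂ ∘ C₂)) (algebraMap K₁ L ∘ (algebraMap F K₁ ∘ B))) :=
    hB₁.1.sumElim_comp hind
  have h2 : AlgebraicIndependent k₁
      (Sum.elim (algebraMap K₁ L ∘ (algebraMap F K₁ ∘ B)) (α ∘ (algebraMap k₂ K₂ ∘ C₂))) := by
    have := h1.comp (Equiv.sumComm ι ι₂) (Equiv.sumComm ι ι₂).injective
    convert this using 1
    funext i
    cases i <;> rfl
  have h3 := (AlgebraicIndependent.sumElim_iff.mp h2).2
  have hcomm : (α.comp (algebraMap k₂ K₂)).comp (algebraMap k₀ k₂) =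
      (algebraMap k₁ L).comp (algebraMap k₀ k₁) := by
    ext c
    show α (algebraMap k₂ K₂ (algebraMap k₀ k₂ c)) =
      algebraMap K₁ L (algebraMap k₁ K₁ (algebraMap k₀ k₁ c))
    have e1 : algebraMap k₂ K₂ (algebraMap k₀ k₂ c) = algebraMap F K₂ (algebraMap k₀ F c) := by
      rw [← IsScalarTower.algebraMap_apply k₀ k₂ K₂, ← IsScalarTower.algebraMap_apply k₀ F K₂]
    have e2 : algebraMap k₁ K₁ (algebraMap k₀ k₁ c) = algebraMap F K₁ (algebraMap k₀ F c) := by
      rw [← IsScalarTower.algebraMap_apply k₀ k₁ K₁, ← IsScalarTower.algebraMap_apply k₀ F K₁]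
    rw [e1, e2]
    exact congr($hα (algebraMap k₀ F c))
  have hM₀ : Subfield.closure (Set.range ((algebraMap K₁ L).comp (algebraMap k₁ K₁)) ∪
      Set.range (α.comp (algebraMap k₂ K₂))) ≤
      (algSubfield (Algebra.adjoin k₁ (Set.range (α ∘ (algebraMap k₂ K₂ ∘ C₂))))).toSubfield := by
    rw [Subfield.closure_le]
    rintro _ (⟨c, rfl⟩ | ⟨t, rfl⟩)
    · exact (algSubfield _).algebraMap_mem c
    · exact isAlgebraic_adjoin_map (algebraMap k₀ k₁) (α.comp (algebraMap k₂ K₂)) hcomm C₂ t
        (hC₂.isAlgebraic.isAlgebraic t)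
  have h4 : AlgebraicIndependent (Subalgebra.algebraicClosure
      (Algebra.adjoin k₁ (Set.range (α ∘ (algebraMap k₂ K₂ ∘ C₂)))) L)
      (algebraMap K₁ L ∘ (algebraMap F K₁ ∘ B)) := h3.subalgebraAlgebraicClosure
  let f : M →+* Subalgebra.algebraicClosure
      (Algebra.adjoin k₁ (Set.range (α ∘ (algebraMap k₂ K₂ ∘ C₂)))) L :=
    (algebraMap M L).codRestrict _ (fun t => hM₀ (hM t))
  refine AlgebraicIndependent.of_ringHom_of_comp_eq f (RingHom.id L) h4 ?_ rfl
  exact f.injective

end Main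


section RingHomForm

variable {k₀ F k₁ K₁ k₂ K₂ : Type u} [Field k₀] [Field F] [Field k₁] [Field K₁] [Field k₂] [Field K₂]

/-- ring hom form of `exists_compositum_algebraicIndependent` -/
theorem exists_compositum_algebraicIndependent' (a₀ : k₀ →+* F) (b₁ : k₀ →+* k₁) (b₂ : k₀ →+* k₂)
    (φ₁ : F →+* K₁) (φ₂ : F →+* K₂) (ψ₁ : k₁ →+* K₁) (ψ₂ : k₂ →+* K₂)
    (comm₁ : φ₁.comp a₀ = ψ₁.comp b₁) (comm₂ : φ₂.comp a₀ = ψ₂.comp b₂)
    {ι : Type u} [Finite ι] (B : ι → F)
    (hB : letI := a₀.toAlgebra; IsTranscendenceBasis k₀ B)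
    (gen₁ : Subfield.closure (Set.range ψ₁ ∪ Set.range φ₁) = ⊤)
    (gen₂ : Subfield.closure (Set.range ψ₂ ∪ Set.range φ₂) = ⊤)
    (h₁ : letI := ψ₁.toAlgebra; #ι ≤ Algebra.trdeg k₁ K₁)
    (h₂ : letI := ψ₂.toAlgebra; #ι ≤ Algebra.trdeg k₂ K₂) :
    ∃ (L : Type u) (_ : Field L) (j₁ : K₁ →+* L) (j₂ : K₂ →+* L),
      j₁.comp φ₁ = j₂.comp φ₂ ∧
      ∀ (M : Type u) [Field M] (m : M →+* L),
        (∀ t : M, m t ∈ Subfield.closure
          (Set.range (j₁.comp ψ₁) ∪ Set.range (j₂.comp ψ₂))) →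
        letI := m.toAlgebra
        AlgebraicIndependent M (j₁ ∘ φ₁ ∘ B) := by
  letI : Algebra k₀ F := a₀.toAlgebra
  letI : Algebra k₀ k₁ := b₁.toAlgebra
  letI : Algebra k₀ k₂ := b₂.toAlgebra
  letI : Algebra F K₁ := φ₁.toAlgebra
  letI : Algebra F K₂ := φ₂.toAlgebra
  letI : Algebra k₁ K₁ := ψ₁.toAlgebra
  letI : Algebra k₂ K₂ := ψ₂.toAlgebra
  letI : Algebra k₀ K₁ := (φ₁.comp a₀).toAlgebra
  letI : Algebra k₀ K₂ := (φ₂.comp a₀).toAlgebra
  haveI : IsScalarTower k₀ F K₁ := IsScalarTower.of_algebraMap_eq (fun _ => rfl)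
  haveI : IsScalarTower k₀ F K₂ := IsScalarTower.of_algebraMap_eq (fun _ => rfl)
  haveI : IsScalarTower k₀ k₁ K₁ := IsScalarTower.of_algebraMap_eq (fun c => congr($comm₁ c))
  haveI : IsScalarTower k₀ k₂ K₂ := IsScalarTower.of_algebraMap_eq (fun c => congr($comm₂ c))
  obtain ⟨L, hL, j₁, j₂, hj, hind⟩ :=
    exists_compositum_algebraicIndependent (k₀ := k₀) (F := F) (k₁ := k₁) (K₁ := K₁) (k₂ := k₂)
      (K₂ := K₂) B hB gen₁ gen₂ h₁ h₂
  refine ⟨L, hL, j₁, j₂, hj, ?_⟩
  intro M _ m hm
  letI := m.toAlgebra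
  exact hind M hm

end RingHomForm

end Groth.Agent.Lib.Helper7.TrdegCompositum
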